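import Cfsg.Agent.H84.J4N.Rewrite

/-!
Generated data: derivations among the conjugates of the involution s.
-/

set_option autoImplicit false
set_option maxRecDepth 100000

namespace H84.J4N

/-- the base line of three sextets -/
def eLine : Rel := ([[0,1,0,1,0,1,0,2,0,2,0,2], [0,1,0,2,0,1,0,1,0,1,0,1,0,1,0,1,0,2,0,1,0,1,0,2], [0,1,0,1,0,1,0,1,0,2,0,1,0,1,0,1]], [])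

/-- sextets in a trio commute -/
def eNear : Rel × Rel × List Move :=
  (([[], [0,1,0,2,0,1,0,2,0,2,0,2,0,1,0,2,0,2,0,1], [], [0,1,0,2,0,1,0,2,0,2,0,2,0,1,0,2,0,2,0,1]], []), ([], []), [
  (2,0,0,[1,0,1,0,2,0,1,0,1,0,1,0,2,0,1,0,1,0,2,0,1,0,2,0,2,0,2,0,1,0,1,0,1,0,2,0,1,0,1,0,1,0,1,0,1,0,2,0,1,0,1,0,2,0,1,0,2,0,2,0,2,0,1,0,1,0,1,0,2,0,1,0,1,0,1,0,1,0,1,0,2,0,1,0,2,0,1,0,1,0,1,0,2,0,1,0,2,0,1,0,1,0,1,0,2,0,1,0,1,0,1,0,1,0,2,0,2,0,2,0,2]),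
  (0,2,0,[]),
  (0,1,0,[]),
  (2,1,0,[1,0,1,0,2,0,1,0,1,0,1,0,2,0,1,0,1,0,2,0,1,0,2,0,2,0,2,0,1,0,1,0,1,0,2,0,1,0,1,0,1,0,1,0,1,0,2,0,1,0,1,0,2,0,1,0,2,0,2,0,2,0,1,0,1,0,1,0,2,0,1,0,1,0,1,0,1,0,1,0,2,0,1,0,2,0,1,0,1,0,1,0,2,0,1,0,2,0,1,0,1,0,1,0,2,0,1,0,1,0,1,0,1,0,2,0,2,0,2,0,2]),
  (0,3,0,[]),
  (0,2,0,[]),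
  (0,0,0,[])])

/-- sextets in an octad commute -/
def eGrid : Rel × Rel × List Move :=
  (([[], [0,1,0,2,0,2,0,1,0,2,0,2,0,1,0,2,0], [], [0,1,0,2,0,2,0,1,0,2,0,2,0,1,0,2,0]], []), ([], []), [
  (1,2,0,[0,1,0,2,0,2,0,1,0,2,0,2,0,2,0,2,0,2,0]),
  (1,0,0,[0,2,0,1,0,2,0,2,0,1,0,2,0,1,0,2,0,2,0]),
  (2,1,0,[1,0,1,0,2,0,1,0,1,0,1,0,2,0,1,0,2,0,1,0,1,0,1,0,2,0,1,0,2,0,1,0,1,0,1,0,2,0,1,0,1,0,2,0,1,0,2,0,2,0,2,0,1,0,1,0,1,0,1,0,1,0,2,0,1,0,1,0,1,0,2,0,1,0,1,0,2,0,2]),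
  (0,3,0,[]),
  (0,2,0,[]),
  (2,2,0,[1,0,1,0,2,0,1,0,1,0,1,0,2,0,1,0,1,0,2,0,1,0,2,0,2,0,2,0,1,0,1,0,1,0,2,0,1,0,1,0,1,0,1,0,1,0,2,0,1,0,1,0,2,0,1,0,2,0,2,0,2,0,1,0,1,0,1,0,2,0,1,0,1,0,1,0,1,0,1,0,2,0,1,0,1,0,2,0,1,0,2,0,2,0,2,0,1,0,1,0,1,0,2,0,1,0,1,0,1,0,1,0,1,0,2,0,1,0,1,0,2,0,1,0,2,0,2,0,2,0,1,0,1,0,2,0,2,0,2,0,1,0,1,0,1,0,1,0,1,0,2]),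
  (0,4,0,[]),
  (0,3,0,[]),
  (2,1,0,[1,0,1,0,2,0,1,0,1,0,1,0,2,0,1,0,1,0,2,0,1,0,2,0,2,0,2,0,1,0,1,0,1,0,2,0,1,0,1,0,1,0,1,0,1,0,2,0,1,0,2,0,1,0,1,0,1,0,2,0,1,0,1,0,2,0,1,0,2,0,2,0,2,0,1,0,1,0,1,0,2,0,1,0,1,0,1,0,1,0,1,0,2,0,1,0,1,0,2,0,1,0,2,0,2,0,2,0,1,0,1,0,1,0,2,0,1,0,1,0,1,0,1,0,1,0,2,0,1,0,2,0,1,0,1,0,1,0,2,0,1,0,1,0,2,0,1,0,1,0,2,0,2,0,1,0,1,0,1,0,1,0,1,0,2,0,1,0]),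
  (0,3,0,[]),
  (0,2,0,[]),
  (2,1,0,[1,0,1,0,2,0,1,0,1,0,1,0,2,0,1,0,2,0,1,0,1,0,1,0,2,0,1,0,2,0,1,0,1,0,1,0,2,0,1,0,1,0,2]),
  (0,3,0,[]),
  (2,1,0,[1,0,1,0,2,0,1,0,1,0,1,0,2,0,1,0,2,0,1,0,1,0,1,0,2,0,1,0,2,0,1,0,1,0,1,0,2,0,1,0,2,0,1,0,1,0,1,0,2,0,1,0,2,0,1,0,1,0,1,0,2,0,1,0,1,0,2,0,1,0,2,0,2,0,2,0,1,0,1,0,1,0,2,0,1,0,1,0,1,0,1,0,1,0,2,0,1,0,1,0,2,0,2,0,1,0,1,0,2,0,2,0,1,0,2,0,1,0,2,0,2,0]),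
  (0,3,0,[]),
  (2,3,0,[1,0,1,0,2,0,1,0,1,0,1,0,2,0,1,0,2,0,1,0,1,0,1,0,2,0,1,0,2,0,1,0,1,0,1,0,2,0,1,0,1,0,2,0,1,0,2,0,2,0,2,0,1,0,1,0,1,0,2,0,1,0,1,0,1,0,1,0,1,0,2,0,1,0,1,0,2,0,1,0,2,0,2,0,2,0,1,0,1,0,1,0,2,0,1,0,1,0,1,0,1,0,1,0,2,0,1,0,1,0,2,0,1,0,2,0,2,0,2,0,1,0,1,0,1,0,2,0,1,0,1,0,1,0,1,0,1,0,2,0,1,0,2,0,1,0,1,0,1,0,2,0,1,0,1,0,2,0,2,0,2,0]),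
  (0,5,0,[]),
  (0,4,0,[]),
  (0,0,0,[]),
  (0,1,0,[]),
  (0,0,0,[])])

/-- the remaining sextets commute -/
def eFar : Rel × Rel × List Move :=
  (([[0,2,0,1,0,2,0,2,0,2,0,1,0,1,0,1,0,1,0,1,0], [0,1,0,2,0,1,0,2,0,2,0,2,0,1,0,2,0,2,0,1], [0,2,0,1,0,2,0,2,0,2,0,1,0,1,0,1,0,1,0,1,0], [0,1,0,2,0,1,0,2,0,2,0,2,0,1,0,2,0,2,0,1]], []), ([], []), [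
  (1,0,0,[0,1,0,2,0,1,0,1,0,2,0,1,0,2,0,1]),
  (1,1,0,[0,1,0,1,0,1,0,2,0,1,0,2,0,2,0,1,0,2,0,1,0,2]),
  (1,2,0,[0,1,0,2,0,1,0,1,0,2,0,1,0,2,0,1]),
  (1,3,0,[]),
  (1,4,0,[0,1,0,2,0,1,0,1,0,2,0,1,0,2,0,1]),
  (1,5,0,[0,1,0,1,0,2,0,1,0,2,0,1,0,2,0,1]),
  (1,6,0,[0,2,0,2,0,1,0,1,0,1,0,2,0,2,0,1,0,1,0,1,0,1,0,2]),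
  (1,7,0,[0,2,0,2,0,2,0,2,0,2,0,2,0,2,0,2,0,2,0,1,0,1]),
  (1,8,0,[0,1,0,2,0,1,0,2,0,1,0,2,0,1]),
  (2,19,0,[1,0,1,0,2,0,1,0,1,0,1,0,2,0,1,0,1,0,2,0,1,0,2,0,2,0,2,0,1,0,1,0,1,0,2,0,1,0,1,0,1,0,1,0,1,0,2,0,1,0,2,0,1,0,1,0,1,0,2,0,1,0,1,0,2,0,1,0,2,0,2,0,2,0,1,0,1,0,1,0,2,0,1,0,1,0,1,0,1,0,1,0,2,0,1,0,1,0,2,0,1,0,2,0,2,0,2,0,1,0,1,0,1,0,2,0,1,0,1,0,1,0,1,0,1,0,2,0,1,0,1,0,2,0,1,0,2,0,2,0,2,0,1,0,1,0,1,0,2,0,1,0,1,0,1,0,1,0,1,0,2,0,2,0,2,0,2,0,1,0,2,0,1,0,2]),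
  (1,18,0,[0,1,0,2,0,1,0,1,0,2,0,1,0,2,0,1]),
  (1,21,0,[0,1,0,2,0,2,0,1,0,1,0,2,0,1,0,2,0]),
  (2,20,0,[1,0,1,0,2,0,1,0,1,0,1,0,2,0,1,0,2,0,1,0,1,0,1,0,2,0,1,0,2,0,1,0,1,0,1,0,2,0,1,0,1,0,2,0,1,0,2,0,2,0,2,0,1,0,1,0,1,0,2,0,1,0,1,0,1,0,1,0,1,0,2,0,1,0,2,0,1,0,1,0,1,0,2,0,1,0,1,0,2,0,1,0,2,0,2,0,2,0,1,0,1,0,2,0,1,0,2,0,1,0,2,0,1]),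
  (0,22,0,[]),
  (0,21,0,[]),
  (0,19,0,[]),
  (2,19,1,[0,1,0,2,0,2,0,2,0,2,0,1,0,1,0,1,0,2,0,1,0,1,0,1,0,1,0,1,0,2,0,1,0,1,0,2,0,1,0,2,0,2,0,2,0,1,0,1,0,1,0,2,0,1,0,1,0,1,0,1,0,1,0,2,0,1,0,1,0,2,0,1,0,2,0,2,0,2,0,1,0,1,0,1,0,2,0,1,0,2,0,1,0,2,0,2,0,1,0,2,0,1,0,2]),
  (0,22,0,[]),
  (0,21,0,[]),
  (1,20,0,[0,1,0,2,0,1,0,1,0,2,0,1,0,2,0,1]),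
  (2,21,0,[1,0,1,0,2,0,1,0,1,0,1,0,2,0,1,0,2,0,1,0,1,0,1,0,2,0,1,0,2,0,1,0,1,0,1,0,2,0,1,0,2,0,1,0,1,0,1,0,2,0,1,0,2,0,1,0,1,0,1,0,2,0,1,0,2,0,1,0,1,0,1,0,2,0,1,0,2,0,1,0,1,0,1,0,2,0,1,0,2,0,1,0,1,0,1,0,2,0,1,0,1,0,2,0,1,0,2,0,2,0,2,0,1,0,1,0,1,0,1,0,1,0,1,0,2,0,2,0,2,0,1,0,1,0,1,0,1,0,1,0]),
  (0,23,0,[]),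
  (0,22,0,[]),
  (1,21,0,[]),
  (1,22,0,[0,1,0,2,0,1,0,1,0,2,0,1,0,2,0,1]),
  (1,26,0,[0,1,0,2,0,1,0,2,0,1,0,2,0,2]),
  (2,25,0,[1,0,1,0,2,0,1,0,1,0,1,0,2,0,1,0,2,0,1,0,1,0,1,0,2,0,1,0,2,0,1,0,1,0,1,0,2,0,1,0,1,0,2,0,1,0,2,0,2,0,2,0,1,0,1,0,1,0,2,0,1,0,1,0,1,0,1,0,1,0,2,0,1,0,1,0,2,0,1,0,2,0,2,0,2,0,1,0,1,0,1,0,1,0,2,0]),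
  (0,27,0,[]),
  (0,26,0,[]),
  (0,24,0,[]),
  (2,23,0,[1,0,1,0,2,0,1,0,1,0,1,0,2,0,1,0,1,0,2,0,1,0,2,0,2,0,2,0,1,0,1,0,1,0,2,0,1,0,1,0,1,0,1,0,1,0,2,0,1,0,2,0,1,0,1,0,1,0,2,0,1,0,1,0,2,0,1,0,2,0,2,0,2,0,1,0,1,0,1,0,2,0,1,0,1,0,1,0,1,0,1,0,2,0,1,0,2,0,1,0,1,0,1,0,2,0,1,0,1,0,2,0,1,0,2,0,2,0,2,0,1,0,1,0,1,0,1,0,1,0,2,0,2,0,2,0,2,0,2,0,2,0,2,0,2,0,1,0]),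
  (0,25,0,[]),
  (0,24,0,[]),
  (0,23,0,[]),
  (0,17,0,[]),
  (0,16,0,[]),
  (0,15,0,[]),
  (0,14,0,[]),
  (0,13,0,[]),
  (2,13,0,[1,0,1,0,2,0,1,0,1,0,1,0,2,0,1,0,2,0,1,0,1,0,1,0,2,0,1,0,2,0,1,0,1,0,1,0,2,0,1,0,2,0,1,0,1,0,1,0,2,0,1,0,2,0,1,0,1,0,1,0,2,0,1,0,2,0,1,0,1,0,1,0,2,0,1,0,2,0,1,0,1,0,1,0,2,0,1,0,2,0,1,0,1,0,1,0,2,0,1,0,1,0,2,0,1,0,2,0,2,0,2,0,1,0,1,0,1,0,2,0,2,0,1,0,2,0,1,0,2,0,1]),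
  (1,14,0,[0,2,0,2,0,1,0,1,0,1,0,2,0,2,0,1,0,1,0,1,0,1,0,2]),
  (2,15,0,[1,0,1,0,2,0,1,0,1,0,1,0,2,0,1,0,2,0,1,0,1,0,1,0,2,0,1,0,2,0,1,0,1,0,1,0,2,0,1,0,2,0,1,0,1,0,1,0,2,0,1,0,1,0,2,0,1,0,2,0,2,0,2,0,1,0,1,0,1,0,2,0,1,0,1,0,1,0,1,0,1,0,2,0,1,0,1,0,2,0,1,0,1,0,1,0,2,0,1,0,2,0,2]),
  (0,17,0,[]),
  (0,16,0,[]),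
  (1,15,0,[0,2,0,2,0,2,0,2,0,2,0,2,0,2,0,2,0,2,0,1,0,1]),
  (1,16,0,[0,1,0,2,0,1,0,2,0,1,0,2,0,1]),
  (2,18,0,[1,0,1,0,2,0,1,0,1,0,1,0,2,0,1,0,2,0,1,0,1,0,1,0,2,0,1,0,2,0,1,0,1,0,1,0,2,0,1,0,1,0,2,0,1,0,2,0,2,0,2,0,1,0,1,0,1,0,2,0,1,0,1,0,1,0,1,0,1,0,2,0,1,0,1,0,2,0,1,0,2,0,2,0,2,0,1,0,1,0,1,0,2,0,1,0,1,0,1,0,1,0,1,0,2,0,1,0,1,0,2,0,1,0,2,0,2,0,2,0,1,0,1,0,1,0,2,0,1,0,1,0,1,0,1,0,1,0,2,0,1,0,1,0,2,0,1,0,1,0,2,0,1,0,2,0]),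
  (0,20,0,[]),
  (1,18,0,[0,1,0,2,0,1,0,2,0,1,0,2,0,1]),
  (2,19,0,[1,0,1,0,2,0,1,0,1,0,1,0,2,0,1,0,2,0,1,0,1,0,1,0,2,0,1,0,2,0,1,0,1,0,1,0,2,0,1,0,2,0,1,0,1,0,1,0,2,0,1,0,1,0,2,0,1,0,2,0,2,0,2,0,1,0,1,0,1,0,2,0,1,0,1,0,1,0,1,0,1,0,2,0,1,0,1,0,2,0,2,0,1,0,1,0,2,0,2,0,2,0,1,0,1,0,1,0,1,0,1,0]),
  (0,21,0,[]),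
  (0,20,0,[]),
  (0,17,0,[]),
  (0,18,0,[]),
  (0,12,0,[]),
  (0,11,0,[]),
  (0,10,0,[]),
  (0,9,0,[]),
  (2,10,0,[1,0,1,0,2,0,1,0,1,0,1,0,2,0,1,0,2,0,1,0,1,0,1,0,2,0,1,0,2,0,1,0,1,0,1,0,2,0,1,0,1,0,2,0,1,0,2,0,2,0,2,0,1,0,1,0,1,0,2,0,1,0,1,0,1,0,1,0,1,0,2,0,1,0,2,0,1,0,1,0,1,0,2,0,1,0,2,0,1,0,1,0,1,0,2,0,1,0,2,0,1,0,1,0,1,0,2,0,1,0,1,0,2,0,2,0,1,0,2,0,1,0,1,0,2,0,2,0,1,0,2,0,1,0]),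
  (0,12,0,[]),
  (0,11,0,[]),
  (1,9,0,[0,2,0,1,0,2,0,2,0,2,0,1,0,2,0,1,0,2,0]),
  (1,10,0,[0,1,0,2,0,1,0,2,0,1,0,2,0,1]),
  (1,11,0,[0,1,0,2,0,1,0,2,0,2,0,2,0,1,0,2,0,2,0]),
  (1,12,0,[0,1,0,2,0,1,0,2,0,2,0,1,0,2,0,1]),
  (2,18,0,[1,0,1,0,2,0,1,0,1,0,1,0,2,0,1,0,1,0,2,0,1,0,2,0,2,0,2,0,1,0,1,0,1,0,2,0,1,0,1,0,1,0,1,0,1,0,2,0,1,0,2,0,1,0,1,0,1,0,2,0,1,0,2,0,1,0,1,0,1,0,2,0,1,0,1,0,2,0,1,0,2,0,2,0,2,0,1,0,1,0,1,0,2,0,1,0,1,0,1,0,1,0,1,0,2,0,1,0,2,0,1,0,1,0,1,0,2,0,1,0,1,0,2,0,2,0,1,0,1,0,2,0,2,0,2,0,1,0,2,0,1,0,2,0]),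
  (1,17,0,[0,2,0,1,0,2,0,2,0,2,0,1,0,2,0,1,0,2,0]),
  (2,18,1,[0,1,0,1,0,1,0,1,0,1,0,1,0,1,0,2,0,1,0,1,0,2,0,1,0,2,0,2,0,2,0,1,0,1,0,1,0,1,0,1,0,1,0,2,0,2,0,2,0,1,0,1,0,1,0,1,0,1,0]),
  (0,21,0,[]),
  (0,20,0,[]),
  (0,19,0,[]),
  (2,19,0,[1,0,1,0,2,0,1,0,1,0,1,0,2,0,1,0,1,0,2,0,1,0,2,0,2,0,2,0,1,0,1,0,1,0,2,0,1,0,1,0,1,0,1,0,1,0,2,0,1,0,1,0,2,0,1,0,2,0,2,0,2,0,1,0,1,0,1,0,2,0,1,0,1,0,1,0,1,0,1,0,2,0,1,0,2,0,1,0,1,0,1,0,2,0,1,0,2,0,1,0,1,0,1,0,2,0,1,0,2,0,1,0,1,0,1,0,2,0,1,0,2,0,1,0,1,0,1,0,2,0,1,0,2,0,1,0,1,0,1,0,2,0,1,0,2,0,1,0,1,0,1,0,2,0,1,0,2,0,1,0,1,0,1,0,2,0,1,0,1,0,2,0,2,0,1,0,1,0,2,0,2,0,2,0,1,0,2,0,1,0]),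
  (0,21,0,[]),
  (1,18,0,[0,1,0,2,0,1,0,2,0,1,0,2,0,1]),
  (1,19,0,[0,1,0,2,0,1,0,2,0,2,0,2,0,1,0,2,0,2,0]),
  (1,23,0,[0,1,0,2,0,1,0,2,0,1,0,2,0]),
  (2,22,0,[1,0,1,0,2,0,1,0,1,0,1,0,2,0,1,0,2,0,1,0,1,0,1,0,2,0,1,0,2,0,1,0,1,0,1,0,2,0,1,0,1,0,2,0,1,0,2,0,2,0,2,0,1,0,1,0,1,0,2,0,1,0,1,0,1,0,1,0,1,0,2,0,1,0,1,0,2,0,1,0,2,0,2,0,2,0,1,0,1,0,2,0,2,0,1,0,2,0,1]),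
  (0,24,0,[]),
  (0,23,0,[]),
  (0,21,0,[]),
  (2,20,0,[1,0,1,0,2,0,1,0,1,0,1,0,2,0,1,0,2,0,1,0,1,0,1,0,2,0,1,0,2,0,1,0,1,0,1,0,2,0,1,0,1,0,2,0,1,0,2,0,2,0,2,0,1,0,1,0,1,0,2,0,1,0,1,0,1,0,1,0,1,0,2,0,1,0,1,0,2,0,1,0,2,0,2,0,2,0,1,0,1,0,1,0,1,0,1,0,1,0,2,0,2,0,2,0,1,0,2,0,1,0]),
  (0,22,0,[]),
  (0,21,0,[]),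
  (0,20,0,[]),
  (0,16,0,[]),
  (0,15,0,[]),
  (0,14,0,[]),
  (0,13,0,[]),
  (0,13,0,[]),
  (2,12,1,[0,1,0,1,0,1,0,1,0,1,0,1,0,1,0,2,0,1,0,2,0,1,0,1,0,1,0,2,0,1,0,1,0,2,0,1,0,2,0,2,0,2,0,1,0,1,0,1,0,2,0,1,0,1,0,1,0,1,0,1,0,2,0,1,0,2,0,1,0,1,0,1,0,2,0,1,0,1,0,2,0,1,0,2,0,2,0,2,0,1,0,1,0,2,0,2,0,2,0,2,0,1,0,2,0,2,0,1]),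
  (0,15,0,[]),
  (0,14,0,[]),
  (2,11,2,[0,1,0,1,0,1,0,1,0,1,0,1,0,1,0,2,0,1,0,1,0,2,0,1,0,2,0,2,0,2,0,1,0,1,0,1,0,2,0,1,0,1,0,1,0,1,0,1,0,2,0,1,0,1,0,2,0,1,0,2,0,2,0,2,0,1,0,1,0,1,0,2,0,1,0,1,0,1,0,1,0,1,0,2,0,1,0,1,0,2,0,1,0,2,0,2,0,2,0,1,0,1,0,1,0,2,0,1,0,1,0,1,0,1,0,1,0,2,0,1,0,2,0,1,0,1,0,1,0,2,0,1,0,1,0,2,0,1,0,1,0,2,0,2,0,2,0,1,0,2,0,2,0,1]),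
  (0,14,0,[]),
  (0,13,0,[]),
  (2,10,1,[0,1,0,2,0,2,0,2,0,2,0,1,0,1,0,1,0,2,0,1,0,1,0,1,0,1,0,1,0,2,0,1,0,2,0,1,0,1,0,1,0,2,0,1,0,1,0,2,0,1,0,2,0,2,0,2,0,1,0,1,0,1,0,2,0,1,0,1,0,1,0,1,0,1,0,2,0,1,0,2,0,1,0,1,0,1,0,2,0,1,0,2,0,1,0,1,0,1,0,2,0,1,0,2,0,1,0,1,0,1,0,2,0,1,0,1,0,2,0,1,0,1,0,2,0,2,0,2,0,1,0,2,0,2,0,1]),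
  (0,13,0,[]),
  (0,12,0,[]),
  (2,9,2,[0,1,0,1,0,1,0,1,0,1,0,1,0,1,0,2,0,1,0,1,0,2,0,1,0,2,0,2,0,2,0,1,0,1,0,1,0,2,0,1,0,1,0,1,0,1,0,1,0,2,0,1,0,1,0,2,0,1,0,2,0,2,0,2,0,1,0,1,0,1,0,2,0,1,0,1,0,1,0,1,0,1,0,2,0,1,0,2,0,1,0,1,0,1,0,2,0,1,0,2,0,1,0,1,0,1,0,2,0,1,0,1,0,2,0,1,0,2,0,2,0,2,0,1,0,1,0,1,0,2,0,1,0,1,0,1,0,1,0,1,0,2,0,1,0,1,0,2,0,1,0,2,0,2,0,2,0,1,0,1,0,1,0,2,0,1,0,1,0,1,0,1,0,1,0,2,0,1,0,2,0,1,0,1,0,1,0,2,0,1,0,2,0,1,0,1,0,1,0,2,0,1,0,1,0,2,0,1,0,1,0,2,0,2,0,2,0,1,0,2,0,2,0,1]),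
  (0,12,0,[]),
  (0,11,0,[]),
  (2,8,1,[0,1,0,2,0,2,0,2,0,2,0,1,0,1,0,1,0,2,0,1,0,1,0,1,0,1,0,1,0,2,0,1,0,2,0,1,0,1,0,1,0,2,0,1,0,1,0,2,0,1,0,2,0,2,0,2,0,1,0,1,0,1,0,2,0,1,0,1,0,1,0,1,0,1,0,2,0,1,0,2,0,1,0,1,0,1,0,2,0,1,0,2,0,1,0,1,0,1,0,2,0,1,0,2,0,1,0,1,0,1,0,2,0,1,0,1,0,2,0,1,0,1,0,2,0,2,0,2,0,1,0,2,0,2,0,1]),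
  (0,11,0,[]),
  (0,10,0,[]),
  (2,7,2,[0,1,0,1,0,1,0,1,0,1,0,1,0,1,0,2,0,1,0,2,0,1,0,1,0,1,0,2,0,1,0,2,0,1,0,1,0,1,0,2,0,1,0,2,0,1,0,1,0,1,0,2,0,1,0,2,0,1,0,1,0,1,0,2,0,1,0,2,0,1,0,1,0,1,0,2,0,1,0,2,0,1,0,1,0,1,0,2,0,1,0,2,0,1,0,1,0,1,0,2,0,1,0,2,0,1,0,1,0,1,0,2,0,1,0,1,0,2,0,1,0,2,0,2,0,2,0,1,0,1,0,1,0,2,0,1,0,1,0,1,0,1,0,1,0,2,0,1,0,2,0,1,0,1,0,1,0,2,0,1,0,1,0,2,0,1,0,1,0,2,0,2,0,2,0,1,0,2,0,2,0,1]),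
  (0,10,0,[]),
  (0,9,0,[]),
  (2,6,1,[0,1,0,1,0,1,0,1,0,1,0,1,0,1,0,2,0,1,0,1,0,2,0,1,0,1,0,2,0,2,0,2,0,1,0,2,0,2,0,1]),
  (0,9,0,[]),
  (0,8,0,[]),
  (2,5,1,[0,1,0,2,0,2,0,2,0,2,0,1,0,1,0,1,0,2,0,1,0,1,0,1,0,1,0,1,0,2,0,1,0,1,0,2,0,1,0,2,0,2,0,2,0,1,0,1,0,1,0,2,0,1,0,1,0,1,0,1,0,1,0,2,0,1,0,2,0,1,0,1,0,1,0,2,0,1,0,2,0,1,0,1,0,1,0,2,0,1,0,1,0,2,0,1,0,2,0,2,0,2,0,1,0,1,0,1,0,2,0,1,0,1,0,1,0,1,0,1,0,2,0,1,0,2,0,1,0,1,0,1,0,2,0,1,0,2,0,1,0,1,0,1,0,2,0,1,0,1,0,2,0,1,0,2,0,2,0,2,0,1,0,1,0,2,0,2,0,2,0,2,0,1,0,2,0,2,0,1]),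
  (0,8,0,[]),
  (0,7,0,[]),
  (2,4,2,[0,1,0,1,0,1,0,1,0,1,0,1,0,1,0,2,0,1,0,2,0,1,0,1,0,1,0,2,0,1,0,2,0,1,0,1,0,1,0,2,0,1,0,2,0,1,0,1,0,1,0,2,0,1,0,1,0,2,0,1,0,2,0,2,0,2,0,1,0,1,0,1,0,2,0,1,0,1,0,1,0,1,0,1,0,2,0,1,0,2,0,1,0,1,0,1,0,2,0,1,0,1,0,2,0,1,0,1,0,2,0,2,0,2,0,1,0,2,0,2,0,1]),
  (0,7,0,[]),
  (0,6,0,[]),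
  (2,3,1,[0,1,0,1,0,1,0,1,0,1,0,1,0,1,0,2,0,1,0,2,0,1,0,1,0,1,0,2,0,1,0,2,0,1,0,1,0,1,0,2,0,1,0,1,0,2,0,1,0,2,0,2,0,2,0,1,0,1,0,1,0,2,0,1,0,1,0,1,0,1,0,1,0,2,0,1,0,2,0,1,0,1,0,1,0,2,0,1,0,2,0,1,0,1,0,1,0,2,0,1,0,2,0,1,0,1,0,1,0,2,0,1,0,2,0,1,0,1,0,1,0,2,0,1,0,1,0,2,0,1,0,1,0,2,0,2,0,2,0,1,0,2,0,2,0,1]),
  (0,6,0,[]),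
  (0,5,0,[]),
  (2,2,2,[0,1,0,1,0,1,0,1,0,1,0,1,0,1,0,2,0,1,0,2,0,1,0,1,0,1,0,2,0,1,0,2,0,1,0,1,0,1,0,2,0,1,0,2,0,1,0,1,0,1,0,2,0,1,0,1,0,2,0,1,0,2,0,2,0,2,0,1,0,1,0,1,0,2,0,1,0,1,0,1,0,1,0,1,0,2,0,1,0,2,0,1,0,1,0,1,0,2,0,1,0,1,0,2,0,1,0,1,0,2,0,2,0,2,0,1,0,2,0,2,0,1]),
  (0,5,0,[]),
  (0,4,0,[]),
  (2,1,2,[0,1,0,1,0,1,0,1,0,1,0,1,0,1,0,2,0,1,0,2,0,1,0,1,0,1,0,2,0,1,0,1,0,2,0,1,0,2,0,2,0,2,0,1,0,1,0,1,0,2,0,1,0,1,0,1,0,1,0,1,0,2,0,1,0,1,0,2,0,1,0,2,0,2,0,2,0,1,0,1,0,1,0,2,0,1,0,1,0,1,0,1,0,1,0,2,0,1,0,2,0,1,0,1,0,1,0,2,0,1,0,1,0,2,0,1,0,2,0,2,0,2,0,1,0,1,0,1,0,2,0,1,0,1,0,1,0,1,0,1,0,2,0,1,0,2,0,1,0,1,0,1,0,2,0,1,0,1,0,2,0,1,0,2,0,2,0,2,0,1,0,1,0,2,0,2,0,2,0,2,0,1,0,2,0,2,0,1]),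
  (0,4,0,[]),
  (0,3,0,[]),
  (2,0,2,[0,1,0,1,0,1,0,1,0,1,0,1,0,1,0,2,0,1,0,2,0,1,0,1,0,1,0,2,0,1,0,2,0,1,0,1,0,1,0,2,0,1,0,2,0,1,0,1,0,1,0,2,0,1,0,1,0,2,0,1,0,2,0,2,0,2,0,1,0,1,0,1,0,2,0,1,0,1,0,1,0,1,0,1,0,2,0,1,0,2,0,1,0,1,0,1,0,2,0,1,0,1,0,2,0,1,0,1,0,2,0,2,0,2,0,1,0,2,0,2,0,1]),
  (0,3,0,[]),
  (0,2,0,[]),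
  (1,14,0,[0,2,0,2,0,1,0,1,0,2,0,2,0,1,0,2,0,1,0]),
  (1,14,0,[0,1,0,2,0,1,0,2,0,2,0,1,0,2,0,1]),
  (1,15,0,[0,1,0,2,0,1,0,2,0,2,0,2,0,1,0,2,0,2,0]),
  (1,16,0,[0,1,0,2,0,1,0,2,0,1,0,2,0,1]),
  (1,17,0,[0,2,0,1,0,2,0,2,0,2,0,1,0,2,0,1,0,2,0]),
  (2,21,0,[1,0,1,0,2,0,1,0,1,0,1,0,2,0,1,0,1,0,2,0,1,0,2,0,2,0,2,0,1,0,1,0,1,0,2,0,1,0,1,0,1,0,1,0,1,0,2,0,1,0,1,0,2,0,1,0,2,0,2,0,2,0,1,0,1,0,1,0,2,0,1,0,1,0,1,0,1,0,1,0,2,0,1,0,2,0,1,0,1,0,1,0,2,0,1,0,2,0,1,0,1,0,1,0,2,0,1,0,2,0,1,0,1,0,1,0,2,0,1,0,2,0,1,0,1,0,1,0,2,0,1,0,1,0,2,0,1,0,2,0,2,0,2,0,1,0,1,0,1,0,2,0,1,0,1,0,1,0,1,0,1,0,2,0,1,0,1,0,2,0,1,0,1,0,2,0,2,0,2,0,1,0,2,0,2,0]),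
  (1,22,0,[0,1,0,2,0,1,0,2,0,1,0,2,0,1]),
  (2,23,0,[1,0,1,0,2,0,1,0,1,0,1,0,2,0,1,0,2,0,1,0,1,0,1,0,2,0,1,0,2,0,1,0,1,0,1,0,2,0,1,0,2,0,1,0,1,0,1,0,2,0,1,0,1,0,2,0,1,0,2,0,2,0,2,0,1,0,1,0,1,0,2,0,1,0,1,0,1,0,1,0,1,0,2,0,1,0,1,0,2,0,2,0,1,0,1,0,2,0,2,0,2,0,1,0,1,0,1,0,1,0,1,0]),
  (0,25,0,[]),
  (0,24,0,[]),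
  (0,20,0,[]),
  (0,19,0,[]),
  (2,20,0,[1,0,1,0,2,0,1,0,1,0,1,0,2,0,1,0,1,0,2,0,1,0,2,0,2,0,2,0,1,0,1,0,1,0,2,0,1,0,1,0,1,0,1,0,1,0,2,0,1,0,2,0,1,0,1,0,1,0,2,0,1,0,1,0,2,0,1,0,2,0,2,0,2,0,1,0,1,0,1,0,2,0,1,0,1,0,1,0,1,0,1,0,2,0,1,0,2,0,1,0,1,0,1,0,2,0,1,0,1,0,2,0,1,0,2,0,2,0,2,0,1,0,1,0,1,0,2,0,1,0,1,0,1,0,1,0,1,0,2,0,1,0,1,0,2,0,2,0,1,0,1,0,1,0,2,0,1,0,1,0,2,0,2,0,1,0,1,0]),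
  (0,22,0,[]),
  (0,21,0,[]),
  (2,19,1,[0,1,0,1,0,1,0,1,0,1,0,1,0,1,0,2,0,1,0,2,0,1,0,1,0,1,0,2,0,1,0,1,0,2,0,1,0,2,0,2,0,2,0,1,0,1,0,1,0,2,0,1,0,1,0,1,0,1,0,1,0,2,0,1,0,1,0,2,0,2,0,1,0,1,0,2,0,2,0,2,0,1,0,2,0,1,0,2,0]),
  (0,22,0,[]),
  (0,18,0,[]),
  (2,19,0,[1,0,1,0,2,0,1,0,1,0,1,0,2,0,1,0,2,0,1,0,1,0,1,0,2,0,1,0,2,0,1,0,1,0,1,0,2,0,1,0,2,0,1,0,1,0,1,0,2,0,1,0,2,0,1,0,1,0,1,0,2,0,1,0,2,0,1,0,1,0,1,0,2,0,1,0,1,0,2,0,2,0,1,0,2,0,1,0,1,0,2,0,2,0,1,0,2,0,1,0]),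
  (0,21,0,[]),
  (0,20,0,[]),
  (0,19,0,[]),
  (0,13,0,[]),
  (0,12,0,[]),
  (0,11,0,[]),
  (0,10,0,[]),
  (2,11,0,[1,0,1,0,2,0,1,0,1,0,1,0,2,0,1,0,1,0,2,0,1,0,2,0,2,0,2,0,1,0,1,0,1,0,2,0,1,0,1,0,1,0,1,0,1,0,2,0,1,0,1,0,2,0,1,0,2,0,2,0,2,0,1,0,1,0,1,0,2,0,1,0,1,0,1,0,1,0,1,0,2,0,1,0,2,0,1,0,1,0,1,0,2,0,1,0,2,0,1,0,1,0,1,0,2,0,1,0,2,0,1,0,1,0,1,0,2,0,1,0,2,0,1,0,1,0,1,0,2,0,1,0,2,0,1,0,1,0,1,0,2,0,1,0,1,0,2,0,1,0,2,0,2,0,2,0,1,0,1,0,1,0,1,0,1,0,1,0,2,0,1,0,2,0,1,0,2,0,1,0,1]),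
  (0,13,0,[]),
  (1,10,0,[0,1,0,2,0,1,0,2,0,1,0,2,0,1]),
  (1,11,0,[0,2,0,2,0,2,0,2,0,2,0,2,0,2,0,2,0,2,0,1,0,1]),
  (1,12,0,[0,2,0,2,0,1,0,1,0,1,0,2,0,2,0,1,0,1,0,1,0,1,0,2]),
  (1,13,0,[0,1,0,1,0,2,0,1,0,2,0,1,0,2,0,1]),
  (1,19,0,[0,1,0,2,0,1,0,1,0,2,0,1,0,2,0,2]),
  (1,18,0,[0,1,0,2,0,1,0,2,0,1,0,2,0,1]),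
  (1,21,0,[0,1,0,2,0,1,0,2,0,1,0,2,0]),
  (2,20,0,[1,0,1,0,2,0,1,0,1,0,1,0,2,0,1,0,2,0,1,0,1,0,1,0,2,0,1,0,2,0,1,0,1,0,1,0,2,0,1,0,1,0,2,0,1,0,2,0,2,0,2,0,1,0,1,0,1,0,2,0,1,0,1,0,1,0,1,0,1,0,2,0,1,0,1,0,2,0,1,0,2,0,2,0,2,0,1,0,1,0,2,0,2,0,1,0,2,0,1]),
  (0,22,0,[]),
  (0,21,0,[]),
  (0,19,0,[]),
  (2,19,0,[1,0,1,0,2,0,1,0,1,0,1,0,2,0,1,0,2,0,1,0,1,0,1,0,2,0,1,0,2,0,1,0,1,0,1,0,2,0,1,0,1,0,2,0,1,0,2,0,2,0,2,0,1,0,1,0,1,0,2,0,1,0,1,0,1,0,1,0,1,0,2,0,1,0,1,0,2,0,1,0,2,0,2,0,2,0,1,0,1,0,1,0,2,0,1,0,1,0,1,0,1,0,1,0,2,0,1,0,2,0,1,0,1,0,1,0,2,0,1,0,1,0,2,0,2,0,1,0,2,0,2,0,2,0,2,0,2,0,2,0,2,0,2,0,1,0,1]),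
  (0,21,0,[]),
  (0,20,0,[]),
  (0,17,0,[]),
  (0,16,0,[]),
  (2,16,0,[1,0,1,0,2,0,1,0,1,0,1,0,2,0,1,0,2,0,1,0,1,0,1,0,2,0,1,0,2,0,1,0,1,0,1,0,2,0,1,0,2,0,1,0,1,0,1,0,2,0,1,0,2,0,1,0,1,0,1,0,2,0,1,0,2,0,1,0,1,0,1,0,2,0,1,0,2,0,1,0,1,0,1,0,2,0,1,0,2,0,1,0,1,0,1,0,2,0,1,0,1,0,2,0,1,0,2,0,2,0,2,0,1,0,1,0,1,0,1,0,1,0,2,0,1,0,1,0,1,0,2,0,2,0,1,0,1,0,1,0,1,0,2]),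
  (0,18,0,[]),
  (0,15,0,[]),
  (2,14,0,[1,0,1,0,2,0,1,0,1,0,1,0,2,0,1,0,1,0,2,0,1,0,2,0,2,0,2,0,1,0,1,0,1,0,2,0,1,0,1,0,1,0,1,0,1,0,2,0,1,0,1,0,2,0,1,0,2,0,2,0,2,0,1,0,1,0,1,0,2,0,1,0,1,0,1,0,1,0,1,0,2,0,1,0,1,0,2,0,1,0,2,0,2,0,2,0,1,0,1,0,1,0,2,0,1,0,1,0,1,0,1,0,1,0,2,0,1,0,2,0,1,0,1,0,1,0,2,0,1,0,2,0,1,0,1,0,1,0,2,0,1,0,1,0,2,0,1,0,2,0,2,0,2,0,1,0,1,0,1,0,1,0,1,0,1,0,2,0,1,0,2,0,1,0,2,0,1,0,1]),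
  (0,16,0,[]),
  (0,15,0,[]),
  (0,14,0,[]),
  (1,14,0,[0,1,0,2,0,1,0,1,0,2,0,1,0,2,0,1]),
  (1,15,0,[]),
  (1,16,0,[0,1,0,2,0,1,0,1,0,2,0,1,0,2,0,1]),
  (1,17,0,[0,1,0,1,0,1,0,2,0,1,0,2,0,2,0,1,0,2,0,1,0,2]),
  (1,18,0,[0,1,0,2,0,1,0,1,0,2,0,1,0,2,0,1]),
  (2,24,0,[1,0,1,0,2,0,1,0,1,0,1,0,2,0,1,0,2,0,1,0,1,0,1,0,2,0,1,0,2,0,1,0,1,0,1,0,2,0,1,0,1,0,2,0,1,0,2,0,2,0,2,0,1,0,1,0,2,0,1,0,2,0,1,0,2,0,1]),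
  (1,25,0,[]),
  (2,26,0,[1,0,1,0,2,0,1,0,1,0,1,0,2,0,1,0,1,0,2,0,1,0,2,0,2,0,2,0,1,0,1,0,1,0,2,0,1,0,1,0,1,0,1,0,1,0,2,0,1,0,2,0,1,0,1,0,1,0,2,0,1,0,2,0,1,0,1,0,1,0,2,0,1,0,1,0,2,0,1,0,2,0,2,0,2,0,1,0,1,0,1,0,1,0,1,0,1,0,2,0,2,0,2,0,1,0,1,0,1,0,1,0,1,0]),
  (0,28,0,[]),
  (0,27,0,[]),
  (0,23,0,[]),
  (0,22,0,[]),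
  (1,23,0,[0,1,0,2,0,2,0,1,0,1,0,2,0,1,0,2,0]),
  (2,22,0,[1,0,1,0,2,0,1,0,1,0,1,0,2,0,1,0,2,0,1,0,1,0,1,0,2,0,1,0,2,0,1,0,1,0,1,0,2,0,1,0,1,0,2,0,1,0,2,0,2,0,2,0,1,0,1,0,1,0,2,0,1,0,1,0,1,0,1,0,1,0,2,0,1,0,2,0,1,0,1,0,1,0,2,0,1,0,1,0,2,0,1,0,2,0,2,0,2,0,1,0,1,0,2,0,1,0,2,0,1,0,2,0,1]),
  (0,24,0,[]),
  (0,23,0,[]),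
  (0,21,0,[]),
  (2,20,1,[0,1,0,2,0,2,0,2,0,2,0,1,0,1,0,1,0,2,0,1,0,1,0,1,0,1,0,1,0,2,0,1,0,2,0,1,0,1,0,1,0,2,0,1,0,1,0,2,0,1,0,2,0,2,0,2,0,1,0,1,0,1,0,2,0,1,0,1,0,1,0,1,0,1,0,2,0,1,0,2,0,1,0,1,0,1,0,2,0,1,0,2,0,1,0,1,0,1,0,2,0,1,0,2,0,1,0,1,0,1,0,2,0,1,0,2,0,1,0,1,0,1,0,2,0,1,0,1,0,2,0,1,0,2,0,1,0,1,0,2,0,1,0,2,0]),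
  (0,23,0,[]),
  (0,22,0,[]),
  (1,20,0,[0,1,0,2,0,1,0,1,0,2,0,1,0,2,0,1]),
  (2,21,0,[1,0,1,0,2,0,1,0,1,0,1,0,2,0,1,0,2,0,1,0,1,0,1,0,2,0,1,0,2,0,1,0,1,0,1,0,2,0,1,0,2,0,1,0,1,0,1,0,2,0,1,0,2,0,1,0,1,0,1,0,2,0,1,0,2,0,1,0,1,0,1,0,2,0,1,0,2,0,1,0,1,0,1,0,2,0,1,0,2,0,1,0,1,0,1,0,2,0,1,0,1,0,2,0,1,0,2,0,2,0,2,0,1,0,1,0,1,0,1,0,1,0,1,0,2,0,2,0,2,0,1,0,1,0,1,0,1,0,1,0]),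
  (0,23,0,[]),
  (0,22,0,[]),
  (0,19,0,[]),
  (2,20,0,[1,0,1,0,2,0,1,0,1,0,1,0,2,0,1,0,1,0,2,0,1,0,2,0,2,0,2,0,1,0,1,0,1,0,2,0,1,0,1,0,1,0,1,0,1,0,2,0,1,0,2,0,1,0,1,0,1,0,2,0,1,0,1,0,2,0,1,0,2,0,2,0,2,0,1,0,1,0,1,0,2,0,1,0,1,0,1,0,1,0,1,0,2,0,1,0,2,0,1,0,1,0,1,0,2,0,1,0,1,0,2,0,1,0,2,0,2,0,2,0,1,0,1,0,1,0,2,0,1,0,1,0,1,0,1,0,1,0,2,0,1,0,1,0,2,0,2,0,1,0,1,0,2,0,1,0,1,0,1,0,2,0,2,0,1]),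
  (0,22,0,[]),
  (0,21,0,[]),
  (0,20,0,[]),
  (0,9,0,[]),
  (0,8,0,[]),
  (0,7,0,[]),
  (0,6,0,[]),
  (0,5,0,[]),
  (0,4,0,[]),
  (0,3,0,[]),
  (0,2,0,[]),
  (0,1,0,[]),
  (0,1,0,[]),
  (0,0,0,[])])

/-- a further product of three -/
def eTriple : Rel × Rel × List Move :=
  (([[0,1,0,2,0,1,0,2,0,2,0,2,0,1,0,2,0,2,0,1], [0,2,0,1,0,2,0,2,0,2,0,1,0,1,0,1,0,1,0,1,0], [0,1,0,2,0,1,0,1,0,2,0,1,0,2,0]], []), ([], []), [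
  (2,3,0,[1,0,1,0,2,0,1,0,1,0,1,0,2,0,1,0,1,0,2,0,1,0,1,0,2,0,2,0,2,0,1,0,2,0,2,0]),
  (2,2,2,[0,1,0,1,0,1,0,1,0,1,0,1,0,1,0,2,0,1,0,2,0,1,0,1,0,1,0,2,0,1,0,2,0,1,0,1,0,1,0,2,0,1,0,2,0,1,0,1,0,1,0,2,0,1,0,1,0,2,0,1,0,2,0,2,0,2,0,1,0,1,0,1,0,2,0,1,0,1,0,1,0,1,0,1,0,2,0,1,0,2,0,1,0,1,0,1,0,2,0,1,0,1,0,2,0,1,0,1,0,2,0,2,0,2,0,1,0,2,0,2,0]),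
  (0,5,0,[]),
  (0,4,0,[]),
  (2,1,3,[0,2,0,2,0,2,0,2,0,2,0,1,0,1,0,1,0,2,0,2,0,1,0,1,0,1,0,1,0,1,0,1,0,2,0,1,0,2,0,1,0,1,0,1,0,2,0,1,0,2,0,1,0,1,0,1,0,2,0,1,0,1,0,2,0,1,0,2,0,2,0,2,0,1,0,1,0,1,0,2,0,1,0,1,0,1,0,1,0,1,0,2,0,1,0,2,0,1,0,1,0,1,0,2,0,1,0,2,0,1,0,1,0,1,0,2,0,1,0,2,0,1,0,1,0,1,0,2,0,1,0,2,0,1,0,1,0,1,0,2,0,1,0,2,0,1,0,1,0,1,0,2,0,1,0,2,0,1,0,1,0,1,0,2,0,1,0,2,0,1,0,1,0,1,0,2,0,1,0,1,0,2,0,1,0,1,0,2,0,2,0,2,0,1,0,2,0,2,0]),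
  (0,4,0,[]),
  (0,3,0,[]),
  (2,3,2,[0,1,0,2,0,2,0,2,0,2,0,1,0,1,0,1,0,2,0,1,0,1,0,1,0,1,0,1,0,2,0,1,0,2,0,1,0,1,0,1,0,2,0,1,0,2,0,1,0,1,0,1,0,2,0,1,0,2,0,1,0,1,0,1,0,2,0,1,0,2,0,1,0,1,0,1,0,2,0,1,0,1,0,2,0,1,0,2,0,2,0,2,0,1,0,1,0,1,0,2,0,1,0,1,0,1,0,1,0,1,0,2,0,1,0,2,0,1,0,1,0,1,0,2,0,1,0,1,0,2,0,1,0,2,0,2,0,2,0,1,0,1,0,1,0,2,0,1,0,1,0,1,0,1,0,1,0,2,0,1,0,2,0,1,0,1,0,1,0,2,0,1,0,2,0,2,0,2,0,1,0,2,0]),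
  (0,6,0,[]),
  (0,5,0,[]),
  (2,4,1,[0,1,0,1,0,1,0,1,0,1,0,1,0,1,0,2,0,1,0,2,0,1,0,1,0,1,0,2,0,1,0,1,0,2,0,1,0,2,0,2,0,2,0,1,0,1,0,1,0,2,0,1,0,1,0,1,0,1,0,1,0,2,0,1,0,1,0,2,0,1,0,2,0,2,0,2,0,1,0,1,0,1,0,2,0,1,0,1,0,1,0,1,0,1,0,2,0,1,0,1,0,2,0,1,0,1,0,2,0,2,0,1,0,2,0]),
  (0,7,0,[]),
  (0,6,0,[]),
  (2,6,0,[1,0,1,0,2,0,1,0,1,0,1,0,2,0,1,0,1,0,2,0,1,0,2,0,2,0,2,0,1,0,1,0,1,0,2,0,1,0,1,0,1,0,1,0,1,0,2,0,1,0,2,0,1,0,1,0,1,0,2,0,1,0,1,0,2,0,1,0,2,0,2,0,2,0,1,0,1,0,1,0,2,0,1,0,1,0,1,0,1,0,1,0,2,0,1,0,1,0,2,0,1,0,2,0,2,0,2,0,1,0,1,0,1,0,1,0,1,0,1,0,2,0,2,0,2,0,1,0,1,0,1,0,1,0,1,0]),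
  (2,5,3,[0,2,0,2,0,2,0,2,0,2,0,1,0,1,0,1,0,2,0,2,0,1,0,1,0,1,0,1,0,1,0,1,0,2,0,1,0,2,0,1,0,1,0,1,0,2,0,1,0,1,0,2,0,1,0,2,0,2,0,2,0,1,0,1,0,1,0,2,0,1,0,1,0,1,0,1,0,1,0,2,0,1,0,1,0,2,0,1,0,2,0,2,0,2,0,1,0,1,0,1,0,2,0,1,0,1,0,1,0,1,0,1,0,2,0,1,0,2,0,1,0,1,0,1,0,2,0,1,0,1,0,2,0,1,0,2,0,2,0,2,0,1,0,1,0,1,0,2,0,1,0,1,0,1,0,1,0,1,0,2,0,1,0,1,0,2,0,1,0,2,0,2,0,2,0,1,0,1,0,1,0,2,0,1,0,1,0,1,0,1,0,1,0,2,0,1,0,2,0,1,0,1,0,1,0,2,0,1,0,1,0,2,0,2,0,1,0,1,0,2,0,2,0,2,0,1,0,1,0,1,0,1,0,1,0]),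
  (0,8,0,[]),
  (0,7,0,[]),
  (2,4,3,[0,2,0,2,0,2,0,2,0,2,0,1,0,1,0,1,0,2,0,2,0,1,0,1,0,1,0,1,0,1,0,1,0,2,0,1,0,2,0,1,0,1,0,1,0,2,0,1,0,2,0,1,0,1,0,1,0,2,0,1,0,1,0,2,0,1,0,2,0,2,0,2,0,1,0,1,0,1,0,2,0,1,0,1,0,1,0,1,0,1,0,2,0,1,0,2,0,1,0,1,0,1,0,2,0,1,0,2,0,1,0,1,0,1,0,2,0,1,0,2,0,1,0,1,0,1,0,2,0,1,0,2,0,1,0,1,0,1,0,2,0,1,0,2,0,1,0,1,0,1,0,2,0,1,0,2,0,1,0,1,0,1,0,2,0,1,0,1,0,2,0,2,0,1,0,1,0,2,0,2,0,2,0,1,0,1,0,1,0,1,0,1,0]),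
  (0,7,0,[]),
  (0,6,0,[]),
  (2,3,2,[0,1,0,2,0,2,0,2,0,2,0,1,0,1,0,1,0,2,0,1,0,1,0,1,0,1,0,1,0,2,0,1,0,2,0,1,0,1,0,1,0,2,0,1,0,1,0,2,0,1,0,2,0,2,0,2,0,1,0,1,0,1,0,2,0,1,0,1,0,1,0,1,0,1,0,2,0,1,0,1,0,2,0,1,0,2,0,2,0,2,0,1,0,1,0,1,0,2,0,1,0,1,0,1,0,1,0,1,0,2,0,1,0,2,0,1,0,1,0,1,0,2,0,1,0,2,0,1,0,1,0,1,0,2,0,1,0,2,0,1,0,1,0,1,0,2,0,1,0,1,0,2,0,1,0,2,0,2,0,2,0,1,0,1,0,1,0,1,0,1,0,1,0,2,0,2,0,2,0,1,0,1,0,1,0,1,0,1,0]),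
  (0,6,0,[]),
  (0,5,0,[]),
  (0,2,0,[]),
  (2,7,0,[1,0,1,0,2,0,1,0,1,0,1,0,2,0,1,0,2,0,1,0,1,0,1,0,2,0,1,0,2,0,1,0,1,0,1,0,2,0,1,0,1,0,2,0,1,0,2,0,2,0,2,0,1,0,1,0,1,0,2,0,1,0,1,0,1,0,1,0,1,0,2,0,1,0,2,0,1,0,1,0,1,0,2,0,1,0,2,0,1,0,1,0,1,0,2,0,1,0,2,0,1,0,1,0,1,0,2,0,1,0,1,0,2,0,1,0,2,0,2,0,2,0,1,0,1,0,1,0,2,0,1,0,1,0,1,0,1,0,1,0,2,0,1,0,1,0,2,0,2,0,1,0,1,0,2,0,1,0,1,0,2,0,2,0,1,0,1,0]),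
  (2,6,1,[0,1,0,1,0,1,0,1,0,1,0,1,0,1,0,2,0,1,0,2,0,1,0,1,0,1,0,2,0,1,0,2,0,1,0,1,0,1,0,2,0,1,0,1,0,2,0,1,0,2,0,2,0,2,0,1,0,1,0,1,0,1,0,1,0,1,0,2,0,1,0,1,0,2,0,2,0,1,0,1,0]),
  (0,9,0,[]),
  (0,8,0,[]),
  (2,5,2,[0,1,0,1,0,1,0,1,0,1,0,1,0,1,0,2,0,1,0,1,0,2,0,1,0,2,0,2,0,2,0,1,0,1,0,1,0,2,0,1,0,1,0,1,0,1,0,1,0,2,0,1,0,2,0,1,0,1,0,1,0,2,0,1,0,1,0,2,0,1,0,2,0,2,0,2,0,1,0,1,0,1,0,2,0,1,0,1,0,1,0,1,0,1,0,2,0,1,0,1,0,2,0,1,0,2,0,2,0,2,0,1,0,1,0,1,0,2,0,1,0,1,0,1,0,1,0,1,0,2,0,1,0,1,0,2,0,2,0,1,0,1,0,2,0,1,0,1,0,2,0,2,0,1,0,1,0]),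
  (0,8,0,[]),
  (0,7,0,[]),
  (2,4,3,[0,2,0,2,0,2,0,2,0,2,0,1,0,1,0,1,0,2,0,2,0,2,0,2,0,2,0,2,0,1,0,1,0,1,0,2,0,1,0,1,0,1,0,1,0,1,0,2,0,1,0,2,0,1,0,1,0,1,0,2,0,1,0,2,0,1,0,1,0,1,0,2,0,1,0,2,0,1,0,1,0,1,0,2,0,1,0,1,0,2,0,1,0,2,0,2,0,2,0,1,0,1,0,1,0,2,0,1,0,1,0,1,0,1,0,1,0,2,0,1,0,2,0,1,0,1,0,1,0,2,0,1,0,2,0,1,0,1,0,1,0,2,0,1,0,2,0,1,0,1,0,1,0,2,0,1,0,2,0,1,0,1,0,1,0,2,0,1,0,2,0,1,0,1,0,1,0,2,0,1,0,2,0,1,0,1,0,1,0,2,0,1,0,2,0,1,0,1,0,1,0,2,0,1,0,1,0,2,0,2,0,1,0,1,0,2,0,1,0,1,0,2,0,2,0,1,0,1,0]),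
  (0,7,0,[]),
  (0,6,0,[]),
  (2,3,3,[0,2,0,2,0,2,0,2,0,2,0,1,0,1,0,1,0,2,0,2,0,1,0,1,0,1,0,1,0,1,0,1,0,2,0,1,0,1,0,2,0,1,0,2,0,2,0,2,0,1,0,1,0,1,0,2,0,1,0,1,0,1,0,1,0,1,0,2,0,1,0,1,0,2,0,1,0,2,0,2,0,2,0,1,0,1,0,1,0,2,0,1,0,1,0,1,0,1,0,1,0,2,0,1,0,2,0,1,0,1,0,1,0,2,0,1,0,1,0,2,0,1,0,2,0,2,0,2,0,1,0,1,0,1,0,2,0,1,0,1,0,1,0,1,0,1,0,2,0,1,0,1,0,2,0,1,0,2,0,2,0,2,0,1,0,1,0,1,0,2,0,1,0,1,0,1,0,1,0,1,0,2,0,1,0,2,0,1,0,1,0,1,0,2,0,1,0,2,0,1,0,1,0,1,0,2,0,1,0,2,0,1,0,1,0,1,0,2,0,1,0,1,0,2,0,1,0,2,0,2,0,2,0,1,0,1,0,1,0,1,0,1,0,1,0,2,0,1,0,1,0,2,0,2,0,1,0,1,0]),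
  (0,6,0,[]),
  (0,5,0,[]),
  (2,2,1,[0,1,0,2,0,2,0,2,0,2,0,1,0,1,0,1,0,2,0,1,0,1,0,1,0,1,0,1,0,2,0,1,0,2,0,1,0,1,0,1,0,2,0,1,0,2,0,1,0,1,0,1,0,2,0,1,0,1,0,2,0,2,0,1,0,1,0,2,0,1,0,1,0,2,0,2,0,1,0,1,0]),
  (0,5,0,[]),
  (0,4,0,[]),
  (2,7,1,[0,1,0,1,0,1,0,1,0,1,0,1,0,1,0,2,0,1,0,2,0,1,0,1,0,1,0,2,0,1,0,1,0,2,0,1,0,2,0,2,0,2,0,1,0,1,0,1,0,2,0,1,0,1,0,1,0,1,0,1,0,2,0,1,0,2,0,1,0,1,0,1,0,2,0,1,0,2,0,1,0,1,0,1,0,2,0,1,0,2,0,2,0,2,0,1,0,2,0]),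
  (0,10,0,[]),
  (0,9,0,[]),
  (2,6,2,[0,1,0,1,0,1,0,1,0,1,0,1,0,1,0,2,0,1,0,2,0,1,0,1,0,1,0,2,0,1,0,1,0,2,0,1,0,2,0,2,0,2,0,1,0,1,0,1,0,2,0,1,0,1,0,1,0,1,0,1,0,2,0,1,0,1,0,2,0,1,0,2,0,2,0,2,0,1,0,1,0,1,0,2,0,1,0,1,0,1,0,1,0,1,0,2,0,1,0,1,0,2,0,1,0,2,0,2,0,2,0,1,0,1,0,1,0,2,0,1,0,1,0,1,0,1,0,1,0,2,0,1,0,2,0,1,0,1,0,1,0,2,0,1,0,2,0,1,0,1,0,1,0,2,0,1,0,2,0,2,0,2,0,1,0,2,0]),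
  (0,9,0,[]),
  (0,8,0,[]),
  (2,5,2,[0,1,0,2,0,2,0,2,0,2,0,1,0,1,0,1,0,2,0,1,0,1,0,1,0,1,0,1,0,2,0,1,0,2,0,1,0,1,0,1,0,2,0,1,0,2,0,1,0,1,0,1,0,2,0,1,0,2,0,1,0,1,0,1,0,2,0,1,0,2,0,1,0,1,0,1,0,2,0,1,0,1,0,2,0,1,0,2,0,2,0,2,0,1,0,1,0,1,0,2,0,1,0,1,0,1,0,1,0,1,0,2,0,1,0,2,0,1,0,1,0,1,0,2,0,1,0,1,0,2,0,1,0,2,0,2,0,2,0,1,0,1,0,1,0,2,0,1,0,1,0,1,0,1,0,1,0,2,0,1,0,2,0,1,0,1,0,1,0,2,0,1,0,2,0,2,0,2,0,1,0,2,0]),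
  (0,8,0,[]),
  (0,7,0,[]),
  (2,4,1,[0,1,0,2,0,2,0,2,0,2,0,1,0,1,0,1,0,2,0,1,0,1,0,1,0,1,0,1,0,2,0,1,0,1,0,2,0,1,0,2,0,2,0,2,0,1,0,1,0,1,0,2,0,1,0,1,0,1,0,1,0,1,0,2,0,1,0,2,0,1,0,1,0,1,0,2,0,1,0,2,0,1,0,1,0,1,0,2,0,1,0,1,0,2,0,1,0,2,0,2,0,2,0,1,0,1,0,1,0,2,0,1,0,1,0,1,0,1,0,1,0,2,0,1,0,1,0,2,0,1,0,2,0,2,0,2,0,1,0,1,0,1,0,2,0,1,0,1,0,1,0,1,0,1,0,2,0,1,0,1,0,2,0,1,0,2,0,2,0,2,0,1,0,1,0,1,0,2,0,1,0,1,0,2,0,2,0,1,0,2,0]),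
  (0,7,0,[]),
  (0,6,0,[]),
  (0,3,0,[]),
  (0,6,0,[]),
  (2,6,0,[1,0,1,0,2,0,1,0,1,0,1,0,2,0,1,0,1,0,2,0,1,0,2,0,2,0,2,0,1,0,1,0,1,0,2,0,1,0,1,0,1,0,1,0,1,0,2,0,1,0,2,0,1,0,1,0,1,0,2,0,1,0,2,0,1,0,1,0,1,0,2,0,1,0,1,0,2,0,1,0,2,0,2,0,2,0,1,0,1,0,1,0,2,0,1,0,1,0,1,0,1,0,1,0,2,0,1,0,1,0,1,0,1,0,1,0,1,0,2,0,1,0,2,0,2]),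
  (2,5,3,[0,2,0,2,0,2,0,2,0,2,0,1,0,1,0,1,0,2,0,2,0,1,0,1,0,1,0,1,0,1,0,1,0,2,0,1,0,2,0,1,0,1,0,1,0,2,0,1,0,1,0,2,0,1,0,2,0,2,0,2,0,1,0,1,0,1,0,2,0,1,0,1,0,1,0,1,0,1,0,2,0,1,0,2,0,1,0,1,0,1,0,2,0,1,0,1,0,2,0,1,0,2,0,2,0,2,0,1,0,1,0,1,0,2,0,1,0,1,0,1,0,1,0,1,0,2,0,1,0,1,0,2,0,1,0,2,0,2,0,2,0,1,0,1,0,1,0,2,0,2,0,1,0,1,0,1,0,2,0,1,0,2,0,2]),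
  (0,8,0,[]),
  (0,7,0,[]),
  (2,4,3,[0,2,0,2,0,2,0,2,0,2,0,1,0,1,0,1,0,2,0,2,0,1,0,1,0,1,0,1,0,1,0,1,0,2,0,1,0,2,0,1,0,1,0,1,0,2,0,1,0,2,0,1,0,1,0,1,0,2,0,1,0,2,0,1,0,1,0,1,0,2,0,1,0,2,0,1,0,1,0,1,0,2,0,1,0,2,0,1,0,1,0,1,0,2,0,1,0,2,0,1,0,1,0,1,0,2,0,1,0,1,0,2,0,1,0,2,0,2,0,2,0,1,0,1,0,1,0,2,0,1,0,1,0,1,0,1,0,1,0,2,0,1,0,2,0,1,0,1,0,1,0,2,0,1,0,2,0,1,0,1,0,1,0,2,0,1,0,2,0,1,0,1,0,1,0,2,0,1,0,2,0,1,0,1,0,1,0,2,0,1,0,1,0,1,0,1,0,1,0,1,0,2,0,1,0,2,0,2]),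
  (0,7,0,[]),
  (0,6,0,[]),
  (2,3,3,[0,2,0,2,0,2,0,2,0,2,0,1,0,1,0,1,0,2,0,2,0,2,0,2,0,2,0,2,0,1,0,1,0,1,0,2,0,1,0,1,0,1,0,1,0,1,0,2,0,1,0,1,0,2,0,1,0,2,0,2,0,2,0,1,0,1,0,1,0,2,0,1,0,1,0,1,0,1,0,1,0,2,0,1,0,1,0,2,0,1,0,2,0,2,0,2,0,1,0,1,0,1,0,2,0,1,0,1,0,1,0,1,0,1,0,2,0,1,0,2,0,1,0,1,0,1,0,2,0,1,0,2,0,1,0,1,0,1,0,2,0,1,0,2,0,1,0,1,0,1,0,2,0,1,0,2,0,1,0,1,0,1,0,2,0,1,0,1,0,2,0,1,0,2,0,2,0,2,0,1,0,1,0,1,0,2,0,1,0,1,0,1,0,1,0,1,0,2,0,1,0,1,0,1,0,1,0,1,0,1,0,2,0,1,0,2,0,2]),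
  (0,6,0,[]),
  (0,5,0,[]),
  (2,2,1,[0,1,0,2,0,2,0,2,0,2,0,1,0,1,0,1,0,2,0,1,0,1,0,1,0,1,0,1,0,2,0,1,0,1,0,2,0,1,0,2,0,2,0,2,0,1,0,1,0,1,0,2,0,1,0,1,0,1,0,1,0,1,0,2,0,1,0,1,0,2,0,1,0,2,0,2,0,2,0,1,0,1,0,1,0,2,0,1,0,1,0,1,0,1,0,1,0,2,0,1,0,1,0,2,0,1,0,2,0,2,0,2,0,1,0,1,0,1,0,2,0,1,0,1,0,1,0,1,0,1,0,2,0,1,0,1,0,1,0,1,0,1,0,1,0,2,0,1,0,2,0,2]),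
  (0,5,0,[]),
  (0,4,0,[]),
  (2,6,2,[0,1,0,1,0,1,0,1,0,1,0,1,0,1,0,2,0,1,0,1,0,2,0,1,0,2,0,2,0,2,0,1,0,1,0,1,0,2,0,1,0,1,0,1,0,1,0,1,0,2,0,1,0,2,0,1,0,1,0,1,0,2,0,1,0,1,0,2,0,1,0,2,0,2,0,2,0,1,0,1,0,1,0,2,0,1,0,1,0,1,0,1,0,1,0,2,0,1,0,1,0,2,0,1,0,2,0,2,0,2,0,1,0,1,0,1,0,2,0,1,0,1,0,1,0,1,0,1,0,2,0,1,0,1,0,2,0,2,0,1,0,1,0,2,0,1,0,1,0,2,0,2,0,1,0,1,0]),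
  (0,9,0,[]),
  (0,8,0,[]),
  (2,5,3,[0,2,0,2,0,2,0,2,0,2,0,1,0,1,0,1,0,2,0,2,0,2,0,2,0,2,0,2,0,1,0,1,0,1,0,2,0,1,0,1,0,1,0,1,0,1,0,2,0,1,0,2,0,1,0,1,0,1,0,2,0,1,0,2,0,1,0,1,0,1,0,2,0,1,0,2,0,1,0,1,0,1,0,2,0,1,0,1,0,2,0,1,0,2,0,2,0,2,0,1,0,1,0,1,0,2,0,1,0,1,0,1,0,1,0,1,0,2,0,1,0,2,0,1,0,1,0,1,0,2,0,1,0,2,0,1,0,1,0,1,0,2,0,1,0,2,0,1,0,1,0,1,0,2,0,1,0,2,0,1,0,1,0,1,0,2,0,1,0,2,0,1,0,1,0,1,0,2,0,1,0,2,0,1,0,1,0,1,0,2,0,1,0,2,0,1,0,1,0,1,0,2,0,1,0,1,0,2,0,2,0,1,0,1,0,2,0,1,0,1,0,2,0,2,0,1,0,1,0]),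
  (0,8,0,[]),
  (0,7,0,[]),
  (2,4,3,[0,2,0,2,0,2,0,2,0,2,0,1,0,1,0,1,0,2,0,2,0,1,0,1,0,1,0,1,0,1,0,1,0,2,0,1,0,1,0,2,0,1,0,2,0,2,0,2,0,1,0,1,0,1,0,2,0,1,0,1,0,1,0,1,0,1,0,2,0,1,0,1,0,2,0,1,0,2,0,2,0,2,0,1,0,1,0,1,0,2,0,1,0,1,0,1,0,1,0,1,0,2,0,1,0,2,0,1,0,1,0,1,0,2,0,1,0,1,0,2,0,1,0,2,0,2,0,2,0,1,0,1,0,1,0,2,0,1,0,1,0,1,0,1,0,1,0,2,0,1,0,1,0,2,0,1,0,2,0,2,0,2,0,1,0,1,0,1,0,2,0,1,0,1,0,1,0,1,0,1,0,2,0,1,0,2,0,1,0,1,0,1,0,2,0,1,0,2,0,1,0,1,0,1,0,2,0,1,0,2,0,1,0,1,0,1,0,2,0,1,0,1,0,2,0,1,0,2,0,2,0,2,0,1,0,1,0,1,0,1,0,1,0,1,0,2,0,1,0,1,0,2,0,2,0,1,0,1,0]),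
  (0,7,0,[]),
  (0,6,0,[]),
  (0,3,0,[]),
  (2,7,0,[1,0,1,0,2,0,1,0,1,0,1,0,2,0,1,0,1,0,2,0,1,0,2,0,2,0,2,0,1,0,1,0,1,0,2,0,1,0,1,0,1,0,1,0,1,0,2,0,1,0,1,0,2,0,1,0,2,0,2,0,2,0,1,0,1,0,1,0,2,0,1,0,1,0,1,0,1,0,1,0,2,0,1,0,2,0,1,0,1,0,1,0,2,0,1,0,2,0,1,0,1,0,1,0,2,0,1,0,2,0,1,0,1,0,1,0,2,0,1,0,2,0,1,0,1,0,1,0,2,0,1,0,1,0,2,0,1,0,2,0,2,0,2,0,1,0,1,0,1,0,1,0,2,0]),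
  (2,6,1,[0,1,0,2,0,2,0,2,0,2,0,1,0,1,0,1,0,2,0,1,0,1,0,1,0,1,0,1,0,2,0,1,0,2,0,1,0,1,0,1,0,2,0,1,0,1,0,2,0,1,0,2,0,2,0,2,0,1,0,1,0,1,0,2,0,1,0,1,0,1,0,1,0,1,0,2,0,1,0,2,0,1,0,1,0,1,0,2,0,1,0,1,0,2,0,1,0,2,0,2,0,2,0,1,0,1,0,1,0,2,0,1,0,1,0,1,0,1,0,1,0,2,0,1,0,2,0,1,0,1,0,1,0,2,0,1,0,1,0,2,0,2,0,2,0]),
  (0,9,0,[]),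
  (0,8,0,[]),
  (2,5,1,[0,1,0,2,0,2,0,2,0,2,0,1,0,1,0,1,0,2,0,1,0,1,0,1,0,1,0,1,0,2,0,1,0,1,0,2,0,1,0,2,0,2,0,2,0,1,0,1,0,1,0,2,0,1,0,1,0,1,0,1,0,1,0,2,0,1,0,2,0,1,0,1,0,1,0,2,0,1,0,2,0,1,0,1,0,1,0,2,0,1,0,1,0,2,0,1,0,2,0,2,0,2,0,1,0,1,0,1,0,2,0,1,0,1,0,1,0,1,0,1,0,2,0,1,0,2,0,1,0,1,0,1,0,2,0,1,0,2,0,1,0,1,0,1,0,2,0,1,0,1,0,2,0,2,0,2,0]),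
  (0,8,0,[]),
  (0,7,0,[]),
  (2,4,1,[0,1,0,2,0,2,0,2,0,2,0,1,0,1,0,1,0,2,0,1,0,1,0,1,0,1,0,1,0,2,0,1,0,2,0,1,0,1,0,1,0,2,0,1,0,1,0,2,0,1,0,2,0,2,0,2,0,1,0,1,0,1,0,2,0,1,0,1,0,1,0,1,0,1,0,2,0,1,0,1,0,2,0,1,0,2,0,2,0,2,0,1,0,1,0,1,0,2,0,1,0,1,0,1,0,1,0,1,0,2,0,1,0,1,0,2,0,1,0,2,0,2,0,2,0,1,0,1,0,1,0,1,0,2,0]),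
  (0,7,0,[]),
  (0,6,0,[]),
  (2,7,1,[0,1,0,2,0,2,0,2,0,2,0,1,0,1,0,1,0,2,0,1,0,1,0,1,0,1,0,1,0,2,0,1,0,1,0,2,0,1,0,2,0,2,0,2,0,1,0,1,0,1,0,2,0,1,0,1,0,1,0,1,0,1,0,2,0,1,0,1,0,2,0,1,0,2,0,2,0,2,0,1,0,1,0,1,0,2,0,1,0,2,0,1,0,2,0,2,0,1,0,2,0,1,0]),
  (0,10,0,[]),
  (0,9,0,[]),
  (2,6,1,[0,1,0,1,0,1,0,1,0,1,0,1,0,1,0,2,0,1,0,2,0,1,0,1,0,1,0,2,0,1,0,1,0,2,0,1,0,2,0,2,0,2,0,1,0,1,0,1,0,2,0,1,0,1,0,1,0,1,0,1,0,2,0,1,0,2,0,1,0,1,0,1,0,2,0,1,0,1,0,2,0,1,0,2,0,2,0,2,0,1,0,1,0,1,0,2,0,1,0,2,0,1,0,2,0,2,0,1,0,2,0,1,0]),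
  (0,9,0,[]),
  (0,8,0,[]),
  (2,10,0,[1,0,1,0,2,0,1,0,1,0,1,0,2,0,1,0,1,0,2,0,1,0,2,0,2,0,2,0,1,0,1,0,1,0,2,0,1,0,1,0,1,0,1,0,1,0,2,0,1,0,2,0,1,0,1,0,1,0,2,0,1,0,1,0,2,0,1,0,2,0,2,0,2,0,1,0,1,0,1,0,2,0,1,0,1,0,1,0,1,0,1,0,2,0,1,0,2,0,1,0,1,0,1,0,2,0,1,0,1,0,2,0,1,0,2,0,2,0,2,0,1,0,1,0,1,0,2,0,1,0,1,0,1,0,1,0,1,0,2,0,1,0,1,0,2,0,2,0,2,0]),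
  (2,9,1,[0,1,0,1,0,1,0,1,0,1,0,1,0,1,0,2,0,1,0,1,0,2,0,1,0,2,0,2,0,2,0,1,0,1,0,1,0,1,0,2,0]),
  (0,12,0,[]),
  (0,11,0,[]),
  (2,8,1,[0,1,0,2,0,2,0,2,0,2,0,1,0,1,0,1,0,2,0,1,0,1,0,1,0,1,0,1,0,2,0,1,0,2,0,1,0,1,0,1,0,2,0,1,0,1,0,2,0,1,0,2,0,2,0,2,0,1,0,1,0,1,0,2,0,1,0,1,0,1,0,1,0,1,0,2,0,1,0,2,0,1,0,1,0,1,0,2,0,1,0,1,0,2,0,1,0,2,0,2,0,2,0,1,0,1,0,1,0,2,0,1,0,1,0,1,0,1,0,1,0,2,0,1,0,2,0,1,0,1,0,1,0,2,0,1,0,1,0,2,0,2,0,2,0]),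
  (0,11,0,[]),
  (0,10,0,[]),
  (2,7,1,[0,1,0,2,0,2,0,2,0,2,0,1,0,1,0,1,0,2,0,1,0,1,0,1,0,1,0,1,0,2,0,1,0,1,0,2,0,1,0,2,0,2,0,2,0,1,0,1,0,1,0,2,0,1,0,1,0,1,0,1,0,1,0,2,0,1,0,2,0,1,0,1,0,1,0,2,0,1,0,2,0,1,0,1,0,1,0,2,0,1,0,1,0,2,0,1,0,2,0,2,0,2,0,1,0,1,0,1,0,2,0,1,0,1,0,1,0,1,0,1,0,2,0,1,0,2,0,1,0,1,0,1,0,2,0,1,0,2,0,1,0,1,0,1,0,2,0,1,0,1,0,2,0,2,0,2,0]),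
  (0,10,0,[]),
  (0,9,0,[]),
  (2,6,1,[0,1,0,2,0,2,0,2,0,2,0,1,0,1,0,1,0,2,0,1,0,1,0,1,0,1,0,1,0,2,0,1,0,2,0,1,0,1,0,1,0,2,0,1,0,1,0,2,0,1,0,2,0,2,0,2,0,1,0,1,0,1,0,2,0,1,0,1,0,1,0,1,0,1,0,2,0,1,0,2,0,1,0,1,0,1,0,2,0,1,0,2,0,1,0,1,0,1,0,2,0,1,0,1,0,2,0,2,0,2,0]),
  (0,9,0,[]),
  (0,8,0,[]),
  (2,5,1,[0,1,0,2,0,2,0,2,0,2,0,1,0,1,0,1,0,2,0,1,0,1,0,1,0,1,0,1,0,2,0,1,0,2,0,1,0,1,0,1,0,2,0,1,0,1,0,2,0,1,0,2,0,2,0,2,0,1,0,1,0,1,0,2,0,1,0,1,0,1,0,1,0,1,0,2,0,1,0,1,0,2,0,1,0,2,0,2,0,2,0,1,0,1,0,1,0,2,0,1,0,1,0,1,0,1,0,1,0,2,0,1,0,1,0,2,0,1,0,2,0,2,0,2,0,1,0,1,0,1,0,1,0,2,0]),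
  (0,8,0,[]),
  (0,7,0,[]),
  (0,4,0,[]),
  (2,8,1,[0,1,0,2,0,2,0,2,0,2,0,1,0,1,0,1,0,2,0,1,0,1,0,1,0,1,0,1,0,2,0,1,0,2,0,1,0,1,0,1,0,2,0,1,0,1,0,2,0,1,0,2,0,2,0,2,0,1,0,1,0,1,0,2,0,1,0,1,0,1,0,1,0,1,0,2,0,1,0,1,0,2,0,1,0,2,0,2,0,2,0,1,0,1,0,1,0,1,0,1,0,1,0,2,0,1,0,1,0,2,0,2,0,1,0,1,0,2]),
  (0,11,0,[]),
  (0,10,0,[]),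
  (2,7,1,[0,1,0,2,0,2,0,2,0,2,0,1,0,1,0,1,0,2,0,1,0,1,0,1,0,1,0,1,0,2,0,1,0,2,0,1,0,1,0,1,0,2,0,1,0,1,0,2,0,1,0,2,0,2,0,2,0,1,0,1,0,1,0,2,0,1,0,1,0,1,0,1,0,1,0,2,0,1,0,2,0,1,0,1,0,1,0,2,0,1,0,1,0,2,0,1,0,2,0,2,0,2,0,1,0,1,0,1,0,2,0,1,0,1,0,1,0,1,0,1,0,2,0,1,0,1,0,2,0,2,0,1,0,1,0,2,0,1,0,1,0,2,0,2,0,1,0,1,0,2]),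
  (0,10,0,[]),
  (0,9,0,[]),
  (2,6,3,[0,2,0,2,0,2,0,2,0,2,0,1,0,1,0,1,0,2,0,2,0,2,0,2,0,2,0,2,0,1,0,1,0,1,0,2,0,1,0,1,0,1,0,1,0,1,0,2,0,1,0,1,0,2,0,1,0,2,0,2,0,2,0,1,0,1,0,1,0,2,0,1,0,1,0,1,0,1,0,1,0,2,0,1,0,2,0,1,0,1,0,1,0,2,0,1,0,2,0,1,0,1,0,1,0,2,0,1,0,2,0,1,0,1,0,1,0,2,0,1,0,2,0,1,0,1,0,1,0,2,0,1,0,2,0,1,0,1,0,1,0,2,0,1,0,2,0,1,0,1,0,1,0,2,0,1,0,2,0,1,0,1,0,1,0,2,0,1,0,2,0,1,0,1,0,1,0,2,0,1,0,2,0,1,0,1,0,1,0,2,0,1,0,1,0,2,0,2,0,1,0,1,0,2,0,1,0,1,0,2,0,2,0,1,0,1,0,2]),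
  (0,9,0,[]),
  (0,8,0,[]),
  (2,5,1,[0,1,0,2,0,2,0,2,0,2,0,1,0,1,0,1,0,2,0,1,0,1,0,1,0,1,0,1,0,2,0,1,0,1,0,2,0,1,0,2,0,2,0,2,0,1,0,1,0,1,0,2,0,1,0,1,0,1,0,1,0,1,0,2,0,1,0,2,0,1,0,1,0,1,0,2,0,1,0,2,0,1,0,1,0,1,0,2,0,1,0,2,0,1,0,1,0,1,0,2,0,1,0,1,0,2,0,1,0,2,0,2,0,2,0,1,0,1,0,1,0,2,0,1,0,1,0,1,0,1,0,1,0,2,0,1,0,1,0,2,0,2,0,1,0,1,0,2,0,1,0,1,0,2,0,2,0,1,0,1,0,2]),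
  (0,8,0,[]),
  (0,7,0,[]),
  (2,4,1,[0,1,0,1,0,1,0,1,0,1,0,1,0,1,0,2,0,1,0,2,0,1,0,1,0,1,0,2,0,1,0,1,0,2,0,1,0,2,0,2,0,2,0,1,0,1,0,1,0,2,0,1,0,1,0,1,0,1,0,1,0,2,0,1,0,1,0,2,0,1,0,2,0,2,0,2,0,1,0,1,0,1,0,2,0,1,0,1,0,1,0,1,0,1,0,2,0,1,0,2,0,1,0,1,0,1,0,2,0,1,0,2,0,1,0,1,0,1,0,2,0,1,0,1,0,2,0,1,0,2,0,2,0,2,0,1,0,1,0,1,0,1,0,1,0,1,0,2,0,1,0,1,0,2,0,2,0,1,0,1,0,2]),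
  (0,7,0,[]),
  (0,6,0,[]),
  (2,9,1,[0,1,0,2,0,2,0,2,0,2,0,1,0,1,0,1,0,2,0,1,0,1,0,1,0,1,0,1,0,2,0,1,0,2,0,1,0,1,0,1,0,2,0,1,0,2,0,1,0,1,0,1,0,2,0,1,0,2,0,1,0,1,0,1,0,2,0,1,0,2,0,1,0,1,0,1,0,2,0,1,0,2,0,1,0,1,0,1,0,2,0,1,0,1,0,2,0,2,0,1,0,1,0,2,0,1,0,1,0,1,0,2,0,2,0,2]),
  (0,12,0,[]),
  (0,11,0,[]),
  (2,11,0,[1,0,1,0,2,0,1,0,1,0,1,0,2,0,1,0,2,0,1,0,1,0,1,0,2,0,1,0,2,0,1,0,1,0,1,0,2,0,1,0,2,0,1,0,1,0,1,0,2,0,1,0,1,0,2,0,1,0,2,0,2,0,2,0,1,0,1,0,1,0,2,0,1,0,1,0,1,0,1,0,1,0,2,0,1,0,1,0,1,0,1,0,1,0,1,0,2,0,1,0,2,0]),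
  (2,10,1,[0,1,0,2,0,2,0,2,0,2,0,1,0,1,0,1,0,2,0,1,0,1,0,1,0,1,0,1,0,2,0,1,0,1,0,2,0,1,0,2,0,2,0,2,0,1,0,1,0,1,0,2,0,1,0,1,0,1,0,1,0,1,0,2,0,1,0,2,0,1,0,1,0,1,0,2,0,1,0,2,0,1,0,1,0,1,0,2,0,1,0,1,0,2,0,1,0,2,0,2,0,2,0,1,0,1,0,1,0,2,0,1,0,1,0,1,0,1,0,1,0,2,0,1,0,2,0,1,0,1,0,1,0,2,0,1,0,1,0,1,0,1,0,1,0,1,0,2,0,1,0,2,0]),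
  (0,13,0,[]),
  (0,12,0,[]),
  (2,9,3,[0,2,0,2,0,2,0,2,0,2,0,1,0,1,0,1,0,2,0,2,0,2,0,2,0,2,0,2,0,1,0,1,0,1,0,2,0,1,0,1,0,1,0,1,0,1,0,2,0,1,0,2,0,1,0,1,0,1,0,2,0,1,0,2,0,1,0,1,0,1,0,2,0,1,0,1,0,2,0,1,0,2,0,2,0,2,0,1,0,1,0,1,0,2,0,1,0,1,0,1,0,1,0,1,0,2,0,1,0,1,0,2,0,1,0,2,0,2,0,2,0,1,0,1,0,1,0,2,0,1,0,1,0,1,0,1,0,1,0,2,0,1,0,2,0,1,0,1,0,1,0,2,0,1,0,1,0,2,0,1,0,2,0,2,0,2,0,1,0,1,0,1,0,2,0,1,0,1,0,1,0,1,0,1,0,2,0,1,0,2,0,1,0,1,0,1,0,2,0,1,0,2,0,1,0,1,0,1,0,2,0,1,0,1,0,1,0,1,0,1,0,1,0,2,0,1,0,2,0]),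
  (0,12,0,[]),
  (0,11,0,[]),
  (2,8,3,[0,2,0,2,0,2,0,2,0,2,0,1,0,1,0,1,0,2,0,2,0,2,0,2,0,2,0,2,0,1,0,1,0,1,0,2,0,1,0,1,0,1,0,1,0,1,0,2,0,1,0,2,0,1,0,1,0,1,0,2,0,1,0,1,0,2,0,1,0,2,0,2,0,2,0,1,0,1,0,1,0,2,0,1,0,1,0,1,0,1,0,1,0,2,0,1,0,2,0,1,0,1,0,1,0,2,0,1,0,2,0,1,0,1,0,1,0,2,0,1,0,1,0,2,0,1,0,2,0,2,0,2,0,1,0,1,0,1,0,2,0,1,0,1,0,1,0,1,0,1,0,2,0,1,0,2,0,1,0,1,0,1,0,2,0,1,0,2,0,1,0,1,0,1,0,2,0,1,0,2,0,1,0,1,0,1,0,2,0,1,0,2,0,1,0,1,0,1,0,2,0,1,0,1,0,1,0,1,0,1,0,1,0,2,0,1,0,2,0]),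
  (0,11,0,[]),
  (0,10,0,[]),
  (2,7,1,[0,1,0,2,0,2,0,2,0,2,0,1,0,1,0,1,0,2,0,1,0,1,0,1,0,1,0,1,0,2,0,1,0,2,0,1,0,1,0,1,0,2,0,1,0,1,0,2,0,1,0,2,0,2,0,2,0,1,0,1,0,1,0,2,0,1,0,1,0,1,0,1,0,1,0,2,0,1,0,1,0,2,0,1,0,2,0,2,0,2,0,1,0,1,0,1,0,2,0,1,0,1,0,1,0,1,0,1,0,2,0,1,0,2,0,1,0,1,0,1,0,2,0,1,0,1,0,1,0,1,0,1,0,1,0,2,0,1,0,2,0]),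
  (0,10,0,[]),
  (0,9,0,[]),
  (2,6,1,[0,1,0,2,0,2,0,2,0,2,0,1,0,1,0,1,0,2,0,1,0,1,0,1,0,1,0,1,0,2,0,1,0,2,0,1,0,1,0,1,0,2,0,1,0,1,0,2,0,1,0,2,0,2,0,2,0,1,0,1,0,1,0,2,0,1,0,1,0,1,0,1,0,1,0,2,0,1,0,2,0,1,0,1,0,1,0,2,0,1,0,1,0,2,0,1,0,2,0,2,0,2,0,1,0,1,0,1,0,2,0,1,0,1,0,1,0,1,0,1,0,2,0,1,0,2,0,1,0,1,0,1,0,2,0,1,0,2,0,1,0,1,0,1,0,2,0,1,0,1,0,1,0,1,0,1,0,1,0,2,0,1,0,2,0]),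
  (0,9,0,[]),
  (0,8,0,[]),
  (2,5,3,[0,2,0,2,0,2,0,2,0,2,0,1,0,1,0,1,0,2,0,2,0,1,0,1,0,1,0,1,0,1,0,1,0,2,0,1,0,2,0,1,0,1,0,1,0,2,0,1,0,2,0,1,0,1,0,1,0,2,0,1,0,1,0,2,0,1,0,2,0,2,0,2,0,1,0,1,0,1,0,2,0,1,0,1,0,1,0,1,0,1,0,2,0,1,0,1,0,2,0,1,0,2,0,2,0,2,0,1,0,1,0,1,0,2,0,1,0,1,0,1,0,1,0,1,0,2,0,1,0,2,0,1,0,1,0,1,0,2,0,1,0,1,0,2,0,1,0,2,0,2,0,2,0,1,0,1,0,1,0,2,0,1,0,1,0,1,0,1,0,1,0,2,0,1,0,2,0,1,0,1,0,1,0,2,0,1,0,2,0,1,0,1,0,1,0,2,0,1,0,1,0,1,0,1,0,1,0,1,0,2,0,1,0,2,0]),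
  (0,8,0,[]),
  (0,7,0,[]),
  (2,4,3,[0,2,0,2,0,2,0,2,0,2,0,1,0,1,0,1,0,2,0,2,0,2,0,2,0,2,0,2,0,1,0,1,0,1,0,2,0,1,0,1,0,1,0,1,0,1,0,2,0,1,0,2,0,1,0,1,0,1,0,2,0,1,0,2,0,1,0,1,0,1,0,2,0,1,0,2,0,1,0,1,0,1,0,2,0,1,0,1,0,2,0,1,0,2,0,2,0,2,0,1,0,1,0,1,0,2,0,1,0,1,0,1,0,1,0,1,0,2,0,1,0,2,0,1,0,1,0,1,0,2,0,1,0,2,0,1,0,1,0,1,0,2,0,1,0,2,0,1,0,1,0,1,0,2,0,1,0,2,0,1,0,1,0,1,0,2,0,1,0,2,0,1,0,1,0,1,0,2,0,1,0,2,0,1,0,1,0,1,0,2,0,1,0,2,0,1,0,1,0,1,0,2,0,1,0,2,0,1,0,1,0,1,0,2,0,1,0,2,0,1,0,1,0,1,0,2,0,1,0,1,0,1,0,1,0,1,0,1,0,2,0,1,0,2,0]),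
  (0,7,0,[]),
  (0,6,0,[]),
  (2,3,3,[0,2,0,2,0,2,0,2,0,2,0,1,0,1,0,1,0,2,0,2,0,1,0,1,0,1,0,1,0,1,0,1,0,2,0,1,0,2,0,1,0,1,0,1,0,2,0,1,0,1,0,2,0,1,0,2,0,2,0,2,0,1,0,1,0,1,0,2,0,1,0,1,0,1,0,1,0,1,0,2,0,1,0,2,0,1,0,1,0,1,0,2,0,1,0,2,0,1,0,1,0,1,0,2,0,1,0,2,0,1,0,1,0,1,0,2,0,1,0,2,0,1,0,1,0,1,0,2,0,1,0,2,0,1,0,1,0,1,0,2,0,1,0,1,0,2,0,1,0,2,0,2,0,2,0,1,0,1,0,1,0,2,0,1,0,1,0,1,0,1,0,1,0,2,0,1,0,1,0,2,0,1,0,2,0,2,0,2,0,1,0,1,0,1,0,2,0,1,0,1,0,1,0,1,0,1,0,2,0,1,0,1,0,1,0,1,0,1,0,1,0,2,0,1,0,2,0]),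
  (0,6,0,[]),
  (0,5,0,[]),
  (2,2,2,[0,1,0,1,0,1,0,1,0,1,0,1,0,1,0,2,0,1,0,2,0,1,0,1,0,1,0,2,0,1,0,1,0,2,0,1,0,2,0,2,0,2,0,1,0,1,0,1,0,2,0,1,0,1,0,1,0,1,0,1,0,2,0,1,0,2,0,1,0,1,0,1,0,2,0,1,0,2,0,1,0,1,0,1,0,2,0,1,0,1,0,2,0,1,0,2,0,2,0,2,0,1,0,1,0,1,0,2,0,1,0,1,0,1,0,1,0,1,0,2,0,1,0,2,0,1,0,1,0,1,0,2,0,1,0,1,0,1,0,1,0,1,0,1,0,2,0,1,0,2,0]),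
  (0,5,0,[]),
  (0,4,0,[]),
  (2,11,1,[0,1,0,2,0,2,0,2,0,2,0,1,0,1,0,1,0,2,0,1,0,1,0,1,0,1,0,1,0,2,0,1,0,1,0,2,0,1,0,2,0,2,0,2,0,1,0,1,0,1,0,1,0,1,0,2,0,1,0,1,0,1,0,2,0,2,0,1,0]),
  (0,14,0,[]),
  (0,13,0,[]),
  (2,10,3,[0,2,0,2,0,2,0,2,0,2,0,1,0,1,0,1,0,2,0,2,0,1,0,1,0,1,0,1,0,1,0,1,0,2,0,1,0,2,0,1,0,1,0,1,0,2,0,1,0,1,0,2,0,1,0,2,0,2,0,2,0,1,0,1,0,1,0,2,0,1,0,1,0,1,0,1,0,1,0,2,0,1,0,1,0,2,0,1,0,2,0,2,0,2,0,1,0,1,0,1,0,2,0,1,0,1,0,1,0,1,0,1,0,2,0,1,0,2,0,1,0,1,0,1,0,2,0,1,0,2,0,1,0,1,0,1,0,2,0,1,0,2,0,1,0,1,0,1,0,2,0,1,0,1,0,2,0,1,0,2,0,2,0,2,0,1,0,1,0,1,0,2,0,1,0,1,0,1,0,1,0,1,0,2,0,1,0,2,0,1,0,1,0,1,0,2,0,1,0,1,0,2,0,1,0,2,0,2,0,2,0,1,0,1,0,1,0,1,0,1,0,2,0,1,0,1,0,1,0,2,0,2,0,1,0]),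
  (0,13,0,[]),
  (0,12,0,[]),
  (2,9,3,[0,2,0,2,0,2,0,2,0,2,0,1,0,1,0,1,0,2,0,2,0,1,0,1,0,1,0,1,0,1,0,1,0,2,0,1,0,1,0,2,0,1,0,2,0,2,0,2,0,1,0,1,0,1,0,2,0,1,0,1,0,1,0,1,0,1,0,2,0,1,0,1,0,2,0,1,0,2,0,2,0,2,0,1,0,1,0,1,0,2,0,1,0,1,0,1,0,1,0,1,0,2,0,1,0,2,0,1,0,1,0,1,0,2,0,1,0,2,0,1,0,1,0,1,0,2,0,1,0,2,0,1,0,1,0,1,0,2,0,1,0,2,0,1,0,1,0,1,0,2,0,1,0,2,0,1,0,1,0,1,0,2,0,1,0,2,0,1,0,1,0,1,0,2,0,1,0,2,0,1,0,1,0,1,0,2,0,1,0,1,0,2,0,2,0,1,0,2,0,1,0,1,0,1,0,2,0,2,0,1,0]),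
  (0,12,0,[]),
  (0,11,0,[]),
  (0,8,0,[]),
  (0,10,0,[]),
  (2,10,0,[1,0,1,0,2,0,1,0,1,0,1,0,2,0,1,0,2,0,1,0,1,0,1,0,2,0,1,0,2,0,1,0,1,0,1,0,2,0,1,0,2,0,1,0,1,0,1,0,2,0,1,0,2,0,1,0,1,0,1,0,2,0,1,0,2,0,1,0,1,0,1,0,2,0,1,0,2,0,1,0,1,0,1,0,2,0,1,0,2,0,1,0,1,0,1,0,2,0,1,0,2,0,1,0,1,0,1,0,2,0,1,0,1,0,2,0,1,0,1,0,2,0,2,0,1,0,2,0]),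
  (2,9,1,[0,1,0,2,0,2,0,2,0,2,0,1,0,1,0,1,0,2,0,1,0,1,0,1,0,1,0,1,0,2,0,1,0,2,0,1,0,1,0,1,0,2,0,1,0,1,0,2,0,1,0,2,0,2,0,2,0,1,0,1,0,1,0,2,0,1,0,1,0,1,0,1,0,1,0,2,0,1,0,2,0,1,0,1,0,1,0,2,0,1,0,1,0,2,0,1,0,2,0,2,0,2,0,1,0,1,0,1,0,2,0,1,0,1,0,1,0,1,0,1,0,2,0,1,0,2,0,1,0,1,0,1,0,2,0,1,0,2,0,1,0,1,0,1,0,2,0,1,0,1,0,2,0,1,0,1,0,2,0,2,0,1,0,2,0]),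
  (0,12,0,[]),
  (0,11,0,[]),
  (2,8,2,[0,1,0,1,0,1,0,1,0,1,0,1,0,1,0,2,0,1,0,2,0,1,0,1,0,1,0,2,0,1,0,2,0,1,0,1,0,1,0,2,0,1,0,1,0,2,0,1,0,2,0,2,0,2,0,1,0,1,0,1,0,2,0,1,0,1,0,1,0,1,0,1,0,2,0,1,0,2,0,1,0,1,0,1,0,2,0,1,0,1,0,2,0,1,0,1,0,2,0,2,0,1,0,2,0]),
  (0,11,0,[]),
  (0,10,0,[]),
  (2,7,2,[0,1,0,2,0,2,0,2,0,2,0,1,0,1,0,1,0,2,0,1,0,1,0,1,0,1,0,1,0,2,0,1,0,2,0,1,0,1,0,1,0,2,0,1,0,2,0,1,0,1,0,1,0,2,0,1,0,2,0,1,0,1,0,1,0,2,0,1,0,1,0,2,0,1,0,1,0,2,0,2,0,1,0,2,0]),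
  (0,10,0,[]),
  (0,9,0,[]),
  (2,6,1,[0,1,0,1,0,1,0,1,0,1,0,1,0,1,0,2,0,1,0,2,0,1,0,1,0,1,0,2,0,1,0,1,0,2,0,1,0,2,0,2,0,2,0,1,0,1,0,1,0,2,0,1,0,1,0,1,0,1,0,1,0,2,0,1,0,1,0,2,0,1,0,2,0,2,0,2,0,1,0,1,0,1,0,2,0,1,0,1,0,1,0,1,0,1,0,2,0,1,0,1,0,2,0,1,0,1,0,2,0,2,0,1,0,2,0]),
  (0,9,0,[]),
  (0,8,0,[]),
  (2,5,1,[0,1,0,2,0,2,0,2,0,2,0,1,0,1,0,1,0,2,0,1,0,1,0,1,0,1,0,1,0,2,0,1,0,1,0,2,0,1,0,2,0,2,0,2,0,1,0,1,0,1,0,2,0,1,0,1,0,1,0,1,0,1,0,2,0,1,0,2,0,1,0,1,0,1,0,2,0,1,0,2,0,1,0,1,0,1,0,2,0,1,0,1,0,2,0,1,0,2,0,2,0,2,0,1,0,1,0,1,0,2,0,1,0,1,0,1,0,1,0,1,0,2,0,1,0,1,0,2,0,1,0,1,0,2,0,2,0,1,0,2,0]),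
  (0,8,0,[]),
  (0,7,0,[]),
  (0,4,0,[]),
  (2,8,1,[0,1,0,2,0,2,0,2,0,2,0,1,0,1,0,1,0,2,0,1,0,1,0,1,0,1,0,1,0,2,0,1,0,1,0,2,0,1,0,2,0,2,0,2,0,1,0,1,0,1,0,2,0,1,0,1,0,1,0,1,0,1,0,2,0,1,0,2,0,1,0,1,0,1,0,2,0,1,0,2,0,1,0,1,0,1,0,2,0,1,0,1,0,2,0,1,0,2,0,2,0,2,0,1,0,1,0,1,0,2,0,1,0,1,0,1,0,1,0,1,0,2,0,1,0,1,0,2,0,1,0,2,0,2,0,2,0,1,0,1,0,2,0,1,0,2,0,1,0,2,0]),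
  (0,11,0,[]),
  (0,10,0,[]),
  (2,7,2,[0,1,0,1,0,1,0,1,0,1,0,1,0,1,0,2,0,1,0,2,0,1,0,1,0,1,0,2,0,1,0,1,0,2,0,1,0,2,0,2,0,2,0,1,0,1,0,1,0,2,0,1,0,1,0,1,0,1,0,1,0,2,0,1,0,1,0,2,0,1,0,2,0,2,0,2,0,1,0,1,0,1,0,2,0,1,0,1,0,1,0,1,0,1,0,2,0,1,0,1,0,2,0,1,0,2,0,2,0,2,0,1,0,1,0,1,0,2,0,1,0,1,0,1,0,1,0,1,0,2,0,1,0,1,0,2,0,1,0,2,0,2,0,2,0,1,0,1,0,1,0,2,0,1,0,1,0,1,0,1,0,1,0,2,0,1,0,1,0,2,0,1,0,1,0,1,0,2,0,1,0,2,0]),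
  (0,10,0,[]),
  (0,9,0,[]),
  (2,6,2,[0,1,0,1,0,1,0,1,0,1,0,1,0,1,0,2,0,1,0,1,0,2,0,1,0,2,0,2,0,2,0,1,0,1,0,1,0,2,0,1,0,1,0,1,0,1,0,1,0,2,0,1,0,1,0,2,0,1,0,2,0,2,0,2,0,1,0,1,0,1,0,2,0,1,0,1,0,1,0,1,0,1,0,2,0,1,0,1,0,2,0,1,0,2,0,2,0,2,0,1,0,1,0,1,0,2,0,1,0,1,0,1,0,1,0,1,0,2,0,1,0,1,0,2,0,1,0,2,0,2,0,2,0,1,0,1,0,1,0,2,0,1,0,1,0,1,0,1,0,1,0,2,0,1,0,1,0,2,0,1,0,2,0,2,0,2,0,1,0,1,0,2,0,1,0,2,0,1,0,2,0]),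
  (0,9,0,[]),
  (0,8,0,[]),
  (0,5,0,[]),
  (0,7,0,[]),
  (2,7,0,[1,0,1,0,2,0,1,0,1,0,1,0,2,0,1,0,2,0,1,0,1,0,1,0,2,0,1,0,2,0,1,0,1,0,1,0,2,0,1,0,1,0,2,0,1,0,2,0,2,0,2,0,1,0,1,0,1,0,2,0,1,0,1,0,1,0,1,0,1,0,2,0,1,0,2,0,1,0,1,0,1,0,2,0,1,0,2,0,1,0,1,0,1,0,2,0,1,0,2,0,1,0,1,0,1,0,2,0,1,0,1,0,2,0,1,0,2,0,2,0,2,0,1,0,1,0,1,0,2,0,1,0,1,0,1,0,1,0,1,0,2,0,1,0,1,0,2,0,1,0,1,0,2,0,2,0,2,0,1,0,2,0,2,0,1]),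
  (2,6,2,[0,1,0,1,0,1,0,1,0,1,0,1,0,1,0,2,0,1,0,2,0,1,0,1,0,1,0,2,0,1,0,1,0,2,0,1,0,2,0,2,0,2,0,1,0,1,0,1,0,2,0,1,0,1,0,1,0,1,0,1,0,2,0,1,0,1,0,2,0,1,0,2,0,2,0,2,0,1,0,1,0,1,0,2,0,1,0,1,0,1,0,1,0,1,0,2,0,1,0,2,0,1,0,1,0,1,0,2,0,1,0,1,0,2,0,1,0,1,0,2,0,2,0,2,0,1,0,2,0,2,0,1]),
  (0,9,0,[]),
  (0,8,0,[]),
  (2,5,3,[0,2,0,2,0,2,0,2,0,2,0,1,0,1,0,1,0,2,0,2,0,1,0,1,0,1,0,1,0,1,0,1,0,2,0,1,0,2,0,1,0,1,0,1,0,2,0,1,0,1,0,2,0,1,0,2,0,2,0,2,0,1,0,1,0,1,0,2,0,1,0,1,0,1,0,1,0,1,0,2,0,1,0,1,0,2,0,1,0,2,0,2,0,2,0,1,0,1,0,1,0,2,0,1,0,1,0,1,0,1,0,1,0,2,0,1,0,2,0,1,0,1,0,1,0,2,0,1,0,2,0,1,0,1,0,1,0,2,0,1,0,1,0,2,0,1,0,2,0,2,0,2,0,1,0,1,0,1,0,2,0,1,0,1,0,1,0,1,0,1,0,2,0,1,0,1,0,2,0,1,0,2,0,2,0,2,0,1,0,1,0,1,0,2,0,1,0,1,0,1,0,1,0,1,0,2,0,1,0,1,0,2,0,1,0,1,0,2,0,2,0,2,0,1,0,2,0,2,0,1]),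
  (0,8,0,[]),
  (0,7,0,[]),
  (2,4,3,[0,2,0,2,0,2,0,2,0,2,0,1,0,1,0,1,0,2,0,2,0,2,0,2,0,2,0,2,0,1,0,1,0,1,0,2,0,1,0,1,0,1,0,1,0,1,0,2,0,1,0,1,0,2,0,1,0,2,0,2,0,2,0,1,0,1,0,1,0,2,0,1,0,1,0,1,0,1,0,1,0,2,0,1,0,2,0,1,0,1,0,1,0,2,0,1,0,2,0,1,0,1,0,1,0,2,0,1,0,2,0,1,0,1,0,1,0,2,0,1,0,1,0,2,0,1,0,2,0,2,0,2,0,1,0,1,0,1,0,2,0,1,0,1,0,1,0,1,0,1,0,2,0,1,0,1,0,2,0,1,0,2,0,2,0,2,0,1,0,1,0,1,0,2,0,1,0,1,0,1,0,1,0,1,0,2,0,1,0,2,0,1,0,1,0,1,0,2,0,1,0,1,0,2,0,1,0,2,0,2,0,2,0,1,0,1,0,2,0,2,0,2,0,2,0,1,0,2,0,2,0,1]),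
  (0,7,0,[]),
  (0,6,0,[]),
  (2,3,1,[0,1,0,1,0,1,0,1,0,1,0,1,0,1,0,2,0,1,0,2,0,1,0,1,0,1,0,2,0,1,0,2,0,1,0,1,0,1,0,2,0,1,0,1,0,2,0,1,0,2,0,2,0,2,0,1,0,1,0,2,0,2,0,2,0,2,0,1,0,2,0,2,0,1]),
  (0,6,0,[]),
  (0,5,0,[]),
  (2,2,2,[0,1,0,2,0,2,0,2,0,2,0,1,0,1,0,1,0,2,0,1,0,1,0,1,0,1,0,1,0,2,0,1,0,1,0,2,0,1,0,2,0,2,0,2,0,1,0,1,0,1,0,2,0,1,0,1,0,1,0,1,0,1,0,2,0,1,0,2,0,1,0,1,0,1,0,2,0,1,0,2,0,1,0,1,0,1,0,2,0,1,0,1,0,2,0,1,0,2,0,2,0,2,0,1,0,1,0,1,0,2,0,1,0,1,0,1,0,1,0,1,0,2,0,1,0,2,0,1,0,1,0,1,0,2,0,1,0,1,0,2,0,1,0,2,0,2,0,2,0,1,0,1,0,1,0,2,0,1,0,1,0,1,0,1,0,1,0,2,0,1,0,2,0,1,0,1,0,1,0,2,0,1,0,1,0,2,0,1,0,1,0,2,0,2,0,2,0,1,0,2,0,2,0,1]),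
  (0,5,0,[]),
  (0,4,0,[]),
  (2,1,2,[0,1,0,1,0,1,0,1,0,1,0,1,0,1,0,2,0,1,0,1,0,2,0,1,0,2,0,2,0,2,0,1,0,1,0,1,0,2,0,1,0,1,0,1,0,1,0,1,0,2,0,1,0,1,0,2,0,1,0,2,0,2,0,2,0,1,0,1,0,1,0,2,0,1,0,1,0,1,0,1,0,1,0,2,0,1,0,1,0,2,0,1,0,2,0,2,0,2,0,1,0,1,0,1,0,2,0,1,0,1,0,1,0,1,0,1,0,2,0,1,0,2,0,1,0,1,0,1,0,2,0,1,0,1,0,2,0,1,0,1,0,2,0,2,0,2,0,1,0,2,0,2,0,1]),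
  (0,4,0,[]),
  (0,3,0,[]),
  (0,0,0,[]),
  (2,5,2,[0,1,0,1,0,1,0,1,0,1,0,1,0,1,0,2,0,1,0,1,0,2,0,1,0,2,0,2,0,2,0,1,0,1,0,1,0,2,0,1,0,1,0,1,0,1,0,1,0,2,0,1,0,1,0,2,0,1,0,2,0,2,0,2,0,1,0,1,0,1,0,2,0,1,0,1,0,1,0,1,0,1,0,2,0,1,0,1,0,2,0,1,0,2,0,2,0,2,0,1,0,1,0,1,0,2,0,1,0,1,0,1,0,1,0,1,0,2,0,1,0,2,0,1,0,1,0,1,0,2,0,1,0,2,0,1,0,1,0,1,0,2,0,1,0,2,0,1,0,1,0,1,0,2,0,1,0,1,0,2,0,1,0,2,0,2,0,2,0,1,0,1,0,1,0,2,0,1,0,1,0,1,0,1,0,1,0,2,0,1,0,2,0,1,0,1,0,1,0,2,0,1,0,1,0,2,0,2,0,1,0,2,0,1,0,1,0,1,0,2,0,2,0,1,0,1,0,1,0,1,0,1]),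
  (0,8,0,[]),
  (0,7,0,[]),
  (2,4,3,[0,2,0,2,0,2,0,2,0,2,0,1,0,1,0,1,0,2,0,2,0,1,0,1,0,1,0,1,0,1,0,1,0,2,0,1,0,2,0,1,0,1,0,1,0,2,0,1,0,2,0,1,0,1,0,1,0,2,0,1,0,2,0,1,0,1,0,1,0,2,0,1,0,2,0,1,0,1,0,1,0,2,0,1,0,2,0,1,0,1,0,1,0,2,0,1,0,1,0,2,0,1,0,2,0,2,0,2,0,1,0,1,0,1,0,2,0,1,0,1,0,1,0,1,0,1,0,2,0,1,0,2,0,1,0,1,0,1,0,2,0,1,0,2,0,1,0,1,0,1,0,2,0,1,0,1,0,2,0,1,0,2,0,2,0,2,0,1,0,1,0,1,0,2,0,1,0,1,0,1,0,1,0,1,0,2,0,1,0,1,0,2,0,2,0,1,0,2,0,1,0,1,0,1,0,2,0,2,0,1,0,1,0,1,0,1,0,1]),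
  (0,7,0,[]),
  (0,6,0,[]),
  (2,3,3,[0,2,0,2,0,2,0,2,0,2,0,1,0,1,0,1,0,2,0,2,0,1,0,1,0,1,0,1,0,1,0,1,0,2,0,1,0,1,0,2,0,1,0,2,0,2,0,2,0,1,0,1,0,1,0,2,0,1,0,1,0,1,0,1,0,1,0,2,0,1,0,2,0,1,0,1,0,1,0,2,0,1,0,1,0,2,0,1,0,2,0,2,0,2,0,1,0,1,0,1,0,2,0,1,0,1,0,1,0,1,0,1,0,2,0,1,0,2,0,1,0,1,0,1,0,2,0,1,0,2,0,1,0,1,0,1,0,2,0,1,0,2,0,1,0,1,0,1,0,2,0,1,0,1,0,2,0,1,0,2,0,2,0,2,0,1,0,1,0,1,0,2,0,1,0,1,0,1,0,1,0,1,0,2,0,1,0,1,0,2,0,1,0,2,0,2,0,2,0,1,0,1,0,1,0,1,0,1,0,2,0,1,0,1,0,1,0,2,0,2,0,1,0,1,0,1,0,1,0,1]),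
  (0,6,0,[]),
  (0,5,0,[]),
  (2,2,1,[0,1,0,2,0,2,0,2,0,2,0,1,0,1,0,1,0,2,0,1,0,1,0,1,0,1,0,1,0,2,0,1,0,2,0,1,0,1,0,1,0,2,0,1,0,2,0,1,0,1,0,1,0,2,0,1,0,2,0,1,0,1,0,1,0,2,0,1,0,2,0,1,0,1,0,1,0,2,0,1,0,1,0,2,0,2,0,1,0,2,0,1,0,1,0,1,0,2,0,2,0,1,0,1,0,1,0,1,0,1]),
  (0,5,0,[]),
  (0,4,0,[]),
  (2,6,1,[0,1,0,1,0,1,0,1,0,1,0,1,0,1,0,2,0,1,0,2,0,1,0,1,0,1,0,2,0,1,0,2,0,1,0,1,0,1,0,2,0,1,0,1,0,2,0,1,0,2,0,2,0,2,0,1,0,1,0,1,0,2,0,1,0,1,0,1,0,1,0,1,0,2,0,1,0,2,0,1,0,1,0,1,0,2,0,1,0,2,0,1,0,1,0,1,0,2,0,1,0,2,0,1,0,1,0,1,0,2,0,1,0,2,0,1,0,1,0,1,0,2,0,1,0,1,0,1,0,1,0,1,0,1,0,2,0,1,0,2,0,2]),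
  (0,9,0,[]),
  (0,8,0,[]),
  (2,5,3,[0,2,0,2,0,2,0,2,0,2,0,1,0,1,0,1,0,2,0,2,0,1,0,1,0,1,0,1,0,1,0,1,0,2,0,1,0,2,0,1,0,1,0,1,0,2,0,1,0,1,0,2,0,1,0,2,0,2,0,2,0,1,0,1,0,1,0,2,0,1,0,1,0,1,0,1,0,1,0,2,0,1,0,1,0,2,0,1,0,2,0,2,0,2,0,1,0,1,0,1,0,2,0,1,0,1,0,1,0,1,0,1,0,2,0,1,0,2,0,1,0,1,0,1,0,2,0,1,0,2,0,1,0,1,0,1,0,2,0,1,0,2,0,1,0,1,0,1,0,2,0,1,0,2,0,1,0,1,0,1,0,2,0,1,0,2,0,1,0,1,0,1,0,2,0,1,0,2,0,1,0,1,0,1,0,2,0,1,0,2,0,1,0,1,0,1,0,2,0,1,0,1,0,1,0,1,0,1,0,1,0,2,0,1,0,2,0,2]),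
  (0,8,0,[]),
  (0,7,0,[]),
  (2,4,3,[0,2,0,2,0,2,0,2,0,2,0,1,0,1,0,1,0,2,0,2,0,1,0,1,0,1,0,1,0,1,0,1,0,2,0,1,0,1,0,2,0,1,0,2,0,2,0,2,0,1,0,1,0,1,0,2,0,1,0,1,0,1,0,1,0,1,0,2,0,1,0,1,0,2,0,1,0,2,0,2,0,2,0,1,0,1,0,1,0,2,0,1,0,1,0,1,0,1,0,1,0,2,0,1,0,2,0,1,0,1,0,1,0,2,0,1,0,2,0,1,0,1,0,1,0,2,0,1,0,2,0,1,0,1,0,1,0,2,0,1,0,2,0,1,0,1,0,1,0,2,0,1,0,1,0,2,0,1,0,2,0,2,0,2,0,1,0,1,0,1,0,2,0,1,0,1,0,1,0,1,0,1,0,2,0,1,0,1,0,1,0,1,0,1,0,1,0,2,0,1,0,2,0,2]),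
  (0,7,0,[]),
  (0,6,0,[]),
  (0,3,0,[]),
  (2,6,0,[1,0,1,0,2,0,1,0,1,0,1,0,2,0,1,0,2,0,1,0,1,0,1,0,2,0,1,0,2,0,1,0,1,0,1,0,2,0,1,0,2,0,1,0,1,0,1,0,2,0,1,0,2,0,1,0,1,0,1,0,2,0,1,0,2,0,1,0,1,0,1,0,2,0,1,0,2,0,1,0,1,0,1,0,2,0,1,0,1,0,2,0,2,0,1,0,1,0,2,0,1,0,1,0,2,0,2,0,1,0,1,0,2]),
  (2,5,1,[0,1,0,2,0,2,0,2,0,2,0,1,0,1,0,1,0,2,0,1,0,1,0,1,0,1,0,1,0,2,0,1,0,2,0,1,0,1,0,1,0,2,0,1,0,1,0,2,0,1,0,2,0,2,0,2,0,1,0,1,0,1,0,2,0,1,0,1,0,1,0,1,0,1,0,2,0,1,0,2,0,1,0,1,0,1,0,2,0,1,0,1,0,2,0,1,0,2,0,2,0,2,0,1,0,1,0,1,0,2,0,1,0,1,0,1,0,1,0,1,0,2,0,1,0,1,0,2,0,2,0,1,0,1,0,2,0,1,0,1,0,2,0,2,0,1,0,1,0,2]),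
  (0,8,0,[]),
  (0,7,0,[]),
  (2,4,1,[0,1,0,2,0,2,0,2,0,2,0,1,0,1,0,1,0,2,0,1,0,1,0,1,0,1,0,1,0,2,0,1,0,1,0,2,0,1,0,2,0,2,0,2,0,1,0,1,0,1,0,2,0,1,0,1,0,1,0,1,0,1,0,2,0,1,0,2,0,1,0,1,0,1,0,2,0,1,0,2,0,1,0,1,0,1,0,2,0,1,0,2,0,1,0,1,0,1,0,2,0,1,0,1,0,2,0,1,0,2,0,2,0,2,0,1,0,1,0,1,0,2,0,1,0,1,0,1,0,1,0,1,0,2,0,1,0,1,0,2,0,2,0,1,0,1,0,2,0,1,0,1,0,2,0,2,0,1,0,1,0,2]),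
  (0,7,0,[]),
  (0,6,0,[]),
  (0,3,0,[]),
  (2,4,1,[0,1,0,2,0,2,0,2,0,2,0,1,0,1,0,1,0,2,0,1,0,1,0,1,0,1,0,1,0,2,0,1,0,1,0,2,0,1,0,2,0,2,0,2,0,1,0,1,0,1,0,2,0,1,0,1,0,1,0,1,0,1,0,2,0,1,0,1,0,2,0,1,0,2,0,2,0,2,0,1,0,1,0,1,0,2,0,1,0,2,0,1,0,2,0,2,0,1,0,2,0,1,0]),
  (0,7,0,[]),
  (0,6,0,[]),
  (0,3,0,[]),
  (0,3,0,[]),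
  (2,3,0,[1,0,1,0,2,0,1,0,1,0,1,0,2,0,1,0,1,0,2,0,1,0,2,0,2,0,2,0,1,0,1,0,1,0,2,0,1,0,1,0,1,0,1,0,1,0,2,0,1,0,1,0,2,0,1,0,2,0,2,0,2,0,1,0,1,0,1,0,2,0,1,0,1,0,1,0,1,0,1,0,2,0,1,0,2,0,1,0,1,0,1,0,2,0,1,0,2,0,1,0,1,0,1,0,2,0,1,0,2,0,1,0,1,0,1,0,2,0,1,0,2,0,1,0,1,0,1,0,2,0,1,0,1,0,2,0,1,0,1,0,2,0,2,0,2,0,1,0,2,0,2,0]),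
  (2,2,1,[0,1,0,1,0,1,0,1,0,1,0,1,0,1,0,2,0,1,0,1,0,2,0,1,0,1,0,2,0,2,0,2,0,1,0,2,0,2,0]),
  (0,5,0,[]),
  (0,4,0,[]),
  (2,1,1,[0,1,0,2,0,2,0,2,0,2,0,1,0,1,0,1,0,2,0,1,0,1,0,1,0,1,0,1,0,2,0,1,0,2,0,1,0,1,0,1,0,2,0,1,0,1,0,2,0,1,0,2,0,2,0,2,0,1,0,1,0,1,0,2,0,1,0,1,0,1,0,1,0,1,0,2,0,1,0,2,0,1,0,1,0,1,0,2,0,1,0,2,0,1,0,1,0,1,0,2,0,1,0,1,0,2,0,1,0,2,0,2,0,2,0,1,0,1,0,2,0,2,0,2,0,2,0,1,0,2,0,2,0]),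
  (0,4,0,[]),
  (0,3,0,[]),
  (0,0,0,[]),
  (2,1,1,[0,1,0,2,0,2,0,2,0,2,0,1,0,1,0,1,0,2,0,1,0,1,0,1,0,1,0,1,0,2,0,1,0,1,0,2,0,1,0,2,0,2,0,2,0,1,0,1,0,1,0,2,0,1,0,1,0,1,0,1,0,1,0,2,0,1,0,2,0,1,0,1,0,1,0,2,0,1,0,2,0,1,0,1,0,1,0,2,0,1,0,1,0,2,0,1,0,2,0,2,0,2,0,1,0,1,0,1,0,2,0,1,0,1,0,1,0,1,0,1,0,2,0,1,0,2,0,1,0,1,0,1,0,2,0,1,0,2,0,1,0,1,0,1,0,2,0,1,0,2,0,1,0,1,0,1,0,2,0,1,0,1,0,1,0,1,0,1,0,1,0,2,0,1,0,2,0]),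
  (0,4,0,[]),
  (0,3,0,[]),
  (0,0,0,[]),
  (0,0,0,[])])

/-- basis words -/
def bw : List (List ℕ) := [[], [0], [0,1], [0,2], [0,1,0], [0,2,0], [0,1,0,1], [0,1,0,2], [0,1,0,1,0], [0,1,0,2,0], [0,1,0,2,0,1]]

/-- conjugation of the basis by x as bit sets -/
def matX : List ℕ := [2, 1, 16, 32, 4, 8, 256, 512, 64, 128, 1344]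

/-- conjugation of the basis by y as bit sets -/
def matY : List ℕ := [1, 4, 8, 2, 64, 182, 128, 16, 268, 1024, 1708]

/-- commutation of basis elements -/
def eComm : List (ℕ × ℕ × List Move) := [
  (0, 1, [
  (2,0,3,[0,2,0,2,0,2,0,2,0,2,0,1,0,1,0,1,0,2,0,2,0,1,0,1,0,1,0,1,0,1,0,1,0,2,0,1,0,2,0,1,0,1,0,1,0,2,0,1,0,1,0,2,0,1,0,2,0,2,0,2,0,1,0,1,0,1,0,2,0,1,0,1,0,1,0,1,0,1,0,2,0,1,0,1,0,2,0,1,0,2,0,2,0,2,0,1,0,1,0,1,0,2,0,1,0,1,0,1,0,1,0,1,0,2,0,1,0,1,0,2,0,1,0,2,0,2,0,2,0,1,0,1,0,1,0,1,0,2]),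
  (0,3,0,[]),
  (0,2,0,[]),
  (0,1,0,[]),
  (0,0,0,[])]),
  (0, 2, [
  (2,0,3,[0,2,0,2,0,2,0,2,0,2,0,1,0,1,0,1,0,2,0,2,0,1,0,1,0,1,0,1,0,1,0,1,0,2,0,1,0,2,0,1,0,1,0,1,0,2,0,1,0,1,0,2,0,1,0,2,0,2,0,2,0,1,0,1,0,1,0,2,0,1,0,1,0,1,0,1,0,1,0,2,0,1,0,1,0,2,0,1,0,2,0,2,0,2,0,1,0,1,0,1,0,2,0,1,0,1,0,1,0,1,0,1,0,2,0,1,0,1,0,2,0,1,0,2,0,2,0,2,0,1,0,1,0,1,0,1,0]),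
  (0,3,0,[]),
  (0,2,0,[]),
  (0,1,0,[]),
  (0,0,0,[])]),
  (0, 3, [
  (2,0,3,[0,2,0,2,0,2,0,2,0,2,0,1,0,1,0,1,0,2,0,2,0,1,0,1,0,1,0,1,0,1,0,1,0,2,0,1,0,2,0,1,0,1,0,1,0,2,0,1,0,1,0,2,0,1,0,2,0,2,0,2,0,1,0,1,0,1,0,2,0,1,0,1,0,1,0,1,0,1,0,2,0,1,0,1,0,2,0,1,0,2,0,2,0,2,0,1,0,1,0,1,0,2,0,1,0,1,0,1,0,1,0,1,0,2,0,1,0,1,0,2,0,1,0,2,0,2,0,2,0,1,0,1,0,1,0,1,0,1]),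
  (0,3,0,[]),
  (0,2,0,[]),
  (0,1,0,[]),
  (0,0,0,[])]),
  (0, 4, [
  (2,0,3,[0,2,0,2,0,2,0,2,0,2,0,1,0,1,0,1,0,2,0,2,0,1,0,1,0,1,0,1,0,1,0,1,0,2,0,1,0,1,0,2,0,1,0,2,0,2,0,2,0,1,0,1,0,1,0,2,0,1,0,1,0,1,0,1,0,1,0,2,0,1,0,2,0,1,0,1,0,1,0,2,0,1,0,1,0,2,0,1,0,2,0,2,0,2,0,1,0,1,0,1,0,2,0,1,0,1,0,1,0,1,0,1,0,2,0,1,0,1,0,2,0,1,0,2,0,2,0,2,0,1,0,1,0,1,0,2,0,1,0,1,0,1,0,1,0,1,0,2,0,1,0,1,0,2,0,1,0,2,0,2,0,2,0,1,0,1,0,1,0,2,0,1,0,1,0,1,0,1,0,1,0,2,0,1,0,2,0,1,0,1,0,1,0,2,0,1,0,2,0,1,0,1,0,1,0,2,0,1,0,2,0,1,0,1,0,1,0,2,0,1,0,1,0,2,0,2]),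
  (0,3,0,[]),
  (0,2,0,[]),
  (0,1,0,[]),
  (0,0,0,[])]),
  (0, 5, [
  (2,0,3,[0,2,0,2,0,2,0,2,0,2,0,1,0,1,0,1,0,2,0,2,0,1,0,1,0,1,0,1,0,1,0,1,0,2,0,1,0,1,0,2,0,1,0,2,0,2,0,2,0,1,0,1,0,1,0,2,0,1,0,1,0,1,0,1,0,1,0,2,0,1,0,2,0,1,0,1,0,1,0,2,0,1,0,2,0,1,0,1,0,1,0,2,0,1,0,2,0,1,0,1,0,1,0,2,0,1,0,2,0,1,0,1,0,1,0,2,0,1,0,2,0,1,0,1,0,1,0,2,0,1,0,1,0,2,0,1,0,2,0,2,0,2,0,1,0,1,0,1,0,2,0,1,0,1,0,1,0,1,0,1,0,2,0,1,0,2,0,1,0,1,0,1,0,2,0,1,0,2,0,1,0,1,0,1,0,2,0,1,0,1,0,2,0,1,0,2,0,2,0,2,0,1,0,1,0,1,0,1,0,1,0]),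
  (0,3,0,[]),
  (0,2,0,[]),
  (0,1,0,[]),
  (0,0,0,[])]),
  (0, 6, [
  (2,0,3,[0,2,0,2,0,2,0,2,0,2,0,1,0,1,0,1,0,2,0,2,0,1,0,1,0,1,0,1,0,1,0,1,0,2,0,1,0,1,0,2,0,1,0,2,0,2,0,2,0,1,0,1,0,1,0,2,0,1,0,1,0,1,0,1,0,1,0,2,0,1,0,2,0,1,0,1,0,1,0,2,0,1,0,1,0,2,0,1,0,2,0,2,0,2,0,1,0,1,0,1,0,2,0,1,0,1,0,1,0,1,0,1,0,2,0,1,0,1,0,2,0,1,0,2,0,2,0,2,0,1,0,1,0,1,0,2,0,1,0,1,0,1,0,1,0,1,0,2,0,1,0,1,0,2,0,1,0,2,0,2,0,2,0,1,0,1,0,1,0,2,0,1,0,1,0,1,0,1,0,1,0,2,0,1,0,2,0,1,0,1,0,1,0,2,0,1,0,2,0,1,0,1,0,1,0,2,0,1,0,2,0,1,0,1,0,1,0,2,0,1,0,1,0,2,0]),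
  (0,3,0,[]),
  (0,2,0,[]),
  (0,1,0,[]),
  (0,0,0,[])]),
  (0, 7, [
  (2,0,3,[0,2,0,2,0,2,0,2,0,2,0,1,0,1,0,1,0,2,0,2,0,1,0,1,0,1,0,1,0,1,0,1,0,2,0,1,0,1,0,2,0,1,0,2,0,2,0,2,0,1,0,1,0,1,0,2,0,1,0,1,0,1,0,1,0,1,0,2,0,1,0,2,0,1,0,1,0,1,0,2,0,1,0,1,0,2,0,1,0,2,0,2,0,2,0,1,0,1,0,1,0,2,0,1,0,1,0,1,0,1,0,1,0,2,0,1,0,1,0,2,0,1,0,2,0,2,0,2,0,1,0,1,0,1,0,2,0,1,0,1,0,1,0,1,0,1,0,2,0,1,0,1,0,2,0,1,0,2,0,2,0,2,0,1,0,1,0,1,0,2,0,1,0,1,0,1,0,1,0,1,0,2,0,1,0,2,0,1,0,1,0,1,0,2,0,1,0,2,0,1,0,1,0,1,0,2,0,1,0,2,0,1,0,1,0,1,0,2,0,1,0,1,0,2,0,1]),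
  (0,3,0,[]),
  (0,2,0,[]),
  (0,1,0,[]),
  (0,0,0,[])]),
  (0, 8, [
  (2,0,2,[0,1,0,1,0,1,0,1,0,1,0,1,0,1,0,2,0,1,0,2,0,1,0,1,0,1,0,2,0,1,0,2,0,1,0,1,0,1,0,2,0,1,0,1,0,2,0,1,0,2,0,2,0,2,0,1,0,1,0,1,0,2,0,1,0,1,0,1,0,1,0,1,0,2,0,1,0,1,0,2]),
  (0,3,0,[]),
  (0,2,0,[]),
  (0,1,0,[]),
  (0,0,0,[])]),
  (0, 9, [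
  (2,0,3,[0,2,0,2,0,2,0,2,0,2,0,1,0,1,0,1,0,2,0,2,0,1,0,1,0,1,0,1,0,1,0,1,0,2,0,1,0,1,0,2,0,1,0,2,0,2,0,2,0,1,0,1,0,1,0,2,0,1,0,1,0,1,0,1,0,1,0,2,0,1,0,1,0,2,0,1,0,2,0,2,0,2,0,1,0,1,0,1,0,2,0,1,0,1,0,1,0,1,0,1,0,2,0,1,0,2,0,1,0,1,0,1,0,2,0,1,0,2,0,1,0,1,0,1,0,2,0,1,0,2,0,1,0,1,0,1,0,2,0,1,0,2,0,1,0,1,0,1,0,2,0,1,0,1,0,2,0,1,0,2,0,2,0,2,0,1,0,1,0,1,0,2,0,1,0,1,0,1,0,1,0,1,0,2,0,1,0,2,0,1,0,1,0,1,0,2,0,1,0,2,0,1,0,1,0,1,0,2,0,1,0,1,0,2,0,1,0]),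
  (0,3,0,[]),
  (0,2,0,[]),
  (0,1,0,[]),
  (0,0,0,[])]),
  (0, 10, [
  (2,0,3,[0,2,0,2,0,2,0,2,0,2,0,1,0,1,0,1,0,2,0,2,0,1,0,1,0,1,0,1,0,1,0,1,0,2,0,1,0,1,0,2,0,1,0,2,0,2,0,2,0,1,0,1,0,1,0,2,0,1,0,1,0,1,0,1,0,1,0,2,0,1,0,1,0,2,0,1,0,2,0,2,0,2,0,1,0,1,0,1,0,2,0,1,0,1,0,1,0,1,0,1,0,2,0,1,0,2,0,1,0,1,0,1,0,2,0,1,0,2,0,1,0,1,0,1,0,2,0,1,0,2,0,1,0,1,0,1,0,2,0,1,0,2,0,1,0,1,0,1,0,2,0,1,0,1,0,2,0,1,0,2,0,2,0,2,0,1,0,1,0,1,0,2,0,1,0,1,0,1,0,1,0,1,0,2,0,1,0,2,0,1,0,1,0,1,0,2,0,1,0,2,0,1,0,1,0,1,0,2,0,1,0,1,0,2,0,1,0,1]),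
  (0,3,0,[]),
  (0,2,0,[]),
  (0,1,0,[]),
  (0,0,0,[])]),
  (1, 2, [
  (2,0,3,[0,2,0,2,0,2,0,2,0,2,0,1,0,1,0,1,0,2,0,2,0,1,0,1,0,1,0,1,0,1,0,1,0,2,0,1,0,1,0,2,0,1,0,2,0,2,0,2,0,1,0,1,0,1,0,2,0,1,0,1,0,1,0,1,0,1,0,2,0,1,0,2,0,1,0,1,0,1,0,2,0,1,0,1,0,2,0,1,0,2,0,2,0,2,0,1,0,1,0,1,0,2,0,1,0,1,0,1,0,1,0,1,0,2,0,1,0,1,0,2,0,1,0,2,0,2,0,2,0,1,0,1,0,1,0,2,0,1,0,1,0,1,0,1,0,1,0,2,0,1,0,1,0,2,0,1,0,2,0,2,0,2,0,1,0,1,0,1,0,2,0,1,0,1,0,1,0,1,0,1,0,2,0,1,0,2,0,1,0,1,0,1,0,2,0,1,0,2,0,1,0,1,0,1,0,2,0,1,0,2,0,1,0,1,0,1,0,2,0,1,0,1,0,2,0,2,0]),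
  (0,3,0,[]),
  (0,2,0,[]),
  (0,1,0,[]),
  (0,0,0,[])]),
  (1, 3, [
  (2,0,3,[0,2,0,2,0,2,0,2,0,2,0,1,0,1,0,1,0,2,0,2,0,1,0,1,0,1,0,1,0,1,0,1,0,2,0,1,0,1,0,2,0,1,0,2,0,2,0,2,0,1,0,1,0,1,0,2,0,1,0,1,0,1,0,1,0,1,0,2,0,1,0,2,0,1,0,1,0,1,0,2,0,1,0,2,0,1,0,1,0,1,0,2,0,1,0,2,0,1,0,1,0,1,0,2,0,1,0,2,0,1,0,1,0,1,0,2,0,1,0,2,0,1,0,1,0,1,0,2,0,1,0,1,0,2,0,1,0,2,0,2,0,2,0,1,0,1,0,1,0,2,0,1,0,1,0,1,0,1,0,1,0,2,0,1,0,2,0,1,0,1,0,1,0,2,0,1,0,2,0,1,0,1,0,1,0,2,0,1,0,1,0,2,0,1,0,2,0,2,0,2,0,1,0,1,0,1,0,1,0,1]),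
  (0,3,0,[]),
  (0,2,0,[]),
  (0,1,0,[]),
  (0,0,0,[])]),
  (1, 4, [
  (2,0,3,[0,2,0,2,0,2,0,2,0,2,0,1,0,1,0,1,0,2,0,2,0,1,0,1,0,1,0,1,0,1,0,1,0,2,0,1,0,2,0,1,0,1,0,1,0,2,0,1,0,1,0,2,0,1,0,2,0,2,0,2,0,1,0,1,0,1,0,2,0,1,0,1,0,1,0,1,0,1,0,2,0,1,0,1,0,2,0,1,0,2,0,2,0,2,0,1,0,1,0,1,0,2,0,1,0,1,0,1,0,1,0,1,0,2,0,1,0,1,0,2,0,1,0,2,0,2,0,2,0,1,0,1,0,1,0,1]),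
  (0,3,0,[]),
  (0,2,0,[]),
  (0,1,0,[]),
  (0,0,0,[])]),
  (1, 5, [
  (2,0,3,[0,2,0,2,0,2,0,2,0,2,0,1,0,1,0,1,0,2,0,2,0,1,0,1,0,1,0,1,0,1,0,1,0,2,0,1,0,2,0,1,0,1,0,1,0,2,0,1,0,1,0,2,0,1,0,2,0,2,0,2,0,1,0,1,0,1,0,2,0,1,0,1,0,1,0,1,0,1,0,2,0,1,0,1,0,2,0,1,0,2,0,2,0,2,0,1,0,1,0,1,0,2,0,1,0,1,0,1,0,1,0,1,0,2,0,1,0,1,0,2,0,1,0,2,0,2,0,2,0,1,0,1,0,1,0,1,0,1,0]),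
  (0,3,0,[]),
  (0,2,0,[]),
  (0,1,0,[]),
  (0,0,0,[])]),
  (1, 6, [
  (2,0,2,[0,1,0,1,0,1,0,1,0,1,0,1,0,1,0,2,0,1,0,2,0,1,0,1,0,1,0,2,0,1,0,2,0,1,0,1,0,1,0,2,0,1,0,1,0,2,0,1,0,2,0,2,0,2,0,1,0,1,0,1,0,2,0,1,0,1,0,1,0,1,0,1,0,2,0,1,0,1,0,2,0]),
  (0,3,0,[]),
  (0,2,0,[]),
  (0,1,0,[]),
  (0,0,0,[])]),
  (1, 7, [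
  (2,0,3,[0,2,0,2,0,2,0,2,0,2,0,1,0,1,0,1,0,2,0,2,0,1,0,1,0,1,0,1,0,1,0,1,0,2,0,1,0,1,0,2,0,1,0,2,0,2,0,2,0,1,0,1,0,1,0,2,0,1,0,1,0,1,0,1,0,1,0,2,0,1,0,1,0,2,0,1,0,2,0,2,0,2,0,1,0,1,0,1,0,2,0,1,0,1,0,1,0,1,0,1,0,2,0,1,0,2,0,1,0,1,0,1,0,2,0,1,0,2,0,1,0,1,0,1,0,2,0,1,0,2,0,1,0,1,0,1,0,2,0,1,0,2,0,1,0,1,0,1,0,2,0,1,0,1,0,2,0,1,0,2,0,2,0,2,0,1,0,1,0,1,0,2,0,1,0,1,0,1,0,1,0,1,0,2,0,1,0,2,0,1,0,1,0,1,0,2,0,1,0,2,0,1,0,1,0,1,0,2,0,1,0,1,0,2,0,1]),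
  (0,3,0,[]),
  (0,2,0,[]),
  (0,1,0,[]),
  (0,0,0,[])]),
  (1, 8, [
  (2,0,3,[0,2,0,2,0,2,0,2,0,2,0,1,0,1,0,1,0,2,0,2,0,1,0,1,0,1,0,1,0,1,0,1,0,2,0,1,0,1,0,2,0,1,0,2,0,2,0,2,0,1,0,1,0,1,0,2,0,1,0,1,0,1,0,1,0,1,0,2,0,1,0,2,0,1,0,1,0,1,0,2,0,1,0,1,0,2,0,1,0,2,0,2,0,2,0,1,0,1,0,1,0,2,0,1,0,1,0,1,0,1,0,1,0,2,0,1,0,1,0,2,0,1,0,2,0,2,0,2,0,1,0,1,0,1,0,2,0,1,0,1,0,1,0,1,0,1,0,2,0,1,0,1,0,2,0,1,0,2,0,2,0,2,0,1,0,1,0,1,0,2,0,1,0,1,0,1,0,1,0,1,0,2,0,1,0,2,0,1,0,1,0,1,0,2,0,1,0,2,0,1,0,1,0,1,0,2,0,1,0,2,0,1,0,1,0,1,0,2,0,1,0,1,0,2]),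
  (0,3,0,[]),
  (0,2,0,[]),
  (0,1,0,[]),
  (0,0,0,[])]),
  (1, 9, [
  (2,0,3,[0,2,0,2,0,2,0,2,0,2,0,1,0,1,0,1,0,2,0,2,0,1,0,1,0,1,0,1,0,1,0,1,0,2,0,1,0,1,0,2,0,1,0,2,0,2,0,2,0,1,0,1,0,1,0,2,0,1,0,1,0,1,0,1,0,1,0,2,0,1,0,2,0,1,0,1,0,1,0,2,0,1,0,1,0,2,0,1,0,2,0,2,0,2,0,1,0,1,0,1,0,2,0,1,0,1,0,1,0,1,0,1,0,2,0,1,0,1,0,2,0,1,0,2,0,2,0,2,0,1,0,1,0,1,0,2,0,1,0,1,0,1,0,1,0,1,0,2,0,1,0,1,0,2,0,1,0,2,0,2,0,2,0,1,0,1,0,1,0,2,0,1,0,1,0,1,0,1,0,1,0,2,0,1,0,2,0,1,0,1,0,1,0,2,0,1,0,2,0,1,0,1,0,1,0,2,0,1,0,2,0,1,0,1,0,1,0,2,0,1,0,1,0,2,0,1,0]),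
  (0,3,0,[]),
  (0,2,0,[]),
  (0,1,0,[]),
  (0,0,0,[])]),
  (1, 10, [
  (2,0,2,[0,1,0,2,0,2,0,2,0,2,0,1,0,1,0,1,0,2,0,1,0,1,0,1,0,1,0,1,0,2,0,1,0,1,0,2,0,1,0,2,0,2,0,2,0,1,0,1,0,1,0,2,0,1,0,1,0,1,0,1,0,1,0,2,0,1,0,2,0,1,0,1,0,1,0,2,0,1,0,2,0,1,0,1,0,1,0,2,0,1,0,2,0,1,0,1,0,1,0,2,0,1,0,1,0,2,0,1,0,1]),
  (0,3,0,[]),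
  (0,2,0,[]),
  (0,1,0,[]),
  (0,0,0,[])]),
  (2, 3, [
  (2,0,3,[0,2,0,2,0,2,0,2,0,2,0,1,0,1,0,1,0,2,0,2,0,1,0,1,0,1,0,1,0,1,0,1,0,2,0,1,0,1,0,2,0,1,0,2,0,2,0,2,0,1,0,1,0,1,0,2,0,1,0,1,0,1,0,1,0,1,0,2,0,1,0,2,0,1,0,1,0,1,0,2,0,1,0,1,0,2,0,1,0,2,0,2,0,2,0,1,0,1,0,1,0,2,0,1,0,1,0,1,0,1,0,1,0,2,0,1,0,1,0,2,0,1,0,2,0,2,0,2,0,1,0,1,0,1,0,2,0,1,0,1,0,1,0,1,0,1,0,2,0,1,0,1,0,2,0,1,0,2,0,2,0,2,0,1,0,1,0,1,0,2,0,1,0,1,0,1,0,1,0,1,0,2,0,1,0,2,0,1,0,1,0,1,0,2,0,1,0,2,0,1,0,1,0,1,0,2,0,1,0,2,0,1,0,1,0,1,0,2,0,1,0,1,0,2,0,2,0,1]),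
  (0,3,0,[]),
  (0,2,0,[]),
  (0,1,0,[]),
  (0,0,0,[])]),
  (2, 4, [
  (2,0,3,[0,2,0,2,0,2,0,2,0,2,0,1,0,1,0,1,0,2,0,2,0,1,0,1,0,1,0,1,0,1,0,1,0,2,0,1,0,1,0,2,0,1,0,2,0,2,0,2,0,1,0,1,0,1,0,2,0,1,0,1,0,1,0,1,0,1,0,2,0,1,0,1,0,2,0,1,0,2,0,2,0,2,0,1,0,1,0,1,0,2,0,1,0,1,0,1,0,1,0,1,0,2,0,1,0,2,0,1,0,1,0,1,0,2,0,1,0,2,0,1,0,1,0,1,0,2,0,1,0,2,0,1,0,1,0,1,0,2,0,1,0,2,0,1,0,1,0,1,0,2,0,1,0,1,0,2,0,1,0,2,0,2,0,2,0,1,0,1,0,1,0,2,0,1,0,1,0,1,0,1,0,1,0,2,0,1,0,2,0,1,0,1,0,1,0,2,0,1,0,2,0,1,0,1,0,1,0,2,0,1,0,1,0,2,0,2]),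
  (0,3,0,[]),
  (0,2,0,[]),
  (0,1,0,[]),
  (0,0,0,[])]),
  (2, 5, [
  (2,0,2,[0,1,0,1,0,1,0,1,0,1,0,1,0,1,0,2,0,1,0,1,0,2,0,1,0,2,0,2,0,2,0,1,0,1,0,1,0,2,0,1,0,1,0,1,0,1,0,1,0,2,0,1,0,2,0,1,0,1,0,1,0,2,0,1,0,1,0,2,0,1,0,2,0,2,0,2,0,1,0,1,0,1,0,2,0,1,0,1,0,1,0,1,0,1,0,2,0,1,0,2,0,1,0,1,0,1,0,2,0,1,0,1,0,2,0,1,0,2,0,2,0,2,0,1,0,1,0,1,0,2,0,1,0,1,0,1,0,1,0,1,0,2,0,1,0,1,0,2,0,2,0,1,0]),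
  (0,3,0,[]),
  (0,2,0,[]),
  (0,1,0,[]),
  (0,0,0,[])]),
  (2, 6, [
  (2,0,3,[0,2,0,2,0,2,0,2,0,2,0,1,0,1,0,1,0,2,0,2,0,1,0,1,0,1,0,1,0,1,0,1,0,2,0,1,0,2,0,1,0,1,0,1,0,2,0,1,0,1,0,2,0,1,0,2,0,2,0,2,0,1,0,1,0,1,0,2,0,1,0,1,0,1,0,1,0,1,0,2,0,1,0,1,0,2,0,1,0,2,0,2,0,2,0,1,0,1,0,1,0,2,0,1,0,1,0,1,0,1,0,1,0,2,0,1,0,1,0,2,0,1,0,2,0,2,0,2,0,1,0,1,0,1,0,2]),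
  (0,3,0,[]),
  (0,2,0,[]),
  (0,1,0,[]),
  (0,0,0,[])]),
  (2, 7, [
  (2,0,2,[0,1,0,1,0,1,0,1,0,1,0,1,0,1,0,2,0,1,0,2,0,1,0,1,0,1,0,2,0,1,0,2,0,1,0,1,0,1,0,2,0,1,0,1,0,2,0,1,0,2,0,2,0,2,0,1,0,1,0,1,0,2,0,1,0,1,0,1,0,1,0,1,0,2,0,1,0,1,0,2,0,1]),
  (0,3,0,[]),
  (0,2,0,[]),
  (0,1,0,[]),
  (0,0,0,[])]),
  (2, 8, [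
  (2,0,3,[0,2,0,2,0,2,0,2,0,2,0,1,0,1,0,1,0,2,0,2,0,2,0,2,0,2,0,2,0,1,0,1,0,1,0,2,0,1,0,1,0,1,0,1,0,1,0,2,0,1,0,2,0,1,0,1,0,1,0,2,0,1,0,2,0,1,0,1,0,1,0,2,0,1,0,2,0,1,0,1,0,1,0,2,0,1,0,2,0,1,0,1,0,1,0,2,0,1,0,1,0,2,0,1,0,2,0,2,0,2,0,1,0,1,0,1,0,2,0,1,0,1,0,1,0,1,0,1,0,2,0,1,0,2,0,1,0,1,0,1,0,2,0,1,0,2,0,1,0,1,0,1,0,2,0,1,0,1,0,2]),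
  (0,3,0,[]),
  (0,2,0,[]),
  (0,1,0,[]),
  (0,0,0,[])]),
  (2, 9, [
  (2,0,3,[0,2,0,2,0,2,0,2,0,2,0,1,0,1,0,1,0,2,0,2,0,1,0,1,0,1,0,1,0,1,0,1,0,2,0,1,0,2,0,1,0,1,0,1,0,2,0,1,0,1,0,2,0,1,0,2,0,2,0,2,0,1,0,1,0,1,0,2,0,1,0,1,0,1,0,1,0,1,0,2,0,1,0,2,0,1,0,1,0,1,0,2,0,1,0,2,0,1,0,1,0,1,0,2,0,1,0,1,0,2,0,1,0,2,0,2,0,2,0,1,0,1,0,1,0,2,0,1,0,1,0,1,0,1,0,1,0,2,0,1,0,2,0,1,0,1,0,1,0,2,0,1,0,1,0,2,0,1,0,2,0,2,0,2,0,1,0,1,0,1,0,2,0,1,0,1,0,1,0,1,0,1,0,2,0,1,0,2,0,1,0,1,0,1,0,2,0,1,0,1,0,2,0,1,0,2,0,2,0,2,0,1,0,1,0,1,0,2,0,1,0,1,0,1,0,1,0,1,0,2,0,1,0,2,0,1,0,1,0,1,0,2,0,1,0,1,0,2,0,1,0]),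
  (0,3,0,[]),
  (0,2,0,[]),
  (0,1,0,[]),
  (0,0,0,[])]),
  (2, 10, [
  (2,0,3,[0,2,0,2,0,2,0,2,0,2,0,1,0,1,0,1,0,2,0,2,0,1,0,1,0,1,0,1,0,1,0,1,0,2,0,1,0,1,0,2,0,1,0,2,0,2,0,2,0,1,0,1,0,1,0,2,0,1,0,1,0,1,0,1,0,1,0,2,0,1,0,2,0,1,0,1,0,1,0,2,0,1,0,1,0,2,0,1,0,2,0,2,0,2,0,1,0,1,0,1,0,2,0,1,0,1,0,1,0,1,0,1,0,2,0,1,0,1,0,2,0,1,0,2,0,2,0,2,0,1,0,1,0,1,0,2,0,1,0,1,0,1,0,1,0,1,0,2,0,1,0,1,0,2,0,1,0,2,0,2,0,2,0,1,0,1,0,1,0,2,0,1,0,1,0,1,0,1,0,1,0,2,0,1,0,2,0,1,0,1,0,1,0,2,0,1,0,2,0,1,0,1,0,1,0,2,0,1,0,2,0,1,0,1,0,1,0,2,0,1,0,1,0,2,0,1,0,1]),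
  (0,3,0,[]),
  (0,2,0,[]),
  (0,1,0,[]),
  (0,0,0,[])]),
  (3, 4, [
  (2,0,2,[0,1,0,1,0,1,0,1,0,1,0,1,0,1,0,2,0,1,0,2,0,1,0,1,0,1,0,2,0,1,0,2,0,1,0,1,0,1,0,2,0,1,0,1,0,2,0,1,0,2,0,2,0,2,0,1,0,1,0,1,0,2,0,1,0,1,0,1,0,1,0,1,0,2,0,1,0,1,0,2,0,2]),
  (0,3,0,[]),
  (0,2,0,[]),
  (0,1,0,[]),
  (0,0,0,[])]),
  (3, 5, [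
  (2,0,3,[0,2,0,2,0,2,0,2,0,2,0,1,0,1,0,1,0,2,0,2,0,1,0,1,0,1,0,1,0,1,0,1,0,2,0,1,0,1,0,2,0,1,0,2,0,2,0,2,0,1,0,1,0,1,0,2,0,1,0,1,0,1,0,1,0,1,0,2,0,1,0,1,0,2,0,1,0,2,0,2,0,2,0,1,0,1,0,1,0,2,0,1,0,1,0,1,0,1,0,1,0,2,0,1,0,2,0,1,0,1,0,1,0,2,0,1,0,2,0,1,0,1,0,1,0,2,0,1,0,2,0,1,0,1,0,1,0,2,0,1,0,1,0,2,0,1,0,2,0,2,0,2,0,1,0,1,0,1,0,2,0,1,0,1,0,1,0,1,0,1,0,2,0,1,0,2,0,1,0,1,0,1,0,2,0,1,0,2,0,1,0,1,0,1,0,2,0,1,0,2,0,1,0,1,0,1,0,2,0,1,0,1,0,2,0,2,0,1,0]),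
  (0,3,0,[]),
  (0,2,0,[]),
  (0,1,0,[]),
  (0,0,0,[])]),
  (3, 6, [
  (2,0,3,[0,2,0,2,0,2,0,2,0,2,0,1,0,1,0,1,0,2,0,2,0,1,0,1,0,1,0,1,0,1,0,1,0,2,0,1,0,1,0,2,0,1,0,2,0,2,0,2,0,1,0,1,0,1,0,2,0,1,0,1,0,1,0,1,0,1,0,2,0,1,0,1,0,2,0,1,0,2,0,2,0,2,0,1,0,1,0,1,0,2,0,1,0,1,0,1,0,1,0,1,0,2,0,1,0,2,0,1,0,1,0,1,0,2,0,1,0,2,0,1,0,1,0,1,0,2,0,1,0,2,0,1,0,1,0,1,0,2,0,1,0,2,0,1,0,1,0,1,0,2,0,1,0,1,0,2,0,1,0,2,0,2,0,2,0,1,0,1,0,1,0,2,0,1,0,1,0,1,0,1,0,1,0,2,0,1,0,2,0,1,0,1,0,1,0,2,0,1,0,2,0,1,0,1,0,1,0,2,0,1,0,1,0,2,0]),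
  (0,3,0,[]),
  (0,2,0,[]),
  (0,1,0,[]),
  (0,0,0,[])]),
  (3, 7, [
  (2,0,3,[0,2,0,2,0,2,0,2,0,2,0,1,0,1,0,1,0,2,0,2,0,1,0,1,0,1,0,1,0,1,0,1,0,2,0,1,0,2,0,1,0,1,0,1,0,2,0,1,0,1,0,2,0,1,0,2,0,2,0,2,0,1,0,1,0,1,0,2,0,1,0,1,0,1,0,1,0,1,0,2,0,1,0,1,0,2,0,1,0,2,0,2,0,2,0,1,0,1,0,1,0,2,0,1,0,1,0,1,0,1,0,1,0,2,0,1,0,1,0,2,0,1,0,2,0,2,0,2,0,1,0,1,0,1,0]),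
  (0,3,0,[]),
  (0,2,0,[]),
  (0,1,0,[]),
  (0,0,0,[])]),
  (3, 8, [
  (2,0,3,[0,2,0,2,0,2,0,2,0,2,0,1,0,1,0,1,0,2,0,2,0,1,0,1,0,1,0,1,0,1,0,1,0,2,0,1,0,1,0,2,0,1,0,2,0,2,0,2,0,1,0,1,0,1,0,2,0,1,0,1,0,1,0,1,0,1,0,2,0,1,0,2,0,1,0,1,0,1,0,2,0,1,0,2,0,1,0,1,0,1,0,2,0,1,0,2,0,1,0,1,0,1,0,2,0,1,0,1,0,2,0,1,0,2,0,2,0,2,0,1,0,1,0,1,0,2,0,1,0,1,0,1,0,1,0,1,0,2,0,1,0,2,0,1,0,1,0,1,0,2,0,1,0,2,0,1,0,1,0,1,0,2,0,1,0,2,0,1,0,1,0,1,0,2,0,1,0,2,0,1,0,1,0,1,0,2,0,1,0,1,0,2,0,1,0,2,0,2,0,2,0,1,0,1,0,1,0,2,0]),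
  (0,3,0,[]),
  (0,2,0,[]),
  (0,1,0,[]),
  (0,0,0,[])]),
  (3, 9, [
  (2,0,2,[0,1,0,2,0,2,0,2,0,2,0,1,0,1,0,1,0,2,0,1,0,1,0,1,0,1,0,1,0,2,0,1,0,1,0,2,0,1,0,2,0,2,0,2,0,1,0,1,0,1,0,2,0,1,0,1,0,1,0,1,0,1,0,2,0,1,0,2,0,1,0,1,0,1,0,2,0,1,0,2,0,1,0,1,0,1,0,2,0,1,0,2,0,1,0,1,0,1,0,2,0,1,0,1,0,2,0,1,0]),
  (0,3,0,[]),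
  (0,2,0,[]),
  (0,1,0,[]),
  (0,0,0,[])]),
  (3, 10, [
  (2,0,3,[0,2,0,2,0,2,0,2,0,2,0,1,0,1,0,1,0,2,0,2,0,1,0,1,0,1,0,1,0,1,0,1,0,2,0,1,0,2,0,1,0,1,0,1,0,2,0,1,0,1,0,2,0,1,0,2,0,2,0,2,0,1,0,1,0,1,0,2,0,1,0,1,0,1,0,1,0,1,0,2,0,1,0,2,0,1,0,1,0,1,0,2,0,1,0,2,0,1,0,1,0,1,0,2,0,1,0,1,0,2,0,1,0,2,0,2,0,2,0,1,0,1,0,1,0,2,0,1,0,1,0,1,0,1,0,1,0,2,0,1,0,2,0,1,0,1,0,1,0,2,0,1,0,1,0,2,0,1,0,2,0,2,0,2,0,1,0,1,0,1,0,2,0,1,0,1,0,1,0,1,0,1,0,2,0,1,0,2,0,1,0,1,0,1,0,2,0,1,0,1,0,2,0,1,0,2,0,2,0,2,0,1,0,1,0,1,0,2,0,1,0,1,0,1,0,1,0,1,0,2,0,1,0,2,0,1,0,1,0,1,0,2,0,1,0,1,0,2,0,1,0,1]),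
  (0,3,0,[]),
  (0,2,0,[]),
  (0,1,0,[]),
  (0,0,0,[])]),
  (4, 5, [
  (2,0,3,[0,2,0,2,0,2,0,2,0,2,0,1,0,1,0,1,0,2,0,2,0,1,0,1,0,1,0,1,0,1,0,1,0,2,0,1,0,1,0,2,0,1,0,2,0,2,0,2,0,1,0,1,0,1,0,2,0,1,0,1,0,1,0,1,0,1,0,2,0,1,0,2,0,1,0,1,0,1,0,2,0,1,0,1,0,2,0,1,0,2,0,2,0,2,0,1,0,1,0,1,0,2,0,1,0,1,0,1,0,1,0,1,0,2,0,1,0,1,0,2,0,1,0,2,0,2,0,2,0,1,0,1,0,1,0,2,0,1,0,1,0,1,0,1,0,1,0,2,0,1,0,1,0,2,0,1,0,2,0,2,0,2,0,1,0,1,0,1,0,2,0,1,0,1,0,1,0,1,0,1,0,2,0,1,0,2,0,1,0,1,0,1,0,2,0,1,0,2,0,1,0,1,0,1,0,2,0,1,0,2,0,1,0,1,0,1,0,2,0,1,0,1,0,2,0,2,0,1,0]),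
  (0,3,0,[]),
  (0,2,0,[]),
  (0,1,0,[]),
  (0,0,0,[])]),
  (4, 6, [
  (2,0,3,[0,2,0,2,0,2,0,2,0,2,0,1,0,1,0,1,0,2,0,2,0,2,0,2,0,2,0,2,0,1,0,1,0,1,0,2,0,1,0,1,0,1,0,1,0,1,0,2,0,1,0,2,0,1,0,1,0,1,0,2,0,1,0,2,0,1,0,1,0,1,0,2,0,1,0,2,0,1,0,1,0,1,0,2,0,1,0,2,0,1,0,1,0,1,0,2,0,1,0,1,0,2,0,1,0,2,0,2,0,2,0,1,0,1,0,1,0,2,0,1,0,1,0,1,0,1,0,1,0,2,0,1,0,2,0,1,0,1,0,1,0,2,0,1,0,2,0,1,0,1,0,1,0,2,0,1,0,1,0,2,0]),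
  (0,3,0,[]),
  (0,2,0,[]),
  (0,1,0,[]),
  (0,0,0,[])]),
  (4, 7, [
  (2,0,3,[0,2,0,2,0,2,0,2,0,2,0,1,0,1,0,1,0,2,0,2,0,1,0,1,0,1,0,1,0,1,0,1,0,2,0,1,0,2,0,1,0,1,0,1,0,2,0,1,0,1,0,2,0,1,0,2,0,2,0,2,0,1,0,1,0,1,0,2,0,1,0,1,0,1,0,1,0,1,0,2,0,1,0,2,0,1,0,1,0,1,0,2,0,1,0,2,0,1,0,1,0,1,0,2,0,1,0,1,0,2,0,1,0,2,0,2,0,2,0,1,0,1,0,1,0,2,0,1,0,1,0,1,0,1,0,1,0,2,0,1,0,2,0,1,0,1,0,1,0,2,0,1,0,1,0,2,0,1,0,2,0,2,0,2,0,1,0,1,0,1,0,2,0,1,0,1,0,1,0,1,0,1,0,2,0,1,0,2,0,1,0,1,0,1,0,2,0,1,0,1,0,2,0,1,0,2,0,2,0,2,0,1,0,1,0,1,0,2,0,1,0,1,0,1,0,1,0,1,0,2,0,1,0,2,0,1,0,1,0,1,0,2,0,1,0,1,0,2,0,1]),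
  (0,3,0,[]),
  (0,2,0,[]),
  (0,1,0,[]),
  (0,0,0,[])]),
  (4, 8, [
  (2,0,3,[0,2,0,2,0,2,0,2,0,2,0,1,0,1,0,1,0,2,0,2,0,1,0,1,0,1,0,1,0,1,0,1,0,2,0,1,0,2,0,1,0,1,0,1,0,2,0,1,0,1,0,2,0,1,0,2,0,2,0,2,0,1,0,1,0,1,0,2,0,1,0,1,0,1,0,1,0,1,0,2,0,1,0,1,0,2,0,1,0,2,0,2,0,2,0,1,0,1,0,1,0,2,0,1,0,1,0,1,0,1,0,1,0,2,0,1,0,1,0,2,0,1,0,2,0,2,0,2,0,1,0,1,0,1,0,2,0]),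
  (0,3,0,[]),
  (0,2,0,[]),
  (0,1,0,[]),
  (0,0,0,[])]),
  (4, 9, [
  (2,0,2,[0,1,0,1,0,1,0,1,0,1,0,1,0,1,0,2,0,1,0,2,0,1,0,1,0,1,0,2,0,1,0,2,0,1,0,1,0,1,0,2,0,1,0,1,0,2,0,1,0,2,0,2,0,2,0,1,0,1,0,1,0,2,0,1,0,1,0,1,0,1,0,1,0,2,0,1,0,1,0,2,0,1,0]),
  (0,3,0,[]),
  (0,2,0,[]),
  (0,1,0,[]),
  (0,0,0,[])]),
  (4, 10, [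
  (2,0,3,[0,2,0,2,0,2,0,2,0,2,0,1,0,1,0,1,0,2,0,2,0,1,0,1,0,1,0,1,0,1,0,1,0,2,0,1,0,2,0,1,0,1,0,1,0,2,0,1,0,2,0,1,0,1,0,1,0,2,0,1,0,1,0,2,0,1,0,2,0,2,0,2,0,1,0,1,0,1,0,2,0,1,0,1,0,1,0,1,0,1,0,2,0,1,0,2,0,1,0,1,0,1,0,2,0,1,0,2,0,1,0,1,0,1,0,2,0,1,0,2,0,1,0,1,0,1,0,2,0,1,0,1,0,2,0,1,0,2,0,2,0,2,0,1,0,1,0,1,0,2,0,1,0,1,0,1,0,1,0,1,0,2,0,1,0,2,0,1,0,1,0,1,0,2,0,1,0,1,0,2,0,1,0,1]),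
  (0,3,0,[]),
  (0,2,0,[]),
  (0,1,0,[]),
  (0,0,0,[])]),
  (5, 6, [
  (2,0,3,[0,2,0,2,0,2,0,2,0,2,0,1,0,1,0,1,0,2,0,2,0,1,0,1,0,1,0,1,0,1,0,1,0,2,0,1,0,1,0,2,0,1,0,2,0,2,0,2,0,1,0,1,0,1,0,2,0,1,0,1,0,1,0,1,0,1,0,2,0,1,0,2,0,1,0,1,0,1,0,2,0,1,0,2,0,1,0,1,0,1,0,2,0,1,0,2,0,1,0,1,0,1,0,2,0,1,0,1,0,2,0,1,0,2,0,2,0,2,0,1,0,1,0,1,0,2,0,1,0,1,0,1,0,1,0,1,0,2,0,1,0,2,0,1,0,1,0,1,0,2,0,1,0,2,0,1,0,1,0,1,0,2,0,1,0,2,0,1,0,1,0,1,0,2,0,1,0,2,0,1,0,1,0,1,0,2,0,1,0,1,0,2,0,1,0,2,0,2,0,2,0,1,0,1,0,1,0,2]),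
  (0,3,0,[]),
  (0,2,0,[]),
  (0,1,0,[]),
  (0,0,0,[])]),
  (5, 7, [
  (2,0,2,[0,1,0,2,0,2,0,2,0,2,0,1,0,1,0,1,0,2,0,1,0,1,0,1,0,1,0,1,0,2,0,1,0,1,0,2,0,1,0,2,0,2,0,2,0,1,0,1,0,1,0,2,0,1,0,1,0,1,0,1,0,1,0,2,0,1,0,2,0,1,0,1,0,1,0,2,0,1,0,2,0,1,0,1,0,1,0,2,0,1,0,2,0,1,0,1,0,1,0,2,0,1,0,1,0,2,0,1]),
  (0,3,0,[]),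
  (0,2,0,[]),
  (0,1,0,[]),
  (0,0,0,[])]),
  (5, 8, [
  (2,0,3,[0,2,0,2,0,2,0,2,0,2,0,1,0,1,0,1,0,2,0,2,0,1,0,1,0,1,0,1,0,1,0,1,0,2,0,1,0,1,0,2,0,1,0,2,0,2,0,2,0,1,0,1,0,1,0,2,0,1,0,1,0,1,0,1,0,1,0,2,0,1,0,1,0,2,0,1,0,2,0,2,0,2,0,1,0,1,0,1,0,2,0,1,0,1,0,1,0,1,0,1,0,2,0,1,0,2,0,1,0,1,0,1,0,2,0,1,0,2,0,1,0,1,0,1,0,2,0,1,0,2,0,1,0,1,0,1,0,2,0,1,0,2,0,1,0,1,0,1,0,2,0,1,0,1,0,2,0,1,0,2,0,2,0,2,0,1,0,1,0,1,0,2,0,1,0,1,0,1,0,1,0,1,0,2,0,1,0,2,0,1,0,1,0,1,0,2,0,1,0,2,0,1,0,1,0,1,0,2,0,1,0,1,0,2]),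
  (0,3,0,[]),
  (0,2,0,[]),
  (0,1,0,[]),
  (0,0,0,[])]),
  (5, 9, [
  (2,0,3,[0,2,0,2,0,2,0,2,0,2,0,1,0,1,0,1,0,2,0,2,0,1,0,1,0,1,0,1,0,1,0,1,0,2,0,1,0,2,0,1,0,1,0,1,0,2,0,1,0,1,0,2,0,1,0,2,0,2,0,2,0,1,0,1,0,1,0,2,0,1,0,1,0,1,0,1,0,1,0,2,0,1,0,1,0,2,0,1,0,2,0,2,0,2,0,1,0,1,0,1,0,2,0,1,0,1,0,1,0,1,0,1,0,2,0,1,0,1,0,2,0,1,0,2,0,2,0,2,0,1,0,1,0,1]),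
  (0,3,0,[]),
  (0,2,0,[]),
  (0,1,0,[]),
  (0,0,0,[])]),
  (5, 10, [
  (2,0,2,[0,1,0,1,0,1,0,1,0,1,0,1,0,1,0,2,0,1,0,2,0,1,0,1,0,1,0,2,0,1,0,1,0,2,0,1,0,2,0,2,0,2,0,1,0,1,0,1,0,2,0,1,0,1,0,1,0,1,0,1,0,2,0,1,0,1,0,2,0,1,0,2,0,2,0,2,0,1,0,1,0,1,0,2,0,1,0,1,0,1,0,1,0,1,0,2,0,1,0,2,0,1,0,1,0,1,0,2,0,1,0,2,0,1,0,1,0,1,0,2,0,1,0,2,0,1,0,1,0,1,0,2,0,1,0,1,0,2,0,1,0,2,0,2,0,2,0,1,0,1,0,2]),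
  (0,3,0,[]),
  (0,2,0,[]),
  (0,1,0,[]),
  (0,0,0,[])]),
  (6, 7, [
  (2,0,3,[0,2,0,2,0,2,0,2,0,2,0,1,0,1,0,1,0,2,0,2,0,2,0,2,0,2,0,2,0,1,0,1,0,1,0,2,0,1,0,1,0,1,0,1,0,1,0,2,0,1,0,2,0,1,0,1,0,1,0,2,0,1,0,2,0,1,0,1,0,1,0,2,0,1,0,2,0,1,0,1,0,1,0,2,0,1,0,2,0,1,0,1,0,1,0,2,0,1,0,1,0,2,0,1,0,2,0,2,0,2,0,1,0,1,0,1,0,2,0,1,0,1,0,1,0,1,0,1,0,2,0,1,0,2,0,1,0,1,0,1,0,2,0,1,0,2,0,1,0,1,0,1,0,2,0,1,0,1,0,2,0,1]),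
  (0,3,0,[]),
  (0,2,0,[]),
  (0,1,0,[]),
  (0,0,0,[])]),
  (6, 8, [
  (2,0,1,[0,1,0,2,0,2,0,2,0,2,0,1,0,1,0,1,0,2,0,1,0,1,0,1,0,1,0,1,0,2,0,1,0,1,0,2,0,1,0,2,0,2,0,2,0,1,0,1,0,1,0,2,0,1,0,1,0,1,0,1,0,1,0,2,0,1,0,2,0,1,0,1,0,1,0,2,0,1,0,2,0,1,0,1,0,1,0,2,0,1,0,1,0,2,0,1,0,2,0,2,0,2,0,1,0,1,0,1,0,2,0,1,0,1,0,1,0,1,0,1,0,2,0,1,0,1,0,2,0,1,0,2,0,2,0,2,0,1,0,1,0,1,0,2,0,1,0,1,0,1,0,1,0,1,0,2,0,1,0,1,0,2,0,1,0,2,0,2,0,2,0,1,0,1,0,1,0,2,0]),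
  (0,3,0,[]),
  (0,2,0,[]),
  (0,1,0,[]),
  (0,0,0,[])]),
  (6, 9, [
  (2,0,3,[0,2,0,2,0,2,0,2,0,2,0,1,0,1,0,1,0,2,0,2,0,1,0,1,0,1,0,1,0,1,0,1,0,2,0,1,0,1,0,2,0,1,0,2,0,2,0,2,0,1,0,1,0,1,0,2,0,1,0,1,0,1,0,1,0,1,0,2,0,1,0,2,0,1,0,1,0,1,0,2,0,1,0,1,0,2,0,1,0,2,0,2,0,2,0,1,0,1,0,1,0,2,0,1,0,1,0,1,0,1,0,1,0,2,0,1,0,2,0,1,0,1,0,1,0,2,0,1,0,1,0,2,0,1,0,2,0,2,0,2,0,1,0,1,0,1,0,2,0,1,0,1,0,1,0,1,0,1,0,2,0,1,0,2,0,1,0,1,0,1,0,2,0,1,0,1,0,2,0,1,0,2,0,2,0,2,0,1,0,1,0,1,0,2,0,1,0,1,0,1,0,1,0,1,0,2,0,1,0,2,0,1,0,1,0,1,0,2,0,1,0,2,0,1,0,1,0,1,0,2,0,1,0,1,0,2,0,1,0,2,0,2,0,2,0,1,0,1,0,1]),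
  (0,3,0,[]),
  (0,2,0,[]),
  (0,1,0,[]),
  (0,0,0,[])]),
  (6, 10, [
  (2,0,2,[0,1,0,1,0,1,0,1,0,1,0,1,0,1,0,2,0,1,0,2,0,1,0,1,0,1,0,2,0,1,0,2,0,1,0,1,0,1,0,2,0,1,0,1,0,2,0,1,0,2,0,2,0,2,0,1,0,1,0,1,0,2,0,1,0,1,0,1,0,1,0,1,0,2,0,1,0,1,0,2,0,1,0,1]),
  (0,3,0,[]),
  (0,2,0,[]),
  (0,1,0,[]),
  (0,0,0,[])]),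
  (7, 8, [
  (2,0,3,[0,2,0,2,0,2,0,2,0,2,0,1,0,1,0,1,0,2,0,2,0,1,0,1,0,1,0,1,0,1,0,1,0,2,0,1,0,2,0,1,0,1,0,1,0,2,0,1,0,2,0,1,0,1,0,1,0,2,0,1,0,2,0,1,0,1,0,1,0,2,0,1,0,1,0,2,0,1,0,2,0,2,0,2,0,1,0,1,0,1,0,2,0,1,0,1,0,1,0,1,0,1,0,2,0,1,0,2,0,1,0,1,0,1,0,2,0,1,0,2,0,1,0,1,0,1,0,2,0,1,0,1,0,2]),
  (0,3,0,[]),
  (0,2,0,[]),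
  (0,1,0,[]),
  (0,0,0,[])]),
  (7, 9, [
  (2,0,3,[0,2,0,2,0,2,0,2,0,2,0,1,0,1,0,1,0,2,0,2,0,1,0,1,0,1,0,1,0,1,0,1,0,2,0,1,0,2,0,1,0,1,0,1,0,2,0,1,0,2,0,1,0,1,0,1,0,2,0,1,0,1,0,2,0,1,0,2,0,2,0,2,0,1,0,1,0,1,0,2,0,1,0,1,0,1,0,1,0,1,0,2,0,1,0,2,0,1,0,1,0,1,0,2,0,1,0,2,0,1,0,1,0,1,0,2,0,1,0,2,0,1,0,1,0,1,0,2,0,1,0,1,0,2,0,1,0,2,0,2,0,2,0,1,0,1,0,1,0,2,0,1,0,1,0,1,0,1,0,1,0,2,0,1,0,2,0,1,0,1,0,1,0,2,0,1,0,1,0,2,0,1,0]),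
  (0,3,0,[]),
  (0,2,0,[]),
  (0,1,0,[]),
  (0,0,0,[])]),
  (7, 10, [
  (2,0,3,[0,2,0,2,0,2,0,2,0,2,0,1,0,1,0,1,0,2,0,2,0,1,0,1,0,1,0,1,0,1,0,1,0,2,0,1,0,1,0,2,0,1,0,2,0,2,0,2,0,1,0,1,0,1,0,2,0,1,0,1,0,1,0,1,0,1,0,2,0,1,0,2,0,1,0,1,0,1,0,2,0,1,0,1,0,2,0,1,0,2,0,2,0,2,0,1,0,1,0,1,0,2,0,1,0,1,0,1,0,1,0,1,0,2,0,1,0,2,0,1,0,1,0,1,0,2,0,1,0,1,0,2,0,1,0,2,0,2,0,2,0,1,0,1,0,1,0,2,0,1,0,1,0,1,0,1,0,1,0,2,0,1,0,2,0,1,0,1,0,1,0,2,0,1,0,1,0,2,0,1,0,2,0,2,0,2,0,1,0,1,0,1,0,2,0,1,0,1,0,1,0,1,0,1,0,2,0,1,0,2,0,1,0,1,0,1,0,2,0,1,0,2,0,1,0,1,0,1,0,2,0,1,0,1,0,2,0,1,0,2,0,2,0,2,0,1,0,1,0,2]),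
  (0,3,0,[]),
  (0,2,0,[]),
  (0,1,0,[]),
  (0,0,0,[])]),
  (8, 9, [
  (2,0,3,[0,2,0,2,0,2,0,2,0,2,0,1,0,1,0,1,0,2,0,2,0,2,0,2,0,2,0,2,0,1,0,1,0,1,0,2,0,1,0,1,0,1,0,1,0,1,0,2,0,1,0,2,0,1,0,1,0,1,0,2,0,1,0,2,0,1,0,1,0,1,0,2,0,1,0,2,0,1,0,1,0,1,0,2,0,1,0,2,0,1,0,1,0,1,0,2,0,1,0,1,0,2,0,1,0,2,0,2,0,2,0,1,0,1,0,1,0,2,0,1,0,1,0,1,0,1,0,1,0,2,0,1,0,2,0,1,0,1,0,1,0,2,0,1,0,2,0,1,0,1,0,1,0,2,0,1,0,1,0,2,0,1,0]),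
  (0,3,0,[]),
  (0,2,0,[]),
  (0,1,0,[]),
  (0,0,0,[])]),
  (8, 10, [
  (2,0,2,[0,1,0,1,0,1,0,1,0,1,0,1,0,1,0,2,0,1,0,2,0,1,0,1,0,1,0,2,0,1,0,1,0,2,0,1,0,2,0,2,0,2,0,1,0,1,0,2]),
  (0,3,0,[]),
  (0,2,0,[]),
  (0,1,0,[]),
  (0,0,0,[])]),
  (9, 10, [
  (2,0,3,[0,2,0,2,0,2,0,2,0,2,0,1,0,1,0,1,0,2,0,2,0,1,0,1,0,1,0,1,0,1,0,1,0,2,0,1,0,2,0,1,0,1,0,1,0,2,0,1,0,1,0,2,0,1,0,2,0,2,0,2,0,1,0,1,0,1,0,2,0,1,0,1,0,1,0,1,0,1,0,2,0,1,0,2,0,1,0,1,0,1,0,2,0,1,0,1,0,2,0,1,0,2,0,2,0,2,0,1,0,1,0,1,0,2,0,1,0,1,0,1,0,1,0,1,0,2,0,1,0,1,0,2,0,1,0,2,0,2,0,2,0,1,0,1,0,1,0,2,0,1,0,1,0,1,0,1,0,1,0,2,0,1,0,1,0,2,0,1,0,2,0,2,0,2,0,1,0,1,0,1,0,2,0,1,0,1,0,1,0,1,0,1,0,2,0,1,0,1,0,2,0,1,0,1]),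
  (0,3,0,[]),
  (0,2,0,[]),
  (0,1,0,[]),
  (0,0,0,[])])]

/-- moves expanding conjugates by x -/
def eConjX : List (List Move) := [
[
  (1,1,0,[0]),
  (0,0,0,[])],
[
  (1,1,0,[]),
  (0,0,0,[])],
[
  (1,1,0,[0,1,0]),
  (0,0,0,[])],
[
  (1,1,0,[0,2,0]),
  (0,0,0,[])],
[
  (1,1,0,[0,1]),
  (0,0,0,[])],
[
  (1,1,0,[0,2]),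
  (0,0,0,[])],
[
  (1,1,0,[0,1,0,1,0]),
  (0,0,0,[])],
[
  (1,1,0,[0,1,0,2,0]),
  (0,0,0,[])],
[
  (1,1,0,[0,1,0,1]),
  (0,0,0,[])],
[
  (1,1,0,[0,1,0,2]),
  (0,0,0,[])],
[
  (1,1,0,[0,1,0,2,0,1]),
  (1,2,0,[0,1,0,1,0]),
  (1,3,0,[0,1,0,1]),
  (2,0,1,[0,1,0,1,0,1,0,1,0,1,0,1,0,1,0,2,0,1,0,2,0,1,0,1,0,1,0,2,0,1,0,1,0,2,0,1,0,2,0,2,0,2,0,1,0,1,0,1,0,2,0,1,0,1,0,1,0,1,0,1,0,2,0,1,0,2,0,1,0,1,0,1,0,2,0,1,0,1,0,2,0,1,0,2,0,2,0,2,0,1,0,1,0,1,0,2,0,1,0,1,0,1,0,1,0,1,0,2,0,1,0,1,0,2,0,1,0,1]),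
  (0,3,0,[]),
  (0,2,0,[]),
  (2,1,2,[0,1,0,1,0,1,0,1,0,1,0,1,0,1,0,2,0,1,0,1,0,2,0,1,0,2,0,2,0,2,0,1,0,1,0,1,0,2,0,1,0,1,0,1,0,1,0,1,0,2,0,1,0,2,0,1,0,1,0,1,0,2,0,1,0,1,0,2,0,1,0,2,0,2,0,2,0,1,0,1,0,1,0,2,0,1,0,1,0,1,0,1,0,1,0,2,0,1,0,2,0,1,0,1,0,1,0,2,0,1,0,1,0,2,0,1,0,2,0,2,0,2,0,1,0,1,0,1,0,2,0,1,0,1,0,1,0,1,0,1,0,2,0,1,0,1,0,2]),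
  (0,4,0,[]),
  (0,3,0,[]),
  (2,0,2,[0,1,0,1,0,1,0,1,0,1,0,1,0,1,0,2,0,1,0,2,0,1,0,1,0,1,0,2,0,1,0,2,0,1,0,1,0,1,0,2,0,1,0,1,0,2,0,1,0,2,0,2,0,2,0,1,0,1,0,1,0,2,0,1,0,1,0,1,0,1,0,1,0,2,0,1,0,1,0,2,0,1,0,2,0,2,0,2,0,1,0,1,0,1,0,2,0,1,0,1,0,1,0,1,0,1,0,2,0,1,0,2,0,1,0,1,0,1,0,2,0,1,0,2,0,1,0,1,0,1,0,2,0,1,0,1,0,2]),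
  (0,3,0,[]),
  (0,2,0,[]),
  (2,2,2,[0,1,0,1,0,1,0,1,0,1,0,1,0,1,0,2,0,1,0,2,0,1,0,1,0,1,0,2,0,1,0,2,0,1,0,1,0,1,0,2,0,1,0,1,0,2,0,1,0,2,0,2,0,2,0,1,0,1,0,1,0,2,0,1,0,1,0,1,0,1,0,1,0,2,0,1,0,1,0,2,0,1,0,2,0,2,0,2,0,1,0,1,0,1,0,2,0,1,0,1,0,1,0,1,0,1,0,2,0,1,0,2,0,1,0,1,0,1,0,2,0,1,0,2,0,1,0,1,0,1,0,2,0,1,0,1,0,2,0]),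
  (0,5,0,[]),
  (0,4,0,[]),
  (2,4,0,[1,0,1,0,2,0,1,0,1,0,1,0,2,0,1,0,2,0,1,0,1,0,1,0,2,0,1,0,2,0,1,0,1,0,1,0,2,0,1,0,2,0,1,0,1,0,1,0,2,0,1,0,2,0,1,0,1,0,1,0,2,0,1,0,1,0,2,0,1,0,2,0,2,0,2,0,1,0,1,0,1,0,2,0]),
  (2,3,2,[0,1,0,1,0,1,0,1,0,1,0,1,0,1,0,2,0,1,0,1,0,2,0,1,0,2,0,2,0,2,0,1,0,1,0,1,0,2,0,1,0,1,0,1,0,1,0,1,0,2,0,1,0,2,0,1,0,1,0,1,0,2,0,1,0,1,0,2,0,1,0,2,0,2,0,2,0,1,0,1,0,1,0,2,0,1,0,1,0,1,0,1,0,1,0,2,0,1,0,2,0,1,0,1,0,1,0,2,0,1,0,1,0,2,0,1,0,2,0,2,0,2,0,1,0,1,0,1,0,2,0,1,0,1,0,1,0,1,0,1,0,2,0,1,0,1,0,2]),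
  (0,6,0,[]),
  (0,5,0,[]),
  (2,2,1,[0,1,0,2,0,2,0,2,0,2,0,1,0,1,0,1,0,2,0,1,0,1,0,1,0,1,0,1,0,2,0,1,0,1,0,2,0,1,0,2,0,2,0,2,0,1,0,1,0,1,0,2,0,1,0,1,0,1,0,1,0,1,0,2,0,1,0,2,0,1,0,1,0,1,0,2,0,1,0,2,0,1,0,1,0,1,0,2,0,1,0,1,0,2,0,1,0,2,0,2,0,2,0,1,0,1,0,1,0,2,0,1,0,1,0,1,0,1,0,1,0,2,0,1,0,1,0,2,0,1,0,2,0,2,0,2,0,1,0,1,0,1,0,2,0,1,0,1,0,1,0,1,0,1,0,2,0,1,0,1,0,2,0,1,0,2,0,2,0,2,0,1,0,1,0,1,0,2,0]),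
  (0,5,0,[]),
  (0,4,0,[]),
  (2,1,2,[0,1,0,1,0,1,0,1,0,1,0,1,0,1,0,2,0,1,0,2,0,1,0,1,0,1,0,2,0,1,0,2,0,1,0,1,0,1,0,2,0,1,0,1,0,2,0,1,0,2,0,2,0,2,0,1,0,1,0,1,0,2,0,1,0,1,0,1,0,1,0,1,0,2,0,1,0,1,0,2,0,1,0,2,0,2,0,2,0,1,0,1,0,1,0,2,0,1,0,1,0,1,0,1,0,1,0,2,0,1,0,2,0,1,0,1,0,1,0,2,0,1,0,2,0,1,0,1,0,1,0,2,0,1,0,1,0,2]),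
  (0,4,0,[]),
  (0,3,0,[]),
  (0,0,0,[]),
  (2,2,1,[0,1,0,2,0,2,0,2,0,2,0,1,0,1,0,1,0,2,0,1,0,1,0,1,0,1,0,1,0,2,0,1,0,1,0,2,0,1,0,2,0,2,0,2,0,1,0,1,0,1,0,2,0,1,0,1,0,1,0,1,0,1,0,2,0,1,0,2,0,1,0,1,0,1,0,2,0,1,0,2,0,1,0,1,0,1,0,2,0,1,0,1,0,2,0,1,0,2,0,2,0,2,0,1,0,1,0,1,0,2,0,1,0,1,0,1,0,1,0,1,0,2,0,1,0,2,0,1,0,1,0,1,0,2,0,1,0,2,0,1,0,1,0,1,0,2,0,1,0,2,0,2,0,1,0,1,0,1,0,2,0,1,0,2]),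
  (0,5,0,[]),
  (0,4,0,[]),
  (2,1,1,[0,1,0,2,0,2,0,2,0,2,0,1,0,1,0,1,0,2,0,1,0,1,0,1,0,1,0,1,0,2,0,1,0,2,0,1,0,1,0,1,0,2,0,1,0,1,0,2,0,1,0,2,0,2,0,2,0,1,0,1,0,1,0,2,0,1,0,1,0,1,0,1,0,1,0,2,0,1,0,2,0,1,0,1,0,1,0,2,0,1,0,1,0,2,0,1,0,2,0,2,0,2,0,1,0,1,0,1,0,2,0,1,0,1,0,1,0,1,0,1,0,2,0,1,0,2,0,1,0,1,0,1,0,2,0,1,0,1,0,2,0,1,0,2,0,2,0,2,0,1,0,1,0,1,0,2,0,1,0,1,0,2,0,1,0,1,0,1,0,2,0,1,0,2]),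
  (0,4,0,[]),
  (0,3,0,[]),
  (2,3,2,[0,1,0,1,0,1,0,1,0,1,0,1,0,1,0,2,0,1,0,2,0,1,0,1,0,1,0,2,0,1,0,2,0,1,0,1,0,1,0,2,0,1,0,1,0,2,0,1,0,2,0,2,0,2,0,1,0,1,0,1,0,2,0,1,0,1,0,1,0,1,0,1,0,2,0,1,0,1,0,2,0,1,0,2,0,2,0,2,0,1,0,1,0,1,0,2,0,1,0,1,0,1,0,1,0,1,0,2,0,1,0,2,0,1,0,1,0,1,0,2,0,1,0,2,0,1,0,1,0,1,0,2,0,1,0,1,0,2,0]),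
  (0,6,0,[]),
  (0,5,0,[]),
  (0,2,0,[]),
  (2,3,0,[1,0,1,0,2,0,1,0,1,0,1,0,2,0,1,0,2,0,1,0,1,0,1,0,2,0,1,0,1,0,2,0,1,0,1]),
  (2,2,1,[0,1,0,1,0,1,0,1,0,1,0,1,0,1,0,2,0,1,0,2,0,1,0,1,0,1,0,2,0,1,0,1,0,2,0,1,0,2,0,2,0,2,0,1,0,1,0,1,0,2,0,1,0,1,0,1,0,1,0,1,0,2,0,1,0,2,0,1,0,1,0,1,0,2,0,1,0,1,0,2,0,1,0,2,0,2,0,2,0,1,0,1,0,1,0,2,0,1,0,1,0,1,0,1,0,1,0,2,0,1,0,1,0,2,0,1,0,1]),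
  (0,5,0,[]),
  (0,4,0,[]),
  (2,1,1,[0,1,0,2,0,2,0,2,0,2,0,1,0,1,0,1,0,2,0,1,0,1,0,1,0,1,0,1,0,2,0,1,0,1,0,2,0,1,0,2,0,2,0,2,0,1,0,1,0,1,0,2,0,1,0,1,0,1,0,1,0,1,0,2,0,1,0,2,0,1,0,1,0,1,0,2,0,1,0,2,0,1,0,1,0,1,0,2,0,1,0,1,0,2,0,1,0,2,0,2,0,2,0,1,0,1,0,1,0,2,0,1,0,1,0,1,0,1,0,1,0,2,0,1,0,2,0,1,0,1,0,1,0,2,0,1,0,2,0,1,0,1,0,1,0,2,0,1,0,2,0,1,0,1,0,1,0,2,0,1,0,1,0,2,0,1,0,1]),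
  (0,4,0,[]),
  (0,3,0,[]),
  (0,0,0,[]),
  (2,1,1,[0,1,0,2,0,2,0,2,0,2,0,1,0,1,0,1,0,2,0,1,0,1,0,1,0,1,0,1,0,2,0,1,0,1,0,2,0,1,0,2,0,2,0,2,0,1,0,1,0,1,0,2,0,1,0,1,0,1,0,1,0,1,0,2,0,1,0,2,0,1,0,1,0,1,0,2,0,1,0,2,0,1,0,1,0,1,0,2,0,1,0,1,0,2,0,1,0,2,0,2,0,2,0,1,0,1,0,1,0,2,0,1,0,1,0,1,0,1,0,1,0,2,0,1,0,2,0,1,0,1,0,1,0,2,0,1,0,2,0,1,0,1,0,1,0,2,0,1,0,2,0,2,0,1,0,1,0,1,0,2,0,1,0,2]),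
  (0,4,0,[]),
  (0,3,0,[]),
  (0,0,0,[]),
  (0,0,0,[])]]

/-- moves expanding conjugates by y -/
def eConjY : List (List Move) := [
[
  (1,1,0,[]),
  (0,0,0,[])],
[
  (1,1,0,[0,1]),
  (0,0,0,[])],
[
  (1,1,0,[0,2]),
  (0,0,0,[])],
[
  (1,1,0,[0]),
  (0,0,0,[])],
[
  (1,1,0,[0,1,0,1]),
  (0,0,0,[])],
[
  (1,1,0,[0,1,0,2]),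
  (1,2,0,[0,2,0]),
  (1,3,0,[0,1,0]),
  (1,4,0,[0,1]),
  (1,5,0,[0]),
  (2,1,2,[0,1,0,1,0,1,0,1,0,1,0,1,0,1,0,2,0,1,0,2,0,1,0,1,0,1,0,2,0,1,0,2,0,1,0,1,0,1,0,2,0,1,0,1,0,2,0,1,0,2,0,2,0,2,0,1,0,1,0,1,0,2,0,1,0,1,0,1,0,1,0,1,0,2,0,1,0,1,0,2,0,1,0,2,0,2,0,2,0,1,0,1,0,1,0,1,0,1,0]),
  (0,4,0,[]),
  (0,3,0,[]),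
  (2,2,3,[0,2,0,2,0,2,0,2,0,2,0,1,0,1,0,1,0,2,0,2,0,2,0,2,0,2,0,2,0,1,0,1,0,1,0,2,0,1,0,1,0,1,0,1,0,1,0,2,0,1,0,2,0,1,0,1,0,1,0,2,0,1,0,2,0,1,0,1,0,1,0,2,0,1,0,2,0,1,0,1,0,1,0,2,0,1,0,2,0,1,0,1,0,1,0,2,0,1,0,1,0,2,0,1,0,2,0,2,0,2,0,1,0,1,0,1,0,2,0,1,0,1,0,1,0,1,0,1,0,2,0,1,0,2,0,1,0,1,0,1,0,2,0,1,0,2,0,1,0,1,0,1,0,2,0,1,0,1,0,2,0,2]),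
  (0,5,0,[]),
  (0,4,0,[]),
  (2,1,3,[0,2,0,2,0,2,0,2,0,2,0,1,0,1,0,1,0,2,0,2,0,1,0,1,0,1,0,1,0,1,0,1,0,2,0,1,0,1,0,2,0,1,0,2,0,2,0,2,0,1,0,1,0,1,0,2,0,1,0,1,0,1,0,1,0,1,0,2,0,1,0,2,0,1,0,1,0,1,0,2,0,1,0,2,0,1,0,1,0,1,0,2,0,1,0,2,0,1,0,1,0,1,0,2,0,1,0,2,0,1,0,1,0,1,0,2,0,1,0,2,0,1,0,1,0,1,0,2,0,1,0,1,0,2,0,1,0,2,0,2,0,2,0,1,0,1,0,1,0,2,0,1,0,1,0,1,0,1,0,1,0,2,0,1,0,2,0,1,0,1,0,1,0,2,0,1,0,2,0,1,0,1,0,1,0,2,0,1,0,1,0,2,0,1,0,2,0,2,0,2,0,1,0,1,0,1,0,1]),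
  (0,4,0,[]),
  (0,3,0,[]),
  (2,0,2,[0,1,0,2,0,2,0,2,0,2,0,1,0,1,0,1,0,2,0,1,0,1,0,1,0,1,0,1,0,2,0,1,0,1,0,2,0,1,0,2,0,2,0,2,0,1,0,1,0,1,0,2,0,1,0,1,0,1,0,1,0,1,0,2,0,1,0,2,0,1,0,1,0,1,0,2,0,1,0,2,0,1,0,1,0,1,0,2,0,1,0,2,0,1,0,1,0,1,0,2,0,1,0,1,0,2,0,2]),
  (0,3,0,[]),
  (0,2,0,[]),
  (2,4,3,[0,2,0,2,0,2,0,2,0,2,0,1,0,1,0,1,0,2,0,2,0,1,0,1,0,1,0,1,0,1,0,1,0,2,0,1,0,1,0,2,0,1,0,2,0,2,0,2,0,1,0,1,0,1,0,2,0,1,0,1,0,1,0,1,0,1,0,2,0,1,0,2,0,1,0,1,0,1,0,2,0,1,0,2,0,1,0,1,0,1,0,2,0,1,0,2,0,1,0,1,0,1,0,2,0,1,0,2,0,1,0,1,0,1,0,2,0,1,0,2,0,1,0,1,0,1,0,2,0,1,0,1,0,2,0,1,0,2,0,2,0,2,0,1,0,1,0,1,0,2,0,1,0,1,0,1,0,1,0,1,0,2,0,1,0,2,0,1,0,1,0,1,0,2,0,1,0,2,0,1,0,1,0,1,0,2,0,1,0,1,0,2,0,1,0,2,0,2,0,2,0,1,0,1,0,1,0,1,0,2]),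
  (0,7,0,[]),
  (0,6,0,[]),
  (2,3,3,[0,2,0,2,0,2,0,2,0,2,0,1,0,1,0,1,0,2,0,2,0,1,0,1,0,1,0,1,0,1,0,1,0,2,0,1,0,1,0,2,0,1,0,2,0,2,0,2,0,1,0,1,0,1,0,2,0,1,0,1,0,1,0,1,0,1,0,2,0,1,0,1,0,2,0,1,0,2,0,2,0,2,0,1,0,1,0,1,0,2,0,1,0,1,0,1,0,1,0,1,0,2,0,1,0,2,0,1,0,1,0,1,0,2,0,1,0,2,0,1,0,1,0,1,0,2,0,1,0,2,0,1,0,1,0,1,0,2,0,1,0,2,0,1,0,1,0,1,0,2,0,1,0,1,0,2,0,1,0,2,0,2,0,2,0,1,0,1,0,1,0,2,0,1,0,1,0,1,0,1,0,1,0,2,0,1,0,2,0,1,0,1,0,1,0,2,0,1,0,2,0,1,0,1,0,1,0,2,0,1,0,1,0,2,0,2,0,2]),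
  (0,6,0,[]),
  (0,5,0,[]),
  (2,2,3,[0,2,0,2,0,2,0,2,0,2,0,1,0,1,0,1,0,2,0,2,0,2,0,2,0,2,0,2,0,1,0,1,0,1,0,2,0,1,0,1,0,1,0,1,0,1,0,2,0,1,0,1,0,2,0,1,0,2,0,2,0,2,0,1,0,1,0,1,0,2,0,1,0,1,0,1,0,1,0,1,0,2,0,1,0,1,0,2,0,1,0,2,0,2,0,2,0,1,0,1,0,1,0,2,0,1,0,1,0,1,0,1,0,1,0,2,0,1,0,2,0,1,0,1,0,1,0,2,0,1,0,1,0,2,0,1,0,2,0,2,0,2,0,1,0,1,0,1,0,2,0,1,0,1,0,1,0,1,0,1,0,2,0,1,0,2,0,1,0,1,0,1,0,2,0,1,0,2,0,1,0,1,0,1,0,2,0,1,0,1,0,2,0,1,0,2,0,2,0,2,0,1,0,1,0,1,0,2,0,1,0,1,0,1,0,1,0,1,0,2,0,1,0,2,0,1,0,1,0,1,0,2,0,1,0,2,0,1,0,1,0,1,0,2,0,1,0,1,0,2,0,2,0,2]),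
  (0,5,0,[]),
  (0,4,0,[]),
  (2,1,3,[0,2,0,2,0,2,0,2,0,2,0,1,0,1,0,1,0,2,0,2,0,1,0,1,0,1,0,1,0,1,0,1,0,2,0,1,0,1,0,2,0,1,0,2,0,2,0,2,0,1,0,1,0,1,0,2,0,1,0,1,0,1,0,1,0,1,0,2,0,1,0,1,0,2,0,1,0,2,0,2,0,2,0,1,0,1,0,1,0,2,0,1,0,1,0,1,0,1,0,1,0,2,0,1,0,2,0,1,0,1,0,1,0,2,0,1,0,2,0,1,0,1,0,1,0,2,0,1,0,2,0,1,0,1,0,1,0,2,0,1,0,1,0,2,0,1,0,2,0,2,0,2,0,1,0,1,0,1,0,2,0,1,0,1,0,1,0,1,0,1,0,2,0,1,0,2,0,1,0,1,0,1,0,2,0,1,0,2,0,1,0,1,0,1,0,2,0,1,0,2,0,1,0,1,0,1,0,2,0,1,0,1,0,2,0,2,0,2]),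
  (0,4,0,[]),
  (0,3,0,[]),
  (2,6,4,[2,0,1,0,1,0,2,0,1,0,1,0,1,0,2,0,2,0,1,0,1,0,1,0,1,0,1,0,2,0,1,0,1,0,2,0,1,0,2,0,2,0,2,0,1,0,1,0,1,0,2,0,1,0,1,0,1,0,1,0,1,0,2,0,1,0,1,0,2,0,1,0,2,0,2,0,2,0,1,0,1,0,1,0,2,0,1,0,1,0,1,0,1,0,1,0,2,0,1,0,1,0,2,0,1,0,2,0,2,0,2,0,1,0,1,0,1,0,2,0,1,0,1,0,1,0,1,0,1,0,2,0,1,0,2,0,1,0,1,0,1,0,2,0,1,0,2,0,1,0,1,0,1,0,2,0,1,0,1,0,2,0,1,0,2,0,2,0,2,0,1,0,1,0,1,0,2,0,1,0,1,0,1,0,1,0,1,0,2,0,1,0,1,0,2,0,2,0,1,0,1,0,2,0,1,0,1,0,2,0,2,0,1,0,2,0,2,0,1,0]),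
  (2,5,3,[0,2,0,2,0,2,0,2,0,2,0,1,0,1,0,1,0,2,0,2,0,2,0,2,0,2,0,2,0,1,0,1,0,1,0,2,0,1,0,1,0,1,0,1,0,1,0,2,0,1,0,2,0,1,0,1,0,1,0,2,0,1,0,1,0,2,0,1,0,2,0,2,0,2,0,1,0,1,0,1,0,2,0,1,0,1,0,1,0,1,0,1,0,2,0,1,0,1,0,2,0,1,0,2,0,2,0,2,0,1,0,1,0,1,0,2,0,1,0,1,0,1,0,1,0,1,0,2,0,1,0,2,0,1,0,1,0,1,0,2,0,1,0,2,0,1,0,1,0,1,0,2,0,1,0,2,0,1,0,1,0,1,0,2,0,1,0,1,0,2,0,1,0,2,0,2,0,2,0,1,0,1,0,1,0,1,0,1,0,1,0,2,0,1,0,1,0,2,0,2,0,1,0,2,0,2,0,1,0]),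
  (0,8,0,[]),
  (0,7,0,[]),
  (2,4,3,[0,2,0,2,0,2,0,2,0,2,0,1,0,1,0,1,0,2,0,2,0,1,0,1,0,1,0,1,0,1,0,1,0,2,0,1,0,1,0,2,0,1,0,2,0,2,0,2,0,1,0,1,0,1,0,2,0,1,0,1,0,1,0,1,0,1,0,2,0,1,0,2,0,1,0,1,0,1,0,2,0,1,0,2,0,1,0,1,0,1,0,2,0,1,0,2,0,1,0,1,0,1,0,2,0,1,0,2,0,1,0,1,0,1,0,2,0,1,0,2,0,1,0,1,0,1,0,2,0,1,0,1,0,2,0,1,0,2,0,2,0,2,0,1,0,1,0,1,0,2,0,1,0,1,0,1,0,1,0,1,0,2,0,1,0,1,0,2,0,1,0,2,0,2,0,2,0,1,0,1,0,1,0,2,0,1,0,1,0,1,0,1,0,1,0,2,0,1,0,1,0,2,0,2,0,1,0,1,0,2,0,1,0,1,0,2,0,2,0,1,0,2,0,2,0,1,0]),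
  (0,7,0,[]),
  (0,6,0,[]),
  (2,3,3,[0,2,0,2,0,2,0,2,0,2,0,1,0,1,0,1,0,2,0,2,0,1,0,1,0,1,0,1,0,1,0,1,0,2,0,1,0,1,0,2,0,2,0,1,0,1,0,2,0,1,0,1,0,2,0,2,0,1,0,2,0,2,0,1,0]),
  (0,6,0,[]),
  (0,5,0,[]),
  (2,2,3,[0,2,0,2,0,2,0,2,0,2,0,1,0,1,0,1,0,2,0,2,0,1,0,1,0,1,0,1,0,1,0,1,0,2,0,1,0,2,0,1,0,1,0,1,0,2,0,1,0,2,0,1,0,1,0,1,0,2,0,1,0,1,0,2,0,1,0,2,0,2,0,2,0,1,0,1,0,1,0,2,0,1,0,1,0,1,0,1,0,1,0,2,0,1,0,1,0,2,0,1,0,2,0,2,0,2,0,1,0,1,0,1,0,2,0,1,0,1,0,1,0,1,0,1,0,2,0,1,0,1,0,2,0,1,0,2,0,2,0,2,0,1,0,1,0,1,0,2,0,1,0,1,0,1,0,1,0,1,0,2,0,1,0,2,0,1,0,1,0,1,0,2,0,1,0,2,0,1,0,1,0,1,0,2,0,1,0,2,0,1,0,1,0,1,0,2,0,1,0,2,0,1,0,1,0,1,0,2,0,1,0,2,0,1,0,1,0,1,0,2,0,1,0,2,0,1,0,1,0,1,0,2,0,1,0,1,0,2,0,2,0,1,0,1,0,2,0,1,0,1,0,2,0,2,0,1,0,2,0,2,0,1,0]),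
  (0,5,0,[]),
  (0,4,0,[]),
  (2,1,3,[0,2,0,2,0,2,0,2,0,2,0,1,0,1,0,1,0,2,0,2,0,2,0,2,0,2,0,2,0,1,0,1,0,1,0,2,0,1,0,1,0,1,0,1,0,1,0,2,0,1,0,2,0,1,0,1,0,1,0,2,0,1,0,2,0,1,0,1,0,1,0,2,0,1,0,2,0,1,0,1,0,1,0,2,0,1,0,2,0,1,0,1,0,1,0,2,0,1,0,1,0,2,0,1,0,2,0,2,0,2,0,1,0,1,0,1,0,2,0,1,0,1,0,1,0,1,0,1,0,2,0,1,0,2,0,1,0,1,0,1,0,2,0,1,0,2,0,1,0,1,0,1,0,2,0,1,0,1,0,2,0,1,0,2,0,2,0,2,0,1,0,1,0,1,0,1,0,1,0,1,0,2,0,1,0,1,0,2,0,2,0,1,0,2,0,2,0,1,0]),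
  (0,4,0,[]),
  (0,3,0,[]),
  (2,0,3,[0,2,0,2,0,2,0,2,0,2,0,1,0,1,0,1,0,2,0,2,0,1,0,1,0,1,0,1,0,1,0,1,0,2,0,1,0,2,0,1,0,1,0,1,0,2,0,1,0,2,0,1,0,1,0,1,0,2,0,1,0,2,0,1,0,1,0,1,0,2,0,1,0,2,0,1,0,1,0,1,0,2,0,1,0,2,0,1,0,1,0,1,0,2,0,1,0,2,0,1,0,1,0,1,0,2,0,1,0,1,0,2,0,1,0,2,0,2,0,2,0,1,0,1,0,1,0,2,0,1,0,1,0,1,0,1,0,1,0,2,0,1,0,2,0,1,0,1,0,1,0,2,0,1,0,1,0,2,0,1,0,2,0,2,0,2,0,1,0,1,0,1,0,1,0,1,0,1,0,2,0,1,0,1,0,2,0,2,0,1,0,2,0,2,0,1,0]),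
  (0,3,0,[]),
  (0,2,0,[]),
  (2,6,3,[0,2,0,2,0,2,0,2,0,2,0,1,0,1,0,1,0,2,0,2,0,1,0,1,0,1,0,1,0,1,0,1,0,2,0,1,0,2,0,1,0,1,0,1,0,2,0,1,0,1,0,2,0,1,0,2,0,2,0,2,0,1,0,1,0,1,0,2,0,1,0,1,0,1,0,1,0,1,0,2,0,1,0,1,0,2,0,1,0,2,0,2,0,2,0,1,0,1,0,1,0,2,0,1,0,1,0,1,0,1,0,1,0,2,0,1,0,1,0,2,0,1,0,2,0,2,0,2,0,1,0,1,0,1,0,1,0,1,0,1]),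
  (0,9,0,[]),
  (0,8,0,[]),
  (2,5,3,[0,2,0,2,0,2,0,2,0,2,0,1,0,1,0,1,0,2,0,2,0,2,0,2,0,2,0,2,0,1,0,1,0,1,0,2,0,1,0,1,0,1,0,1,0,1,0,2,0,1,0,2,0,1,0,1,0,1,0,2,0,1,0,2,0,1,0,1,0,1,0,2,0,1,0,1,0,2,0,1,0,2,0,2,0,2,0,1,0,1,0,1,0,2,0,1,0,1,0,1,0,1,0,1,0,2,0,1,0,1,0,2,0,1,0,2,0,2,0,2,0,1,0,1,0,1,0,2,0,1,0,1,0,1,0,1,0,1,0,2,0,1,0,2,0,1,0,1,0,1,0,2,0,1,0,2,0,1,0,1,0,1,0,2,0,1,0,1,0,2,0,2,0,1,0,1]),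
  (0,8,0,[]),
  (0,7,0,[]),
  (2,4,3,[0,2,0,2,0,2,0,2,0,2,0,1,0,1,0,1,0,2,0,2,0,1,0,1,0,1,0,1,0,1,0,1,0,2,0,1,0,2,0,1,0,1,0,1,0,2,0,1,0,2,0,1,0,1,0,1,0,2,0,1,0,2,0,1,0,1,0,1,0,2,0,1,0,2,0,1,0,1,0,1,0,2,0,1,0,1,0,2,0,1,0,2,0,2,0,2,0,1,0,1,0,1,0,2,0,1,0,1,0,1,0,1,0,1,0,2,0,1,0,1,0,2,0,1,0,2,0,2,0,2,0,1,0,1,0,1,0,2,0,1,0,1,0,1,0,1,0,1,0,2,0,1,0,1,0,2,0,1,0,2,0,2,0,2,0,1,0,1,0,1,0,2,0,1,0,1,0,1,0,1,0,1,0,2,0,1,0,1,0,2,0,1,0,2,0,2,0,2,0,1,0,1,0,1,0,2,0,1,0,1,0,1,0,1,0,1,0,2,0,1,0,1,0,2,0,2,0,1,0,1]),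
  (0,7,0,[]),
  (0,6,0,[]),
  (0,3,0,[]),
  (2,5,2,[0,1,0,1,0,1,0,1,0,1,0,1,0,1,0,2,0,1,0,2,0,1,0,1,0,1,0,2,0,1,0,2,0,1,0,1,0,1,0,2,0,1,0,1,0,2,0,1,0,2,0,2,0,2,0,1,0,1,0,1,0,2,0,1,0,1,0,1,0,1,0,1,0,2,0,1,0,1,0,2,0,1]),
  (0,8,0,[]),
  (0,7,0,[]),
  (0,4,0,[]),
  (2,5,4,[2,0,1,0,1,0,2,0,1,0,1,0,1,0,2,0,2,0,1,0,1,0,1,0,1,0,1,0,2,0,1,0,2,0,1,0,1,0,1,0,2,0,1,0,2,0,1,0,1,0,1,0,2,0,1,0,2,0,1,0,1,0,1,0,2,0,1,0,1,0,2,0,1,0,2,0,2,0,2,0,1,0,1,0,1,0,2,0,1,0,1,0,1,0,1,0,1,0,2,0,1,0,2,0,1,0,1,0,1,0,2,0,1,0,1,0,2,0,1,0,2,0,2,0,2,0,1,0,1,0,1,0,1,0,1,0,1,0,2,0,1,0,1,0,2,0,2,0,1,0,2,0,2,0,1,0]),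
  (2,4,3,[0,2,0,2,0,2,0,2,0,2,0,1,0,1,0,1,0,2,0,2,0,2,0,2,0,2,0,2,0,1,0,1,0,1,0,2,0,1,0,1,0,1,0,1,0,1,0,2,0,1,0,2,0,1,0,1,0,1,0,2,0,1,0,1,0,2,0,1,0,2,0,2,0,2,0,1,0,1,0,1,0,2,0,1,0,1,0,1,0,1,0,1,0,2,0,1,0,1,0,2,0,1,0,2,0,2,0,2,0,1,0,1,0,1,0,2,0,1,0,1,0,1,0,1,0,1,0,2,0,1,0,2,0,1,0,1,0,1,0,2,0,1,0,2,0,1,0,1,0,1,0,2,0,1,0,2,0,1,0,1,0,1,0,2,0,1,0,1,0,2,0,1,0,2,0,2,0,2,0,1,0,1,0,1,0,1,0,1,0,1,0,2,0,1,0,1,0,2,0,2,0,1,0,2,0,2,0,1,0]),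
  (0,7,0,[]),
  (0,6,0,[]),
  (2,3,3,[0,2,0,2,0,2,0,2,0,2,0,1,0,1,0,1,0,2,0,2,0,1,0,1,0,1,0,1,0,1,0,1,0,2,0,1,0,1,0,2,0,2,0,1,0,1,0,2,0,1,0,1,0,2,0,2,0,1,0,2,0,2,0,1,0]),
  (0,6,0,[]),
  (0,5,0,[]),
  (2,2,3,[0,2,0,2,0,2,0,2,0,2,0,1,0,1,0,1,0,2,0,2,0,2,0,2,0,2,0,2,0,1,0,1,0,1,0,2,0,1,0,1,0,1,0,1,0,1,0,2,0,1,0,2,0,1,0,1,0,1,0,2,0,1,0,2,0,1,0,1,0,1,0,2,0,1,0,2,0,1,0,1,0,1,0,2,0,1,0,2,0,1,0,1,0,1,0,2,0,1,0,1,0,2,0,1,0,2,0,2,0,2,0,1,0,1,0,1,0,2,0,1,0,1,0,1,0,1,0,1,0,2,0,1,0,2,0,1,0,1,0,1,0,2,0,1,0,2,0,1,0,1,0,1,0,2,0,1,0,1,0,2,0,1,0,2,0,2,0,2,0,1,0,1,0,1,0,1,0,1,0,1,0,2,0,1,0,1,0,2,0,2,0,1,0,2,0,2,0,1,0]),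
  (0,5,0,[]),
  (0,4,0,[]),
  (2,1,3,[0,2,0,2,0,2,0,2,0,2,0,1,0,1,0,1,0,2,0,2,0,1,0,1,0,1,0,1,0,1,0,1,0,2,0,1,0,2,0,1,0,1,0,1,0,2,0,1,0,2,0,1,0,1,0,1,0,2,0,1,0,2,0,1,0,1,0,1,0,2,0,1,0,2,0,1,0,1,0,1,0,2,0,1,0,2,0,1,0,1,0,1,0,2,0,1,0,2,0,1,0,1,0,1,0,2,0,1,0,1,0,2,0,1,0,2,0,2,0,2,0,1,0,1,0,1,0,2,0,1,0,1,0,1,0,1,0,1,0,2,0,1,0,2,0,1,0,1,0,1,0,2,0,1,0,1,0,2,0,1,0,2,0,2,0,2,0,1,0,1,0,1,0,1,0,1,0,1,0,2,0,1,0,1,0,2,0,2,0,1,0,2,0,2,0,1,0]),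
  (0,4,0,[]),
  (0,3,0,[]),
  (0,0,0,[]),
  (2,3,3,[0,2,0,2,0,2,0,2,0,2,0,1,0,1,0,1,0,2,0,2,0,2,0,2,0,2,0,2,0,1,0,1,0,1,0,2,0,1,0,1,0,1,0,1,0,1,0,2,0,1,0,2,0,1,0,1,0,1,0,2,0,1,0,1,0,2,0,1,0,2,0,2,0,2,0,1,0,1,0,1,0,2,0,1,0,1,0,1,0,1,0,1,0,2,0,1,0,1,0,2,0,1,0,2,0,2,0,2,0,1,0,1,0,1,0,2,0,1,0,1,0,1,0,1,0,1,0,2,0,1,0,2,0,1,0,1,0,1,0,2,0,1,0,2,0,1,0,1,0,1,0,2,0,1,0,2,0,1,0,1,0,1,0,2,0,1,0,2,0,1,0,1,0,1,0,2,0,1,0,2,0,1,0,1,0,1,0,2,0,1,0,1,0,2,0,1,0,2,0,2,0,2,0,1,0,1,0,1,0,2,0,1,0,1,0,1,0,1,0,1,0,2,0,1,0,1,0,2,0,1,0,2,0,2,0,2,0,1,0,1,0,1,0,1,0,1,0,1,0,1,0,1,0,1,0,2,0,2,0,1,0,1,0,1]),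
  (0,6,0,[]),
  (0,5,0,[]),
  (2,2,3,[0,2,0,2,0,2,0,2,0,2,0,1,0,1,0,1,0,2,0,2,0,2,0,2,0,2,0,2,0,1,0,1,0,1,0,2,0,1,0,1,0,1,0,1,0,1,0,2,0,1,0,2,0,1,0,1,0,1,0,2,0,1,0,1,0,2,0,1,0,2,0,2,0,2,0,1,0,1,0,1,0,2,0,1,0,1,0,1,0,1,0,1,0,2,0,1,0,1,0,2,0,1,0,2,0,2,0,2,0,1,0,1,0,1,0,2,0,1,0,1,0,1,0,1,0,1,0,2,0,1,0,2,0,1,0,1,0,1,0,2,0,1,0,2,0,1,0,1,0,1,0,2,0,1,0,2,0,1,0,1,0,1,0,2,0,1,0,2,0,1,0,1,0,1,0,2,0,1,0,1,0,2,0,1,0,2,0,2,0,2,0,1,0,1,0,1,0,2,0,1,0,1,0,1,0,1,0,1,0,2,0,1,0,1,0,2,0,2,0,1,0,1,0,1,0,1,0,1,0,2,0,2,0,1,0,1,0,1]),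
  (0,5,0,[]),
  (0,4,0,[]),
  (2,4,2,[0,1,0,1,0,1,0,1,0,1,0,1,0,1,0,2,0,1,0,1,0,2,0,1,0,2,0,2,0,2,0,1,0,1,0,1,0,2,0,1,0,1,0,1,0,1,0,1,0,2,0,1,0,2,0,1,0,1,0,1,0,2,0,1,0,1,0,2,0,1,0,2,0,2,0,2,0,1,0,1,0,1,0,2,0,1,0,1,0,1,0,1,0,1,0,2,0,1,0,2,0,1,0,1,0,1,0,2,0,1,0,1,0,2,0,1,0,2,0,2,0,2,0,1,0,1,0,1,0,2,0,1,0,1,0,1,0,1,0,1,0,2,0,1,0,1,0,2,0,2,0,1,0]),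
  (0,7,0,[]),
  (0,6,0,[]),
  (0,3,0,[]),
  (2,4,4,[2,0,1,0,1,0,2,0,1,0,1,0,1,0,2,0,2,0,1,0,1,0,1,0,1,0,1,0,2,0,1,0,2,0,1,0,1,0,1,0,2,0,1,0,2,0,1,0,1,0,1,0,2,0,1,0,2,0,1,0,1,0,1,0,2,0,1,0,2,0,1,0,1,0,1,0,2,0,1,0,1,0,2,0,1,0,2,0,2,0,2,0,1,0,1,0,1,0,2,0,1,0,1,0,1,0,1,0,1,0,2,0,1,0,2,0,1,0,1,0,1,0,2,0,1,0,2,0,1,0,1,0,1,0,2,0,1,0,2,0,1,0,1,0,1,0,2,0,1,0,1,0,2,0,1,0,2,0,2,0,2,0,1,0,1,0,1,0,2,0,1,0,1,0,1,0,1,0,1,0,2,0,1,0,2,0,1,0,1,0,1,0,2,0,1,0,1,0,2,0,1,0,2,0,2,0,2,0,1,0,1,0,1,0,1]),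
  (2,3,3,[0,2,0,2,0,2,0,2,0,2,0,1,0,1,0,1,0,2,0,2,0,1,0,1,0,1,0,1,0,1,0,1,0,2,0,1,0,1,0,2,0,1,0,2,0,2,0,2,0,1,0,1,0,1,0,2,0,1,0,1,0,1,0,1,0,1,0,2,0,1,0,1,0,2,0,1,0,2,0,2,0,2,0,1,0,1,0,1,0,2,0,1,0,1,0,1,0,1,0,1,0,2,0,1,0,2,0,1,0,1,0,1,0,2,0,1,0,2,0,1,0,1,0,1,0,2,0,1,0,2,0,1,0,1,0,1,0,2,0,1,0,2,0,1,0,1,0,1,0,2,0,1,0,1,0,2,0,1,0,2,0,2,0,2,0,1,0,1,0,1,0,2,0,1,0,1,0,1,0,1,0,1,0,2,0,1,0,2,0,1,0,1,0,1,0,2,0,1,0,2,0,1,0,1,0,1,0,2,0,1,0,1,0,2,0,2]),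
  (0,6,0,[]),
  (0,5,0,[]),
  (2,2,3,[0,2,0,2,0,2,0,2,0,2,0,1,0,1,0,1,0,2,0,2,0,1,0,1,0,1,0,1,0,1,0,1,0,2,0,1,0,2,0,1,0,1,0,1,0,2,0,1,0,1,0,2,0,1,0,2,0,2,0,2,0,1,0,1,0,1,0,2,0,1,0,1,0,1,0,1,0,1,0,2,0,1,0,1,0,2,0,1,0,2,0,2,0,2,0,1,0,1,0,1,0,2,0,1,0,1,0,1,0,1,0,1,0,2,0,1,0,2,0,1,0,1,0,1,0,2,0,1,0,2,0,1,0,1,0,1,0,2,0,1,0,2,0,1,0,1,0,1,0,2,0,1,0,2,0,1,0,1,0,1,0,2,0,1,0,2,0,1,0,1,0,1,0,2,0,1,0,1,0,2,0,1,0,2,0,2,0,2,0,1,0,1,0,1,0,2,0,1,0,1,0,1,0,1,0,1,0,2,0,1,0,1,0,2,0,2]),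
  (0,5,0,[]),
  (0,4,0,[]),
  (2,1,3,[0,2,0,2,0,2,0,2,0,2,0,1,0,1,0,1,0,2,0,2,0,1,0,1,0,1,0,1,0,1,0,1,0,2,0,1,0,2,0,1,0,1,0,1,0,2,0,1,0,1,0,2,0,1,0,2,0,2,0,2,0,1,0,1,0,1,0,2,0,1,0,1,0,1,0,1,0,1,0,2,0,1,0,1,0,2,0,1,0,2,0,2,0,2,0,1,0,1,0,1,0,2,0,1,0,1,0,1,0,1,0,1,0,2,0,1,0,1,0,2,0,1,0,2,0,2,0,2,0,1,0,1,0,1,0,1]),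
  (0,4,0,[]),
  (0,3,0,[]),
  (0,0,0,[]),
  (2,2,3,[0,2,0,2,0,2,0,2,0,2,0,1,0,1,0,1,0,2,0,2,0,1,0,1,0,1,0,1,0,1,0,1,0,2,0,1,0,1,0,2,0,1,0,2,0,2,0,2,0,1,0,1,0,1,0,2,0,1,0,1,0,1,0,1,0,1,0,2,0,1,0,2,0,1,0,1,0,1,0,2,0,1,0,2,0,1,0,1,0,1,0,2,0,1,0,2,0,1,0,1,0,1,0,2,0,1,0,2,0,1,0,1,0,1,0,2,0,1,0,2,0,1,0,1,0,1,0,2,0,1,0,1,0,2,0,1,0,2,0,2,0,2,0,1,0,1,0,1,0,2,0,1,0,1,0,1,0,1,0,1,0,2,0,1,0,2,0,1,0,1,0,1,0,2,0,1,0,2,0,1,0,1,0,1,0,2,0,1,0,1,0,2,0,1,0,2,0,2,0,2,0,1,0,1,0,1,0,1,0,2]),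
  (0,5,0,[]),
  (0,4,0,[]),
  (2,1,3,[0,2,0,2,0,2,0,2,0,2,0,1,0,1,0,1,0,2,0,2,0,2,0,2,0,2,0,2,0,1,0,1,0,1,0,2,0,1,0,1,0,1,0,1,0,1,0,2,0,1,0,1,0,2,0,1,0,2,0,2,0,2,0,1,0,1,0,1,0,2,0,1,0,1,0,1,0,1,0,1,0,2,0,1,0,2,0,1,0,1,0,1,0,2,0,1,0,2,0,1,0,1,0,1,0,2,0,1,0,1,0,2,0,1,0,2,0,2,0,2,0,1,0,1,0,1,0,2,0,1,0,1,0,1,0,1,0,1,0,2,0,1,0,1,0,2,0,1,0,2,0,2,0,2,0,1,0,1,0,1,0,2,0,1,0,1,0,1,0,1,0,1,0,2,0,1,0,1,0,2,0,2,0,2]),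
  (0,4,0,[]),
  (0,3,0,[]),
  (0,0,0,[]),
  (2,1,3,[0,2,0,2,0,2,0,2,0,2,0,1,0,1,0,1,0,2,0,2,0,1,0,1,0,1,0,1,0,1,0,1,0,2,0,1,0,2,0,1,0,1,0,1,0,2,0,1,0,2,0,1,0,1,0,1,0,2,0,1,0,2,0,1,0,1,0,1,0,2,0,1,0,1,0,2,0,1,0,2,0,2,0,2,0,1,0,1,0,1,0,2,0,1,0,1,0,1,0,1,0,1,0,2,0,1,0,1,0,2,0,1,0,2,0,2,0,2,0,1,0,1,0,1,0,2,0,1,0,1,0,1,0,1,0,1,0,2,0,1,0,1,0,2,0,1,0,2,0,2,0,2,0,1,0,1,0,1,0,2,0,1,0,1,0,1,0,1,0,1,0,2,0,1,0,2,0,1,0,1,0,1,0,2,0,1,0,2,0,1,0,1,0,1,0,2,0,1,0,2,0,1,0,1,0,1,0,2,0,1,0,1,0,2,0,1,0,2,0,2,0,2,0,1,0,1,0,1,0,2,0,1,0,2,0,2,0,2,0,2,0,1]),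
  (0,4,0,[]),
  (0,3,0,[]),
  (2,3,4,[2,0,1,0,1,0,2,0,1,0,1,0,1,0,2,0,2,0,1,0,1,0,1,0,1,0,1,0,2,0,1,0,1,0,2,0,1,0,2,0,2,0,2,0,1,0,1,0,1,0,2,0,1,0,1,0,1,0,1,0,1,0,2,0,1,0,2,0,1,0,1,0,1,0,2,0,1,0,1,0,2,0,1,0,2,0,2,0,2,0,1,0,1,0,1,0,2,0,1,0,1,0,1,0,1,0,1,0,2,0,1,0,1,0,2,0,1,0,2,0,2,0,2,0,1,0,1,0,1,0,2,0,1,0,1,0,1,0,1,0,1,0,2,0,1,0,2,0,1,0,1,0,1,0,2,0,1,0,1,0,2,0,1,0,2,0,2,0,2,0,1,0,1,0,1,0,2,0,1,0,1,0,1,0,1,0,1,0,2,0,1,0,1,0,2,0,1,0,2,0,2,0,2,0,1,0,1,0,1,0,2,0,1,0,1,0,1,0,1,0,1,0,2,0,1,0,2,0,1,0,1,0,1,0,2,0,1,0,2,0,1,0,1,0,1,0,2,0,1,0,1,0,2,0,2,0,1,0,1,0,1,0,1,0,1,0,2,0,2,0,1,0,1,0,1]),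
  (2,2,3,[0,2,0,2,0,2,0,2,0,2,0,1,0,1,0,1,0,2,0,2,0,2,0,2,0,2,0,2,0,1,0,1,0,1,0,2,0,1,0,1,0,1,0,1,0,1,0,2,0,1,0,2,0,1,0,1,0,1,0,2,0,1,0,1,0,2,0,1,0,2,0,2,0,2,0,1,0,1,0,1,0,2,0,1,0,1,0,1,0,1,0,1,0,2,0,1,0,1,0,2,0,1,0,2,0,2,0,2,0,1,0,1,0,1,0,2,0,1,0,1,0,1,0,1,0,1,0,2,0,1,0,2,0,1,0,1,0,1,0,2,0,1,0,2,0,1,0,1,0,1,0,2,0,1,0,2,0,1,0,1,0,1,0,2,0,1,0,2,0,1,0,1,0,1,0,2,0,1,0,2,0,1,0,1,0,1,0,2,0,1,0,1,0,2,0,1,0,2,0,2,0,2,0,1,0,1,0,1,0,2,0,1,0,1,0,1,0,1,0,1,0,2,0,1,0,1,0,2,0,1,0,2,0,2,0,2,0,1,0,1,0,1,0,1,0,1,0,1,0,1,0,1,0,1,0,2,0,2,0,1,0,1,0,1]),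
  (0,5,0,[]),
  (0,4,0,[]),
  (2,1,3,[0,2,0,2,0,2,0,2,0,2,0,1,0,1,0,1,0,2,0,2,0,2,0,2,0,2,0,2,0,1,0,1,0,1,0,2,0,1,0,1,0,1,0,1,0,1,0,2,0,1,0,2,0,1,0,1,0,1,0,2,0,1,0,1,0,2,0,1,0,2,0,2,0,2,0,1,0,1,0,1,0,2,0,1,0,1,0,1,0,1,0,1,0,2,0,1,0,1,0,2,0,1,0,2,0,2,0,2,0,1,0,1,0,1,0,2,0,1,0,1,0,1,0,1,0,1,0,2,0,1,0,1,0,2,0,1,0,2,0,2,0,2,0,1,0,1,0,1,0,2,0,1,0,1,0,1,0,1,0,1,0,2,0,1,0,2,0,1,0,1,0,1,0,2,0,1,0,2,0,1,0,1,0,1,0,2,0,1,0,1,0,2,0,1,0,2,0,2,0,2,0,1,0,1,0,1,0,2,0,1,0,1,0,1,0,1,0,1,0,2,0,1,0,2,0,1,0,1,0,1,0,2,0,1,0,1,0,2,0,2,0,1,0,1,0,1,0,1,0,1,0,2,0,2,0,1,0,1,0,1]),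
  (0,4,0,[]),
  (0,3,0,[]),
  (0,0,0,[]),
  (2,1,3,[0,2,0,2,0,2,0,2,0,2,0,1,0,1,0,1,0,2,0,2,0,1,0,1,0,1,0,1,0,1,0,1,0,2,0,1,0,2,0,1,0,1,0,1,0,2,0,1,0,2,0,1,0,1,0,1,0,2,0,1,0,2,0,1,0,1,0,1,0,2,0,1,0,1,0,2,0,1,0,2,0,2,0,2,0,1,0,1,0,1,0,2,0,1,0,1,0,1,0,1,0,1,0,2,0,1,0,1,0,2,0,1,0,2,0,2,0,2,0,1,0,1,0,1,0,2,0,1,0,1,0,1,0,1,0,1,0,2,0,1,0,1,0,2,0,1,0,2,0,2,0,2,0,1,0,1,0,1,0,2,0,1,0,1,0,1,0,1,0,1,0,2,0,1,0,2,0,1,0,1,0,1,0,2,0,1,0,2,0,1,0,1,0,1,0,2,0,1,0,2,0,1,0,1,0,1,0,2,0,1,0,1,0,2,0,1,0,2,0,2,0,2,0,1,0,1,0,1,0,2,0,1,0,2,0,2,0,2,0,2,0,1]),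
  (0,4,0,[]),
  (0,3,0,[]),
  (0,0,0,[]),
  (0,0,0,[])],
[
  (1,1,0,[0,1,0,2]),
  (0,0,0,[])],
[
  (1,1,0,[0,1,0]),
  (0,0,0,[])],
[
  (1,1,0,[0,1,0,1,0]),
  (1,2,0,[0,2]),
  (1,3,0,[0,1]),
  (2,0,3,[0,2,0,2,0,2,0,2,0,2,0,1,0,1,0,1,0,2,0,2,0,1,0,1,0,1,0,1,0,1,0,1,0,2,0,1,0,2,0,1,0,1,0,1,0,2,0,1,0,2,0,1,0,1,0,1,0,2,0,1,0,1,0,2,0,1,0,2,0,2,0,2,0,1,0,1,0,1,0,2,0,1,0,1,0,1,0,1,0,1,0,2,0,1,0,1,0,2,0,1,0,2,0,2,0,2,0,1,0,1,0,1,0,2,0,1,0,1,0,1,0,1,0,1,0,2,0,1,0,2,0,1,0,1,0,1,0,2,0,1,0,1,0,2,0,1,0,2,0,2,0,2,0,1,0,1,0,1,0,2,0,1,0,1,0,1,0,1,0,1,0,2,0,1,0,2,0,1,0,1,0,1,0,2,0,1,0,2,0,1,0,1,0,1,0,2,0,1,0,1,0,2]),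
  (0,3,0,[]),
  (0,2,0,[]),
  (2,4,4,[2,0,1,0,1,0,2,0,1,0,1,0,1,0,2,0,2,0]),
  (2,3,3,[0,2,0,2,0,2,0,2,0,2,0,1,0,1,0,1,0,2,0,2,0,2,0,2,0,2,0,2,0,1,0,1,0,1,0,2,0,1,0,1,0,1,0,1,0,1,0,2,0,1,0,2,0,1,0,1,0,1,0,2,0,1,0,2,0,1,0,1,0,1,0,2,0,1,0,2,0,1,0,1,0,1,0,2,0,1,0,2,0,1,0,1,0,1,0,2,0,1,0,1,0,2,0,1,0,2,0,2,0,2,0,1,0,1,0,1,0,2,0,1,0,1,0,1,0,1,0,1,0,2,0,1,0,2,0,1,0,1,0,1,0,2,0,1,0,2,0,1,0,1,0,1,0,2,0,1,0,1,0,2]),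
  (0,6,0,[]),
  (0,5,0,[]),
  (2,2,3,[0,2,0,2,0,2,0,2,0,2,0,1,0,1,0,1,0,2,0,2,0,1,0,1,0,1,0,1,0,1,0,1,0,2,0,1,0,1,0,2,0,1,0,2,0,2,0,2,0,1,0,1,0,1,0,2,0,1,0,1,0,1,0,1,0,1,0,2,0,1,0,2,0,1,0,1,0,1,0,2,0,1,0,2,0,1,0,1,0,1,0,2,0,1,0,2,0,1,0,1,0,1,0,2,0,1,0,1,0,2,0,1,0,2,0,2,0,2,0,1,0,1,0,1,0,2,0,1,0,1,0,1,0,1,0,1,0,2,0,1,0,2,0,1,0,1,0,1,0,2,0,1,0,2,0,1,0,1,0,1,0,2,0,1,0,2,0,1,0,1,0,1,0,2,0,1,0,2,0,1,0,1,0,1,0,2,0,1,0,1,0,2,0,1,0,2,0,2,0,2,0,1,0,1,0,1,0,2,0]),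
  (0,5,0,[]),
  (0,4,0,[]),
  (2,1,3,[0,2,0,2,0,2,0,2,0,2,0,1,0,1,0,1,0,2,0,2,0,1,0,1,0,1,0,1,0,1,0,1,0,2,0,1,0,2,0,1,0,1,0,1,0,2,0,1,0,2,0,1,0,1,0,1,0,2,0,1,0,1,0,2,0,1,0,2,0,2,0,2,0,1,0,1,0,1,0,2,0,1,0,1,0,1,0,1,0,1,0,2,0,1,0,1,0,2,0,1,0,2,0,2,0,2,0,1,0,1,0,1,0,2,0,1,0,1,0,1,0,1,0,1,0,2,0,1,0,2,0,1,0,1,0,1,0,2,0,1,0,1,0,2,0,1,0,2,0,2,0,2,0,1,0,1,0,1,0,2,0,1,0,1,0,1,0,1,0,1,0,2,0,1,0,2,0,1,0,1,0,1,0,2,0,1,0,2,0,1,0,1,0,1,0,2,0,1,0,1,0,2]),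
  (0,4,0,[]),
  (0,3,0,[]),
  (0,0,0,[]),
  (2,2,3,[0,2,0,2,0,2,0,2,0,2,0,1,0,1,0,1,0,2,0,2,0,1,0,1,0,1,0,1,0,1,0,1,0,2,0,1,0,1,0,2,0,1,0,2,0,2,0,2,0,1,0,1,0,1,0,2,0,1,0,1,0,1,0,1,0,1,0,2,0,1,0,2,0,1,0,1,0,1,0,2,0,1,0,1,0,2,0,1,0,2,0,2,0,2,0,1,0,1,0,1,0,2,0,1,0,1,0,1,0,1,0,1,0,2,0,1,0,1,0,2,0,1,0,2,0,2,0,2,0,1,0,1,0,1,0,2,0,1,0,1,0,1,0,1,0,1,0,2,0,1,0,1,0,2,0,1,0,2,0,2,0,2,0,1,0,1,0,1,0,2,0,1,0,1,0,1,0,1,0,1,0,2,0,1,0,2,0,1,0,1,0,1,0,2,0,1,0,2,0,1,0,1,0,1,0,2,0,1,0,2,0,1,0,1,0,1,0,2,0,1,0,1,0]),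
  (0,5,0,[]),
  (0,4,0,[]),
  (2,1,3,[0,2,0,2,0,2,0,2,0,2,0,1,0,1,0,1,0,2,0,2,0,2,0,2,0,2,0,2,0,1,0,1,0,1,0,2,0,1,0,1,0,1,0,1,0,1,0,2,0,1,0,2,0,1,0,1,0,1,0,2,0,1,0,2,0,1,0,1,0,1,0,2,0,1,0,2,0,1,0,1,0,1,0,2,0,1,0,2,0,1,0,1,0,1,0,2,0,1,0,1,0,2,0,1,0,2,0,2,0,2,0,1,0,1,0,1,0,2,0,1,0,1,0,1,0,1,0,1,0,2,0,1,0,2,0,1,0,1,0,1,0,2,0,1,0,2,0,1,0,1,0,1,0,2,0,1,0,1,0]),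
  (0,4,0,[]),
  (0,3,0,[]),
  (0,0,0,[]),
  (2,1,3,[0,2,0,2,0,2,0,2,0,2,0,1,0,1,0,1,0,2,0,2,0,1,0,1,0,1,0,1,0,1,0,1,0,2,0,1,0,2,0,1,0,1,0,1,0,2,0,1,0,2,0,1,0,1,0,1,0,2,0,1,0,2,0,1,0,1,0,1,0,2,0,1,0,2,0,1,0,1,0,1,0,2,0,1,0,2,0,1,0,1,0,1,0,2,0,1,0,1,0,2,0,2,0,1,0,2,0,1,0,1,0,2,0,2,0,2,0,1,0,1,0,1,0,1,0,2,0]),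
  (0,4,0,[]),
  (0,3,0,[]),
  (2,0,3,[0,2,0,2,0,2,0,2,0,2,0,1,0,1,0,1,0,2,0,2,0,1,0,1,0,1,0,1,0,1,0,1,0,2,0,1,0,2,0,1,0,1,0,1,0,2,0,1,0,2,0,1,0,1,0,1,0,2,0,1,0,2,0,1,0,1,0,1,0,2,0,1,0,1,0,2,0,1,0,2,0,2,0,2,0,1,0,1,0,1,0,2,0,1,0,1,0,1,0,1,0,1,0,2,0,1,0,2,0,1,0,1,0,1,0,2,0,1,0,1,0,2,0,1,0,2,0,2,0,2,0,1,0,1,0,1,0,2,0,1,0,1,0,1,0,1,0,1,0,2,0,1,0,1,0,2,0,2,0,1,0,2,0,1,0,1,0,2,0,2,0,2,0,1,0,1,0,1,0,1,0,2,0]),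
  (0,3,0,[]),
  (0,2,0,[]),
  (2,3,4,[2,0,1,0,1,0,2,0,1,0,1,0,1,0,2,0,2,0,1,0,1,0,1,0,1,0,1,0,2,0,1,0,1,0,2,0,1,0,2,0,2,0,2,0,1,0,1,0,1,0,2,0,1,0,1,0,1,0,1,0,1,0,2,0,1,0,2,0,1,0,1,0,1,0,2,0,1,0,2,0,1,0,1,0,1,0,2,0,1,0,2,0,1,0,1,0,1,0,2,0,1,0,2,0,1,0,1,0,1,0,2,0,1,0,1,0,2,0,1,0,2,0,2,0,2,0,1,0,1,0,1,0,2,0,1,0,1,0,1,0,1,0,1,0,2,0,1,0,2,0,1,0,1,0,1,0,2,0,1,0,1,0,2,0,1,0,2,0,2,0,2,0,1,0,1,0,1,0,1,0,1,0,2,0,1,0,1,0,2,0,2,0,2,0,1,0,1,0,1,0,1,0,2,0]),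
  (2,2,3,[0,2,0,2,0,2,0,2,0,2,0,1,0,1,0,1,0,2,0,2,0,1,0,1,0,1,0,1,0,1,0,1,0,2,0,1,0,2,0,1,0,1,0,1,0,2,0,1,0,2,0,1,0,1,0,1,0,2,0,1,0,2,0,1,0,1,0,1,0,2,0,1,0,2,0,1,0,1,0,1,0,2,0,1,0,2,0,1,0,1,0,1,0,2,0,1,0,1,0,2,0,2,0,1,0,2,0,1,0,1,0,2,0,2,0,2,0,1,0,1,0,1,0,1,0,2,0]),
  (0,5,0,[]),
  (0,4,0,[]),
  (2,1,3,[0,2,0,2,0,2,0,2,0,2,0,1,0,1,0,1,0,2,0,2,0,1,0,1,0,1,0,1,0,1,0,1,0,2,0,1,0,2,0,1,0,1,0,1,0,2,0,1,0,2,0,1,0,1,0,1,0,2,0,1,0,2,0,1,0,1,0,1,0,2,0,1,0,1,0,2,0,1,0,2,0,2,0,2,0,1,0,1,0,1,0,2,0,1,0,1,0,1,0,1,0,1,0,2,0,1,0,2,0,1,0,1,0,1,0,2,0,1,0,1,0,2,0,1,0,2,0,2,0,2,0,1,0,1,0,1,0,2,0,1,0,1,0,1,0,1,0,1,0,2,0,1,0,1,0,2,0,2,0,1,0,2,0,1,0,1,0,2,0,2,0,2,0,1,0,1,0,1,0,1,0,2,0]),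
  (0,4,0,[]),
  (0,3,0,[]),
  (0,0,0,[]),
  (2,1,3,[0,2,0,2,0,2,0,2,0,2,0,1,0,1,0,1,0,2,0,2,0,1,0,1,0,1,0,1,0,1,0,1,0,2,0,1,0,1,0,2,0,1,0,2,0,2,0,2,0,1,0,1,0,1,0,2,0,1,0,1,0,1,0,1,0,1,0,2,0,1,0,2,0,1,0,1,0,1,0,2,0,1,0,1,0,2,0,1,0,2,0,2,0,2,0,1,0,1,0,1,0,2,0,1,0,1,0,1,0,1,0,1,0,2,0,1,0,1,0,2,0,1,0,2,0,2,0,2,0,1,0,1,0,1,0,2,0,1,0,1,0,1,0,1,0,1,0,2,0,1,0,1,0,2,0,1,0,2,0,2,0,2,0,1,0,1,0,1,0,2,0,1,0,1,0,1,0,1,0,1,0,2,0,1,0,2,0,1,0,1,0,1,0,2,0,1,0,2,0,1,0,1,0,1,0,2,0,1,0,2,0,1,0,1,0,1,0,2,0,1,0,1,0,2,0,2,0,1]),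
  (0,4,0,[]),
  (0,3,0,[]),
  (0,0,0,[]),
  (0,0,0,[])],
[
  (1,1,0,[0,1,0,2,0,1]),
  (0,0,0,[])],
[
  (1,1,0,[0,1,0,2,0,1]),
  (1,2,0,[0,1,0,2,0]),
  (1,3,0,[0,1,0,2]),
  (1,4,0,[0,2,0]),
  (1,5,0,[0,2]),
  (1,6,0,[0,1]),
  (2,1,3,[0,2,0,2,0,2,0,2,0,2,0,1,0,1,0,1,0,2,0,2,0,2,0,2,0,2,0,2,0,1,0,1,0,1,0,2,0,1,0,1,0,1,0,1,0,1,0,2,0,1,0,2,0,1,0,1,0,1,0,2,0,1,0,2,0,1,0,1,0,1,0,2,0,1,0,1,0,2,0,1,0,2,0,2,0,2,0,1,0,1,0,1,0,2,0,1,0,1,0,1,0,1,0,1,0,2,0,1,0,2,0,1,0,1,0,1,0,2,0,1,0,2,0,1,0,1,0,1,0,2,0,1,0,2,0,1,0,1,0,1,0,2,0,1,0,2,0,1,0,1,0,1,0,2,0,1,0,2,0,1,0,1,0,1,0,2,0,1,0,2,0,1,0,1,0,1,0,2,0,1,0,1,0,2,0,1,0,2,0,2,0,2,0,1,0,1,0,1,0,2,0,1,0,1,0,1,0,1,0,1,0,2,0,1,0,2,0,1,0,1,0,1,0,2,0,1,0,1,0,2,0,1,0]),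
  (0,4,0,[]),
  (0,3,0,[]),
  (2,0,3,[0,2,0,2,0,2,0,2,0,2,0,1,0,1,0,1,0,2,0,2,0,1,0,1,0,1,0,1,0,1,0,1,0,2,0,1,0,2,0,1,0,1,0,1,0,2,0,1,0,1,0,2,0,1,0,2,0,2,0,2,0,1,0,1,0,1,0,2,0,1,0,1,0,1,0,1,0,1,0,2,0,1,0,2,0,1,0,1,0,1,0,2,0,1,0,1,0,2,0,1,0,2,0,2,0,2,0,1,0,1,0,1,0,2,0,1,0,1,0,1,0,1,0,1,0,2,0,1,0,1,0,2,0,1,0,2,0,2,0,2,0,1,0,1,0,1,0,2,0,1,0,1,0,1,0,1,0,1,0,2,0,1,0,1,0,2,0,1,0,2,0,2,0,2,0,1,0,1,0,1,0,2,0,1,0,1,0,1,0,1,0,1,0,2,0,1,0,1,0,2,0,1,0]),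
  (0,3,0,[]),
  (0,2,0,[]),
  (2,3,2,[0,1,0,1,0,1,0,1,0,1,0,1,0,1,0,2,0,1,0,2,0,1,0,1,0,1,0,2,0,1,0,2,0,1,0,1,0,1,0,2,0,1,0,1,0,2,0,1,0,2,0,2,0,2,0,1,0,1,0,1,0,2,0,1,0,1,0,1,0,1,0,1,0,2,0,1,0,1,0,2,0,1,0,2,0,2,0,2,0,1,0,1,0,1,0,1,0,1,0]),
  (0,6,0,[]),
  (0,5,0,[]),
  (2,4,3,[0,2,0,2,0,2,0,2,0,2,0,1,0,1,0,1,0,2,0,2,0,1,0,1,0,1,0,1,0,1,0,1,0,2,0,1,0,2,0,1,0,1,0,1,0,2,0,1,0,2,0,1,0,1,0,1,0,2,0,1,0,1,0,2,0,1,0,2,0,2,0,2,0,1,0,1,0,1,0,2,0,1,0,1,0,1,0,1,0,1,0,2,0,1,0,1,0,2,0,1,0,2,0,2,0,2,0,1,0,1,0,1,0,2,0,1,0,1,0,1,0,1,0,1,0,2,0,1,0,2,0,1,0,1,0,1,0,2,0,1,0,2,0,1,0,1,0,1,0,2,0,1,0,2,0,1,0,1,0,1,0,2,0,1,0,2,0,1,0,1,0,1,0,2,0,1,0,2,0,1,0,1,0,1,0,2,0,1,0,1,0,2,0,2,0,1]),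
  (0,7,0,[]),
  (0,6,0,[]),
  (2,3,3,[0,2,0,2,0,2,0,2,0,2,0,1,0,1,0,1,0,2,0,2,0,1,0,1,0,1,0,1,0,1,0,1,0,2,0,1,0,1,0,2,0,1,0,2,0,2,0,2,0,1,0,1,0,1,0,2,0,1,0,1,0,1,0,1,0,1,0,2,0,1,0,1,0,2,0,1,0,2,0,2,0,2,0,1,0,1,0,1,0,2,0,1,0,1,0,1,0,1,0,1,0,2,0,1,0,2,0,1,0,1,0,1,0,2,0,1,0,2,0,1,0,1,0,1,0,2,0,1,0,2,0,1,0,1,0,1,0,2,0,1,0,1,0,2,0,1,0,2,0,2,0,2,0,1,0,1,0,1,0,2,0,1,0,1,0,1,0,1,0,1,0,2,0,1,0,2,0,1,0,1,0,1,0,2,0,1,0,2,0,1,0,1,0,1,0,2,0,1,0,2,0,1,0,1,0,1,0,2,0,1,0,1,0,2,0,2,0,1]),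
  (0,6,0,[]),
  (0,5,0,[]),
  (2,7,4,[2,0,1,0,1,0,2,0,1,0,1,0,1,0,2,0,2,0,1,0,1,0,1,0,1,0,1,0,2,0,1,0,1,0,2,0,1,0,2,0,2,0,2,0,1,0,1,0,1,0,2,0,1,0,1,0,1,0,1,0,1,0,2,0,1,0,2,0,1,0,1,0,1,0,2,0,1,0,2,0,1,0,1,0,1,0,2,0,1,0,2,0,1,0,1,0,1,0,2,0,1,0,2,0,1,0,1,0,1,0,2,0,1,0,1,0,2,0,1,0,2,0,2,0,2,0,1,0,1,0,1,0,2,0,1,0,1,0,1,0,1,0,1,0,2,0,1,0,2,0,1,0,1,0,1,0,2,0,1,0,1,0,2,0,1,0,2,0,2,0,2,0,1,0,1,0,1,0,1,0,1,0,2,0,1,0,1,0,2,0,2,0,2,0,1,0,1,0,1,0,1,0,2,0]),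
  (2,6,3,[0,2,0,2,0,2,0,2,0,2,0,1,0,1,0,1,0,2,0,2,0,1,0,1,0,1,0,1,0,1,0,1,0,2,0,1,0,2,0,1,0,1,0,1,0,2,0,1,0,2,0,1,0,1,0,1,0,2,0,1,0,2,0,1,0,1,0,1,0,2,0,1,0,2,0,1,0,1,0,1,0,2,0,1,0,2,0,1,0,1,0,1,0,2,0,1,0,1,0,2,0,2,0,1,0,2,0,1,0,1,0,2,0,2,0,2,0,1,0,1,0,1,0,1,0,2,0]),
  (0,9,0,[]),
  (0,8,0,[]),
  (2,5,3,[0,2,0,2,0,2,0,2,0,2,0,1,0,1,0,1,0,2,0,2,0,2,0,2,0,2,0,2,0,1,0,1,0,1,0,2,0,1,0,1,0,1,0,1,0,1,0,2,0,1,0,2,0,1,0,1,0,1,0,2,0,1,0,1,0,2,0,1,0,2,0,2,0,2,0,1,0,1,0,1,0,2,0,1,0,1,0,1,0,1,0,1,0,2,0,1,0,1,0,2,0,1,0,2,0,2,0,2,0,1,0,1,0,1,0,2,0,1,0,1,0,1,0,1,0,1,0,2,0,1,0,2,0,1,0,1,0,1,0,2,0,1,0,2,0,1,0,1,0,1,0,2,0,1,0,2,0,1,0,1,0,1,0,2,0,1,0,1,0,2,0,1,0,2,0,2,0,2,0,1,0,1,0,1,0,2,0,1,0,1,0,1,0,1,0,1,0,2,0,1,0,2,0,1,0,1,0,1,0,2,0,1,0,1,0,2,0,2,0,1,0,2,0,1,0,1,0,2,0,2,0,2,0,1,0,1,0,1,0,1,0,2,0]),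
  (0,8,0,[]),
  (0,7,0,[]),
  (2,4,2,[0,1,0,2,0,2,0,2,0,2,0,1,0,1,0,1,0,2,0,1,0,1,0,1,0,1,0,1,0,2,0,1,0,1,0,2,0,1,0,2,0,2,0,2,0,1,0,1,0,1,0,2,0,1,0,1,0,1,0,1,0,1,0,2,0,1,0,2,0,1,0,1,0,1,0,2,0,1,0,1,0,2,0,2,0,1,0,2,0,1,0,1,0,2,0,2,0,2,0,1,0,1,0,1,0,1,0,2,0]),
  (0,7,0,[]),
  (0,6,0,[]),
  (2,3,3,[0,2,0,2,0,2,0,2,0,2,0,1,0,1,0,1,0,2,0,2,0,1,0,1,0,1,0,1,0,1,0,1,0,2,0,1,0,2,0,1,0,1,0,1,0,2,0,1,0,2,0,1,0,1,0,1,0,2,0,1,0,2,0,1,0,1,0,1,0,2,0,1,0,1,0,2,0,1,0,2,0,2,0,2,0,1,0,1,0,1,0,2,0,1,0,1,0,1,0,1,0,1,0,2,0,1,0,2,0,1,0,1,0,1,0,2,0,1,0,1,0,2,0,1,0,2,0,2,0,2,0,1,0,1,0,1,0,2,0,1,0,1,0,1,0,1,0,1,0,2,0,1,0,1,0,2,0,2,0,1,0,2,0,1,0,1,0,2,0,2,0,2,0,1,0,1,0,1,0,1,0,2,0]),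
  (0,6,0,[]),
  (0,5,0,[]),
  (2,2,3,[0,2,0,2,0,2,0,2,0,2,0,1,0,1,0,1,0,2,0,2,0,2,0,2,0,2,0,2,0,1,0,1,0,1,0,2,0,1,0,1,0,1,0,1,0,1,0,2,0,1,0,2,0,1,0,1,0,1,0,2,0,1,0,2,0,1,0,1,0,1,0,2,0,1,0,2,0,1,0,1,0,1,0,2,0,1,0,2,0,1,0,1,0,1,0,2,0,1,0,2,0,1,0,1,0,1,0,2,0,1,0,2,0,1,0,1,0,1,0,2,0,1,0,2,0,1,0,1,0,1,0,2,0,1,0,2,0,1,0,1,0,1,0,2,0,1,0,1,0,2,0,1,0,2,0,2,0,2,0,1,0,1,0,1,0,2,0,1,0,1,0,1,0,1,0,1,0,2,0,1,0,1,0,2,0,2,0,1,0,2,0,1,0,1,0,2,0,2,0,2,0,1,0,1,0,1,0,1,0,2,0]),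
  (0,5,0,[]),
  (0,4,0,[]),
  (2,1,3,[0,2,0,2,0,2,0,2,0,2,0,1,0,1,0,1,0,2,0,2,0,1,0,1,0,1,0,1,0,1,0,1,0,2,0,1,0,1,0,2,0,1,0,2,0,2,0,2,0,1,0,1,0,1,0,2,0,1,0,1,0,1,0,1,0,1,0,2,0,1,0,2,0,1,0,1,0,1,0,2,0,1,0,2,0,1,0,1,0,1,0,2,0,1,0,1,0,2,0,1,0,2,0,2,0,2,0,1,0,1,0,1,0,2,0,1,0,1,0,1,0,1,0,1,0,2,0,1,0,2,0,1,0,1,0,1,0,2,0,1,0,2,0,1,0,1,0,1,0,2,0,1,0,1,0,2,0,1,0,2,0,2,0,2,0,1,0,1,0,1,0,2,0,1,0,1,0,1,0,1,0,1,0,2,0,1,0,2,0,1,0,1,0,1,0,2,0,1,0,1,0,2,0,2,0,1,0,2,0,1,0,1,0,2,0,2,0,2,0,1,0,1,0,1,0,1,0,2,0]),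
  (0,4,0,[]),
  (0,3,0,[]),
  (2,7,3,[0,2,0,2,0,2,0,2,0,2,0,1,0,1,0,1,0,2,0,2,0,1,0,1,0,1,0,1,0,1,0,1,0,2,0,1,0,1,0,2,0,1,0,2,0,2,0,2,0,1,0,1,0,1,0,2,0,1,0,1,0,1,0,1,0,1,0,2,0,1,0,2,0,1,0,1,0,1,0,2,0,1,0,1,0,2,0,1,0,2,0,2,0,2,0,1,0,1,0,1,0,2,0,1,0,1,0,1,0,1,0,1,0,2,0,1,0,1,0,2,0,1,0,2,0,2,0,2,0,1,0,1,0,1,0,2,0,1,0,1,0,1,0,1,0,1,0,2,0,1,0,1,0,2,0,1,0,2,0,2,0,2,0,1,0,1,0,1,0,2,0,1,0,1,0,1,0,1,0,1,0,2,0,1,0,2,0,1,0,1,0,1,0,2,0,1,0,2,0,1,0,1,0,1,0,2,0,1,0,2,0,1,0,1,0,1,0,2,0,1,0,1,0,2,0,2,0,1]),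
  (0,10,0,[]),
  (0,9,0,[]),
  (2,6,3,[0,2,0,2,0,2,0,2,0,2,0,1,0,1,0,1,0,2,0,2,0,1,0,1,0,1,0,1,0,1,0,1,0,2,0,1,0,2,0,1,0,1,0,1,0,2,0,1,0,2,0,1,0,1,0,1,0,2,0,1,0,1,0,2,0,1,0,2,0,2,0,2,0,1,0,1,0,1,0,2,0,1,0,1,0,1,0,1,0,1,0,2,0,1,0,1,0,2,0,1,0,2,0,2,0,2,0,1,0,1,0,1,0,2,0,1,0,1,0,1,0,1,0,1,0,2,0,1,0,2,0,1,0,1,0,1,0,2,0,1,0,2,0,1,0,1,0,1,0,2,0,1,0,2,0,1,0,1,0,1,0,2,0,1,0,2,0,1,0,1,0,1,0,2,0,1,0,2,0,1,0,1,0,1,0,2,0,1,0,1,0,2,0,2,0,1]),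
  (0,9,0,[]),
  (0,8,0,[]),
  (2,5,3,[0,2,0,2,0,2,0,2,0,2,0,1,0,1,0,1,0,2,0,2,0,1,0,1,0,1,0,1,0,1,0,1,0,2,0,1,0,1,0,2,0,1,0,2,0,2,0,2,0,1,0,1,0,1,0,2,0,1,0,1,0,1,0,1,0,1,0,2,0,1,0,1,0,2,0,1,0,2,0,2,0,2,0,1,0,1,0,1,0,2,0,1,0,1,0,1,0,1,0,1,0,2,0,1,0,2,0,1,0,1,0,1,0,2,0,1,0,2,0,1,0,1,0,1,0,2,0,1,0,2,0,1,0,1,0,1,0,2,0,1,0,1,0,2,0,1,0,2,0,2,0,2,0,1,0,1,0,1,0,2,0,1,0,1,0,1,0,1,0,1,0,2,0,1,0,2,0,1,0,1,0,1,0,2,0,1,0,2,0,1,0,1,0,1,0,2,0,1,0,2,0,1,0,1,0,1,0,2,0,1,0,1,0,2,0,2,0,1]),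
  (0,8,0,[]),
  (0,7,0,[]),
  (0,4,0,[]),
  (0,6,0,[]),
  (2,6,4,[2,0,1,0,1,0,2,0,1,0,1,0,1,0,1,0,2,0,2,0,1,0,1,0,1,0,2,0,1,0,1,0,1,0,1,0,1,0,2,0,1,0,2,0,1,0,1,0,1,0,2,0,1,0,1,0,2,0,1,0,2,0,2,0,2,0,1,0,1,0,1,0,2,0,1,0,1,0,1,0,1,0,1,0,2,0,1,0,2,0,1,0,1,0,1,0,2,0,1,0,1,0,2,0,1,0,2,0,2,0,2,0,1,0,1,0,1,0,2,0,1,0,1,0,1,0,1,0,1,0,2,0,1,0,2,0,1,0,1,0,1,0,2,0,1,0,2,0,1,0,1,0,1,0,2,0,1,0,1,0,2,0,1,0,2,0,2,0,2,0,1,0,1,0,1,0,2,0,1,0,1,0,1,0,1,0,1,0,2,0,1,0,1,0,2,0,1,0,2,0,2,0,2,0,1,0,1,0,1,0,1,0,1,0,2,0,1,0,1,0,2,0,2,0,2,0,1,0,1,0,1,0,1,0,2,0]),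
  (2,5,3,[0,2,0,2,0,2,0,2,0,2,0,1,0,1,0,1,0,2,0,2,0,2,0,2,0,2,0,2,0,1,0,1,0,1,0,2,0,1,0,1,0,1,0,1,0,1,0,2,0,1,0,2,0,1,0,1,0,1,0,2,0,1,0,1,0,2,0,1,0,2,0,2,0,2,0,1,0,1,0,1,0,2,0,1,0,1,0,1,0,1,0,1,0,2,0,1,0,1,0,2,0,1,0,2,0,2,0,2,0,1,0,1,0,1,0,2,0,1,0,1,0,1,0,1,0,1,0,2,0,1,0,2,0,1,0,1,0,1,0,2,0,1,0,2,0,1,0,1,0,1,0,2,0,1,0,2,0,1,0,1,0,1,0,2,0,1,0,1,0,2,0,1,0,2,0,2,0,2,0,1,0,1,0,1,0,2,0,1,0,1,0,1,0,1,0,1,0,2,0,1,0,2,0,1,0,1,0,1,0,2,0,1,0,1,0,2,0,2,0,1,0,2,0,1,0,1,0,2,0,2,0,2,0,1,0,1,0,1,0,1,0,2,0]),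
  (0,8,0,[]),
  (0,7,0,[]),
  (2,4,2,[0,1,0,2,0,2,0,2,0,2,0,1,0,1,0,1,0,2,0,1,0,1,0,1,0,1,0,1,0,2,0,1,0,1,0,2,0,1,0,2,0,2,0,2,0,1,0,1,0,1,0,2,0,1,0,1,0,1,0,1,0,1,0,2,0,1,0,2,0,1,0,1,0,1,0,2,0,1,0,1,0,2,0,2,0,1,0,2,0,1,0,1,0,2,0,2,0,2,0,1,0,1,0,1,0,1,0,2,0]),
  (0,7,0,[]),
  (0,6,0,[]),
  (2,3,3,[0,2,0,2,0,2,0,2,0,2,0,1,0,1,0,1,0,2,0,2,0,2,0,2,0,2,0,2,0,1,0,1,0,1,0,2,0,1,0,1,0,1,0,1,0,1,0,2,0,1,0,2,0,1,0,1,0,1,0,2,0,1,0,2,0,1,0,1,0,1,0,2,0,1,0,2,0,1,0,1,0,1,0,2,0,1,0,2,0,1,0,1,0,1,0,2,0,1,0,2,0,1,0,1,0,1,0,2,0,1,0,2,0,1,0,1,0,1,0,2,0,1,0,2,0,1,0,1,0,1,0,2,0,1,0,2,0,1,0,1,0,1,0,2,0,1,0,1,0,2,0,1,0,2,0,2,0,2,0,1,0,1,0,1,0,2,0,1,0,1,0,1,0,1,0,1,0,2,0,1,0,1,0,2,0,2,0,1,0,2,0,1,0,1,0,2,0,2,0,2,0,1,0,1,0,1,0,1,0,2,0]),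
  (0,6,0,[]),
  (0,5,0,[]),
  (2,2,3,[0,2,0,2,0,2,0,2,0,2,0,1,0,1,0,1,0,2,0,2,0,1,0,1,0,1,0,1,0,1,0,1,0,2,0,1,0,1,0,2,0,1,0,2,0,2,0,2,0,1,0,1,0,1,0,2,0,1,0,1,0,1,0,1,0,1,0,2,0,1,0,2,0,1,0,1,0,1,0,2,0,1,0,2,0,1,0,1,0,1,0,2,0,1,0,1,0,2,0,1,0,2,0,2,0,2,0,1,0,1,0,1,0,2,0,1,0,1,0,1,0,1,0,1,0,2,0,1,0,2,0,1,0,1,0,1,0,2,0,1,0,2,0,1,0,1,0,1,0,2,0,1,0,1,0,2,0,1,0,2,0,2,0,2,0,1,0,1,0,1,0,2,0,1,0,1,0,1,0,1,0,1,0,2,0,1,0,2,0,1,0,1,0,1,0,2,0,1,0,1,0,2,0,2,0,1,0,2,0,1,0,1,0,2,0,2,0,2,0,1,0,1,0,1,0,1,0,2,0]),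
  (0,5,0,[]),
  (0,4,0,[]),
  (0,1,0,[]),
  (2,4,3,[0,2,0,2,0,2,0,2,0,2,0,1,0,1,0,1,0,2,0,2,0,1,0,1,0,1,0,1,0,1,0,1,0,2,0,1,0,1,0,2,0,1,0,2,0,2,0,2,0,1,0,1,0,1,0,2,0,1,0,1,0,1,0,1,0,1,0,2,0,1,0,2,0,1,0,1,0,1,0,2,0,1,0,1,0,2,0,1,0,2,0,2,0,2,0,1,0,1,0,1,0,2,0,1,0,1,0,1,0,1,0,1,0,2,0,1,0,2,0,1,0,1,0,1,0,2,0,1,0,1,0,2,0,1,0,2,0,2,0,2,0,1,0,1,0,1,0,2,0,1,0,1,0,1,0,1,0,1,0,2,0,1,0,2,0,1,0,1,0,1,0,2,0,1,0,1,0,2,0,1,0,2,0,2,0,2,0,1,0,1,0,1,0,2,0,1,0,1,0,1,0,1,0,1,0,2,0,1,0,2,0,1,0,1,0,1,0,2,0,1,0,2,0,1,0,1,0,1,0,2,0,1,0,1,0,2,0,1,0,2,0,2,0,2,0,1,0,1,0,2]),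
  (0,7,0,[]),
  (0,6,0,[]),
  (2,3,2,[0,1,0,1,0,1,0,1,0,1,0,1,0,1,0,2,0,1,0,2,0,1,0,1,0,1,0,2,0,1,0,1,0,2,0,1,0,2,0,2,0,2,0,1,0,1,0,1,0,2,0,1,0,1,0,1,0,1,0,1,0,2,0,1,0,1,0,2,0,1,0,2,0,2,0,2,0,1,0,1,0,1,0,2,0,1,0,1,0,1,0,1,0,1,0,2,0,1,0,2,0,1,0,1,0,1,0,2,0,1,0,2,0,1,0,1,0,1,0,2,0,1,0,2,0,1,0,1,0,1,0,2,0,1,0,1,0,2,0,1,0,2,0,2,0,2,0,1,0,1,0,2]),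
  (0,6,0,[]),
  (0,5,0,[]),
  (0,2,0,[]),
  (2,3,3,[0,2,0,2,0,2,0,2,0,2,0,1,0,1,0,1,0,2,0,2,0,2,0,2,0,2,0,2,0,1,0,1,0,1,0,2,0,1,0,1,0,1,0,1,0,1,0,2,0,1,0,1,0,2,0,1,0,2,0,2,0,2,0,1,0,1,0,1,0,2,0,1,0,1,0,1,0,1,0,1,0,2,0,1,0,2,0,1,0,1,0,1,0,2,0,1,0,2,0,1,0,1,0,1,0,2,0,1,0,2,0,1,0,1,0,1,0,2,0,1,0,2,0,1,0,1,0,1,0,2,0,1,0,2,0,1,0,1,0,1,0,2,0,1,0,2,0,1,0,1,0,1,0,2,0,1,0,1,0,2,0,1,0,2,0,2,0,2,0,1,0,1,0,1,0,2,0,1,0,1,0,1,0,1,0,1,0,2,0,1,0,1,0,1,0,2,0,1]),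
  (0,6,0,[]),
  (0,5,0,[]),
  (2,2,3,[0,2,0,2,0,2,0,2,0,2,0,1,0,1,0,1,0,2,0,2,0,1,0,1,0,1,0,1,0,1,0,1,0,2,0,1,0,1,0,2,0,1,0,2,0,2,0,2,0,1,0,1,0,1,0,2,0,1,0,1,0,1,0,1,0,1,0,2,0,1,0,2,0,1,0,1,0,1,0,2,0,1,0,2,0,1,0,1,0,1,0,2,0,1,0,2,0,1,0,1,0,1,0,2,0,1,0,2,0,1,0,1,0,1,0,2,0,1,0,2,0,1,0,1,0,1,0,2,0,1,0,1,0,2,0,1,0,2,0,2,0,2,0,1,0,1,0,1,0,2,0,1,0,1,0,1,0,1,0,1,0,2,0,1,0,2,0,1,0,1,0,1,0,2,0,1,0,2,0,1,0,1,0,1,0,2,0,1,0,1,0,2,0,1,0,2,0,2,0,2,0,1,0,1,0,1,0,2,0,1,0,1,0,1,0,1,0,1,0,2,0,1,0,1,0,1,0,2,0,1]),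
  (0,5,0,[]),
  (0,4,0,[]),
  (2,5,4,[2,0,1,0,1,0,2,0,1,0,1,0,1,0,2,0,2,0,1,0,1,0,1,0,1,0,1,0,2,0,1,0,2,0,1,0,1,0,1,0,2,0,1,0,2,0,1,0,1,0,1,0,2,0,1,0,1,0,2,0,1,0,2,0,2,0,2,0,1,0,1,0,1,0,2,0,1,0,1,0,1,0,1,0,1,0,2,0,1,0,2,0,1,0,1,0,1,0,2,0,1,0,2,0,1,0,1,0,1,0,2,0,1,0,2,0,1,0,1,0,1,0,2,0,1,0,2,0,1,0,1,0,1,0,2,0,1,0,1,0,2,0,1,0,2,0,2,0,2,0,1,0,1,0,1,0,2,0,1,0,1,0,1,0,1,0,1,0,2,0,1,0,2,0,1,0,1,0,1,0,2,0,1,0,2,0,1,0,1,0,1,0,2,0,1,0,1,0,2,0,1,0]),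
  (2,4,3,[0,2,0,2,0,2,0,2,0,2,0,1,0,1,0,1,0,2,0,2,0,1,0,1,0,1,0,1,0,1,0,1,0,2,0,1,0,2,0,1,0,1,0,1,0,2,0,1,0,2,0,1,0,1,0,1,0,2,0,1,0,1,0,2,0,1,0,2,0,2,0,2,0,1,0,1,0,1,0,2,0,1,0,1,0,1,0,1,0,1,0,2,0,1,0,2,0,1,0,1,0,1,0,2,0,1,0,2,0,1,0,1,0,1,0,2,0,1,0,2,0,1,0,1,0,1,0,2,0,1,0,1,0,2,0,1,0,2,0,2,0,2,0,1,0,1,0,1,0,2,0,1,0,1,0,1,0,1,0,1,0,2,0,1,0,2,0,1,0,1,0,1,0,2,0,1,0,1,0,2,0,1,0]),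
  (0,7,0,[]),
  (0,6,0,[]),
  (2,3,3,[0,2,0,2,0,2,0,2,0,2,0,1,0,1,0,1,0,2,0,2,0,1,0,1,0,1,0,1,0,1,0,1,0,2,0,1,0,2,0,1,0,1,0,1,0,2,0,1,0,1,0,2,0,1,0,2,0,2,0,2,0,1,0,1,0,1,0,2,0,1,0,1,0,1,0,1,0,1,0,2,0,1,0,1,0,2,0,1,0,2,0,2,0,2,0,1,0,1,0,1,0,2,0,1,0,1,0,1,0,1,0,1,0,2,0,1,0,1,0,2,0,1,0,2,0,2,0,2,0,1,0,1,0,1]),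
  (0,6,0,[]),
  (0,5,0,[]),
  (2,2,3,[0,2,0,2,0,2,0,2,0,2,0,1,0,1,0,1,0,2,0,2,0,1,0,1,0,1,0,1,0,1,0,1,0,2,0,1,0,1,0,2,0,1,0,2,0,2,0,2,0,1,0,1,0,1,0,2,0,1,0,1,0,1,0,1,0,1,0,2,0,1,0,2,0,1,0,1,0,1,0,2,0,1,0,1,0,2,0,1,0,2,0,2,0,2,0,1,0,1,0,1,0,2,0,1,0,1,0,1,0,1,0,1,0,2,0,1,0,1,0,2,0,1,0,2,0,2,0,2,0,1,0,1,0,1,0,2,0,1,0,1,0,1,0,1,0,1,0,2,0,1,0,1,0,2,0,1,0,2,0,2,0,2,0,1,0,1,0,1,0,2,0,1,0,1,0,1,0,1,0,1,0,2,0,1,0,1,0,2,0,1,0,2,0,2,0,2,0,1,0,1,0,1,0,2,0,1,0,1,0,1,0,1,0,1,0,2,0,1,0,2,0,1,0,1,0,1,0,2,0,1,0,1,0,2,0,1,0]),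
  (0,5,0,[]),
  (0,4,0,[]),
  (2,1,3,[0,2,0,2,0,2,0,2,0,2,0,1,0,1,0,1,0,2,0,2,0,1,0,1,0,1,0,1,0,1,0,1,0,2,0,1,0,2,0,1,0,1,0,1,0,2,0,1,0,1,0,2,0,1,0,2,0,2,0,2,0,1,0,1,0,1,0,2,0,1,0,1,0,1,0,1,0,1,0,2,0,1,0,2,0,1,0,1,0,1,0,2,0,1,0,1,0,2,0,1,0,2,0,2,0,2,0,1,0,1,0,1,0,2,0,1,0,1,0,1,0,1,0,1,0,2,0,1,0,1,0,2,0,1,0,2,0,2,0,2,0,1,0,1,0,1,0,2,0,1,0,1,0,1,0,1,0,1,0,2,0,1,0,1,0,2,0,1,0,2,0,2,0,2,0,1,0,1,0,1,0,2,0,1,0,1,0,1,0,1,0,1,0,2,0,1,0,1,0,2,0,1,0]),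
  (0,4,0,[]),
  (0,3,0,[]),
  (0,0,0,[]),
  (2,3,3,[0,2,0,2,0,2,0,2,0,2,0,1,0,1,0,1,0,2,0,2,0,1,0,1,0,1,0,1,0,1,0,1,0,2,0,1,0,2,0,1,0,1,0,1,0,2,0,1,0,2,0,1,0,1,0,1,0,2,0,1,0,2,0,1,0,1,0,1,0,2,0,1,0,2,0,1,0,1,0,1,0,2,0,1,0,2,0,1,0,1,0,1,0,2,0,1,0,2,0,1,0,1,0,1,0,2,0,1,0,1,0,2,0,1,0,2,0,2,0,2,0,1,0,1,0,1,0,2,0,1,0,1,0,1,0,1,0,1,0,2,0,1,0,2,0,1,0,1,0,1,0,2,0,1,0,2,0,1,0,1,0,1,0,2,0,1,0,2,0,1,0,1,0,1,0,2,0,1,0,2,0,1,0,1,0,1,0,2,0,1,0,2,0,1,0,1,0,1,0,2,0,1,0,1,0,2,0,1,0,1,0,1,0,2,0,1,0,1,0,1,0,2,0]),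
  (0,6,0,[]),
  (0,5,0,[]),
  (2,2,2,[0,1,0,2,0,2,0,2,0,2,0,1,0,1,0,1,0,2,0,1,0,1,0,1,0,1,0,1,0,2,0,1,0,1,0,2,0,1,0,2,0,2,0,2,0,1,0,1,0,1,0,2,0,1,0,1,0,1,0,1,0,1,0,2,0,1,0,1,0,2,0,1,0,2,0,2,0,2,0,1,0,1,0,1,0,2,0,1,0,1,0,1,0,1,0,1,0,2,0,1,0,1,0,2,0,1,0,2,0,2,0,2,0,1,0,1,0,2,0,1,0,2,0,1,0,1,0,1,0,2,0]),
  (0,5,0,[]),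
  (0,4,0,[]),
  (2,1,3,[0,2,0,2,0,2,0,2,0,2,0,1,0,1,0,1,0,2,0,2,0,1,0,1,0,1,0,1,0,1,0,1,0,2,0,1,0,2,0,1,0,1,0,1,0,2,0,1,0,2,0,1,0,1,0,1,0,2,0,1,0,2,0,1,0,1,0,1,0,2,0,1,0,2,0,1,0,1,0,1,0,2,0,1,0,2,0,1,0,1,0,1,0,2,0,1,0,2,0,1,0,1,0,1,0,2,0,1,0,2,0,1,0,1,0,1,0,2,0,1,0,2,0,1,0,1,0,1,0,2,0,1,0,2,0,1,0,1,0,1,0,2,0,1,0,2,0,1,0,1,0,1,0,2,0,1,0,2,0,1,0,1,0,1,0,2,0,1,0,2,0,1,0,1,0,1,0,2,0,1,0,1,0,2,0,1,0,2,0,2,0,2,0,1,0,1,0,1,0,2,0,1,0,1,0,1,0,1,0,1,0,2,0,1,0,1,0,2,0,1,0,2,0,2,0,2,0,1,0,1,0,2,0,1,0,2,0,1,0,1,0,1,0,2,0]),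
  (0,4,0,[]),
  (0,3,0,[]),
  (2,0,2,[0,1,0,2,0,2,0,2,0,2,0,1,0,1,0,1,0,2,0,1,0,1,0,1,0,1,0,1,0,2,0,1,0,2,0,1,0,1,0,1,0,2,0,1,0,1,0,2,0,1,0,2,0,2,0,2,0,1,0,1,0,1,0,2,0,1,0,1,0,1,0,1,0,1,0,2,0,1,0,1,0,2,0,1,0,2,0,2,0,2,0,1,0,1,0,1,0,2,0,1,0,1,0,1,0,1,0,1,0,2,0,1,0,1,0,2,0,1,0,2,0,2,0,2,0,1,0,1,0,2,0,1,0,2,0,1,0,1,0,1,0,2,0]),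
  (0,3,0,[]),
  (0,2,0,[]),
  (2,4,3,[0,2,0,2,0,2,0,2,0,2,0,1,0,1,0,1,0,2,0,2,0,2,0,2,0,2,0,2,0,1,0,1,0,1,0,2,0,1,0,1,0,1,0,1,0,1,0,2,0,1,0,1,0,2,0,1,0,2,0,2,0,2,0,1,0,1,0,1,0,2,0,1,0,1,0,1,0,1,0,1,0,2,0,1,0,2,0,1,0,1,0,1,0,2,0,1,0,2,0,1,0,1,0,1,0,2,0,1,0,2,0,1,0,1,0,1,0,2,0,1,0,2,0,1,0,1,0,1,0,2,0,1,0,2,0,1,0,1,0,1,0,2,0,1,0,2,0,1,0,1,0,1,0,2,0,1,0,1,0,2,0,1,0,2,0,2,0,2,0,1,0,1,0,1,0,2,0,1,0,1,0,1,0,1,0,1,0,2,0,1,0,1,0,1,0,2,0,1]),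
  (0,7,0,[]),
  (0,6,0,[]),
  (2,3,3,[0,2,0,2,0,2,0,2,0,2,0,1,0,1,0,1,0,2,0,2,0,1,0,1,0,1,0,1,0,1,0,1,0,2,0,1,0,1,0,2,0,1,0,2,0,2,0,2,0,1,0,1,0,1,0,2,0,1,0,1,0,1,0,1,0,1,0,2,0,1,0,2,0,1,0,1,0,1,0,2,0,1,0,2,0,1,0,1,0,1,0,2,0,1,0,2,0,1,0,1,0,1,0,2,0,1,0,2,0,1,0,1,0,1,0,2,0,1,0,2,0,1,0,1,0,1,0,2,0,1,0,1,0,2,0,1,0,2,0,2,0,2,0,1,0,1,0,1,0,2,0,1,0,1,0,1,0,1,0,1,0,2,0,1,0,2,0,1,0,1,0,1,0,2,0,1,0,2,0,1,0,1,0,1,0,2,0,1,0,1,0,2,0,1,0,2,0,2,0,2,0,1,0,1,0,1,0,2,0,1,0,1,0,1,0,1,0,1,0,2,0,1,0,1,0,1,0,2,0,1]),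
  (0,6,0,[]),
  (0,5,0,[]),
  (0,2,0,[]),
  (2,4,4,[2,0,1,0,1,0,2,0,1,0,1,0,1,0,1,0,2,0,2,0,1,0,1,0,1,0,2,0,1,0,1,0,1,0,1,0,1,0,2,0,1,0,1,0,2,0,1,0,2,0,2,0,2,0,1,0,1,0,1,0,2,0,1,0,1,0,1,0,1,0,1,0,2,0,1,0,1,0,2,0,1,0,2,0,2,0,2,0,1,0,1,0,1,0,2,0,1,0,1,0,1,0,1,0,1,0,2,0,1,0,2,0,1,0,1,0,1,0,2,0,1,0,1,0,2,0,1,0,2,0,2,0,2,0,1,0,1,0,1,0,2,0,1,0,1,0,1,0,1,0,1,0,2,0,1,0,2,0,1,0,1,0,1,0,2,0,1,0,2,0,1,0,1,0,1,0,2,0,1,0,2,0,1,0,1,0,1,0,2,0,1,0,1,0,2,0,2,0,1,0,2,0,2,0,1,0,2,0,1,0,1,0,1,0]),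
  (2,3,3,[0,2,0,2,0,2,0,2,0,2,0,1,0,1,0,1,0,2,0,2,0,1,0,1,0,1,0,1,0,1,0,1,0,2,0,1,0,2,0,1,0,1,0,1,0,2,0,1,0,1,0,2,0,1,0,2,0,2,0,2,0,1,0,1,0,1,0,2,0,1,0,1,0,1,0,1,0,1,0,2,0,1,0,2,0,1,0,1,0,1,0,2,0,1,0,2,0,1,0,1,0,1,0,2,0,1,0,1,0,2,0,1,0,2,0,2,0,2,0,1,0,1,0,1,0,2,0,1,0,1,0,1,0,1,0,1,0,2,0,1,0,1,0,2,0,1,0,2,0,2,0,2,0,1,0,1,0,1,0,2,0,1,0,1,0,1,0,1,0,1,0,2,0,1,0,2,0,1,0,1,0,1,0,2,0,1,0,1,0,2,0,1,0,2,0,2,0,2,0,1,0,1,0,1,0,2,0,1,0,1,0,1,0,1,0,1,0,2,0,1,0,1,0,2,0,1,0,2,0,2,0,2,0,1,0,1,0,1,0,2,0,1,0,1,0,1,0,1,0,1,0,2,0,1,0,2,0,1,0,1,0,1,0,2,0,1,0,1,0,2,0,2,0,1,0,2,0,2,0,1,0,2,0,1,0,1,0,1,0]),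
  (0,6,0,[]),
  (0,5,0,[]),
  (2,2,3,[0,2,0,2,0,2,0,2,0,2,0,1,0,1,0,1,0,2,0,2,0,2,0,2,0,2,0,2,0,1,0,1,0,1,0,2,0,1,0,1,0,1,0,1,0,1,0,2,0,1,0,2,0,1,0,1,0,1,0,2,0,1,0,2,0,1,0,1,0,1,0,2,0,1,0,2,0,1,0,1,0,1,0,2,0,1,0,1,0,2,0,1,0,2,0,2,0,2,0,1,0,1,0,1,0,2,0,1,0,1,0,1,0,1,0,1,0,2,0,1,0,1,0,2,0,1,0,2,0,2,0,2,0,1,0,1,0,1,0,2,0,1,0,1,0,1,0,1,0,1,0,2,0,1,0,2,0,1,0,1,0,1,0,2,0,1,0,1,0,2,0,1,0,2,0,2,0,2,0,1,0,1,0,1,0,1,0,1,0,2,0,2,0,1,0,2,0,1,0,1,0,1,0]),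
  (0,5,0,[]),
  (0,4,0,[]),
  (2,1,3,[0,2,0,2,0,2,0,2,0,2,0,1,0,1,0,1,0,2,0,2,0,2,0,2,0,2,0,2,0,1,0,1,0,1,0,2,0,1,0,1,0,1,0,1,0,1,0,2,0,1,0,2,0,1,0,1,0,1,0,2,0,1,0,2,0,1,0,1,0,1,0,2,0,1,0,2,0,1,0,1,0,1,0,2,0,1,0,2,0,1,0,1,0,1,0,2,0,1,0,1,0,2,0,1,0,2,0,2,0,2,0,1,0,1,0,1,0,2,0,1,0,1,0,1,0,1,0,1,0,2,0,1,0,2,0,1,0,1,0,1,0,2,0,1,0,1,0,2,0,1,0,2,0,2,0,2,0,1,0,1,0,1,0,2,0,1,0,1,0,1,0,1,0,1,0,2,0,1,0,1,0,2,0,1,0,2,0,2,0,2,0,1,0,1,0,1,0,2,0,1,0,1,0,1,0,1,0,1,0,2,0,1,0,1,0,2,0,1,0,2,0,2,0,2,0,1,0,1,0,1,0,2,0,1,0,1,0,1,0,1,0,1,0,2,0,1,0,1,0,2,0,2,0,1,0,2,0,2,0,1,0,2,0,1,0,1,0,1,0]),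
  (0,4,0,[]),
  (0,3,0,[]),
  (2,0,3,[0,2,0,2,0,2,0,2,0,2,0,1,0,1,0,1,0,2,0,2,0,2,0,2,0,2,0,2,0,1,0,1,0,1,0,2,0,1,0,1,0,1,0,1,0,1,0,2,0,1,0,2,0,1,0,1,0,1,0,2,0,1,0,1,0,2,0,1,0,2,0,2,0,2,0,1,0,1,0,1,0,2,0,1,0,1,0,1,0,1,0,1,0,2,0,1,0,1,0,2,0,1,0,2,0,2,0,2,0,1,0,1,0,1,0,2,0,1,0,1,0,1,0,1,0,1,0,2,0,1,0,1,0,2,0,1,0,2,0,2,0,2,0,1,0,1,0,1,0,2,0,1,0,1,0,1,0,1,0,1,0,2,0,1,0,2,0,1,0,1,0,1,0,2,0,1,0,1,0,2,0,1,0,2,0,2,0,2,0,1,0,1,0,1,0,2,0,1,0,1,0,1,0,1,0,1,0,2,0,1,0,2,0,1,0,1,0,1,0,2,0,1,0,2,0,1,0,1,0,1,0,2,0,1,0,1,0,2,0,2,0,1,0,2,0,2,0,1,0,2,0,1,0,1,0,1,0]),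
  (0,3,0,[]),
  (0,2,0,[]),
  (2,4,2,[0,1,0,1,0,1,0,1,0,1,0,1,0,1,0,2,0,1,0,2,0,1,0,1,0,1,0,2,0,1,0,2,0,1,0,1,0,1,0,2,0,1,0,1,0,2,0,1,0,2,0,2,0,2,0,1,0,1,0,1,0,2,0,1,0,1,0,1,0,1,0,1,0,2,0,1,0,1,0,2,0,1,0,2]),
  (0,7,0,[]),
  (0,6,0,[]),
  (2,3,3,[0,2,0,2,0,2,0,2,0,2,0,1,0,1,0,1,0,2,0,2,0,2,0,2,0,2,0,2,0,1,0,1,0,1,0,2,0,1,0,1,0,1,0,1,0,1,0,2,0,1,0,2,0,1,0,1,0,1,0,2,0,1,0,2,0,1,0,1,0,1,0,2,0,1,0,2,0,1,0,1,0,1,0,2,0,1,0,2,0,1,0,1,0,1,0,2,0,1,0,2,0,1,0,1,0,1,0,2,0,1,0,2,0,1,0,1,0,1,0,2,0,1,0,1,0,2,0,1,0,2,0,2,0,2,0,1,0,1,0,1,0,2,0,1,0,1,0,1,0,1,0,1,0,2,0,1,0,1,0,2,0,1,0,2,0,2,0,2,0,1,0,1,0]),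
  (0,6,0,[]),
  (0,5,0,[]),
  (0,2,0,[]),
  (2,3,2,[0,1,0,1,0,1,0,1,0,1,0,1,0,1,0,2,0,1,0,2,0,1,0,1,0,1,0,2,0,1,0,2,0,1,0,1,0,1,0,2,0,1,0,1,0,2,0,1,0,2,0,2,0,2,0,1,0,1,0,1,0,2,0,1,0,1,0,1,0,1,0,1,0,2,0,1,0,1,0,2,0,1,0,2,0,2,0,2,0,1,0,1,0,1,0,1,0,1,0]),
  (0,6,0,[]),
  (0,5,0,[]),
  (0,2,0,[]),
  (2,3,4,[2,0,1,0,1,0,2,0,1,0,1,0,1,0,2,0,2,0,1,0,1,0,1,0,1,0,1,0,2,0,1,0,1,0,2,0,1,0,2,0,2,0,2,0,1,0,1,0,1,0,2,0,1,0,1,0,1,0,1,0,1,0,2,0,1,0,2,0,1,0,1,0,1,0,2,0,1,0,1,0,2,0,1,0,2,0,2,0,2,0,1,0,1,0,1,0,2,0,1,0,1,0,1,0,1,0,1,0,2,0,1,0,2,0,1,0,1,0,1,0,2,0,1,0,2,0,1,0,1,0,1,0,2,0,1,0,2,0,1,0,1,0,1,0,2,0,1,0,1,0,2,0,1,0,2,0,2,0,2,0,1,0,1,0,1,0,2,0,1,0,1,0,1,0,1,0,1,0,2,0,1,0,1,0,2,0,2,0,1,0,2,0,2,0,1,0,2,0,1,0,1,0,1,0]),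
  (2,2,3,[0,2,0,2,0,2,0,2,0,2,0,1,0,1,0,1,0,2,0,2,0,1,0,1,0,1,0,1,0,1,0,1,0,2,0,1,0,2,0,1,0,1,0,1,0,2,0,1,0,1,0,2,0,1,0,2,0,2,0,2,0,1,0,1,0,1,0,2,0,1,0,1,0,1,0,1,0,1,0,2,0,1,0,2,0,1,0,1,0,1,0,2,0,1,0,2,0,1,0,1,0,1,0,2,0,1,0,1,0,2,0,1,0,2,0,2,0,2,0,1,0,1,0,1,0,2,0,1,0,1,0,1,0,1,0,1,0,2,0,1,0,1,0,2,0,1,0,2,0,2,0,2,0,1,0,1,0,1,0,2,0,1,0,1,0,1,0,1,0,1,0,2,0,1,0,2,0,1,0,1,0,1,0,2,0,1,0,1,0,2,0,1,0,2,0,2,0,2,0,1,0,1,0,1,0,2,0,1,0,1,0,1,0,1,0,1,0,2,0,1,0,1,0,2,0,1,0,2,0,2,0,2,0,1,0,1,0,1,0,2,0,1,0,1,0,1,0,1,0,1,0,2,0,1,0,2,0,1,0,1,0,1,0,2,0,1,0,1,0,2,0,2,0,1,0,2,0,2,0,1,0,2,0,1,0,1,0,1,0]),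
  (0,5,0,[]),
  (0,4,0,[]),
  (2,1,3,[0,2,0,2,0,2,0,2,0,2,0,1,0,1,0,1,0,2,0,2,0,2,0,2,0,2,0,2,0,1,0,1,0,1,0,2,0,1,0,1,0,1,0,1,0,1,0,2,0,1,0,2,0,1,0,1,0,1,0,2,0,1,0,1,0,2,0,1,0,2,0,2,0,2,0,1,0,1,0,1,0,2,0,1,0,1,0,1,0,1,0,1,0,2,0,1,0,1,0,2,0,1,0,2,0,2,0,2,0,1,0,1,0,1,0,2,0,1,0,1,0,1,0,1,0,1,0,2,0,1,0,1,0,2,0,1,0,2,0,2,0,2,0,1,0,1,0,1,0,2,0,1,0,1,0,1,0,1,0,1,0,2,0,1,0,2,0,1,0,1,0,1,0,2,0,1,0,1,0,2,0,1,0,2,0,2,0,2,0,1,0,1,0,1,0,2,0,1,0,1,0,1,0,1,0,1,0,2,0,1,0,2,0,1,0,1,0,1,0,2,0,1,0,2,0,1,0,1,0,1,0,2,0,1,0,1,0,2,0,2,0,1,0,2,0,2,0,1,0,2,0,1,0,1,0,1,0]),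
  (0,4,0,[]),
  (0,3,0,[]),
  (0,0,0,[]),
  (2,1,3,[0,2,0,2,0,2,0,2,0,2,0,1,0,1,0,1,0,2,0,2,0,1,0,1,0,1,0,1,0,1,0,1,0,2,0,1,0,2,0,1,0,1,0,1,0,2,0,1,0,2,0,1,0,1,0,1,0,2,0,1,0,2,0,1,0,1,0,1,0,2,0,1,0,2,0,1,0,1,0,1,0,2,0,1,0,2,0,1,0,1,0,1,0,2,0,1,0,2,0,1,0,1,0,1,0,2,0,1,0,1,0,2,0,1,0,2,0,2,0,2,0,1,0,1,0,1,0,2,0,1,0,1,0,1,0,1,0,1,0,2,0,1,0,2,0,1,0,1,0,1,0,2,0,1,0,2,0,1,0,1,0,1,0,2,0,1,0,2,0,1,0,1,0,1,0,2,0,1,0,2,0,1,0,1,0,1,0,2,0,1,0,2,0,1,0,1,0,1,0,2,0,1,0,1,0,2,0,1,0,1,0,1,0,2,0,1,0,1,0,1,0,2,0]),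
  (0,4,0,[]),
  (0,3,0,[]),
  (0,0,0,[]),
  (0,0,0,[])]]

end H84.J4N
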