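import Cfsg.Agent.H84.J4N.Rewrite

/-!
Generated data: derivations among the conjugates of the involution t.
-/

set_option autoImplicit false
set_option maxRecDepth 100000

namespace H84.J4N

/-- the word carrying the base line -/
def wLine : List ℕ := [1,0,2,0,1,0,2,0]
/-- the word of the element of order four -/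
def wPi : List ℕ := [1,0,1,0,1,0,1,1,0,1,0,1,0,1,1,0,1,0,1,0,1]
/-- the word carrying the second trio -/
def wU : List ℕ := [0,1,0,1,0,2,0,1,0,1,0,1,0,1,0,1,0,2]
/-- the word in the product defining s -/
def wS : List ℕ := [1,0,1,0,1,0,1,0,2,0]

/-- the relation of three trios -/
def tRelA : Rel := ([[1,0,2,0,1,0,2,0,2], [1,0,2,0,1,0,2,0,1], [1,0,2,0,1,0,2,0]], [])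
/-- the relation with an element of order two -/
def tRelB : Rel := ([[1,0,1,0,1,0,1,1,0,1,0,1,0,1,1,0,1,0,1,0,1], [0,1,0,1,0,2,0,1,0,1,0,1,0,1,0,2,0,1,0,2,0,1,0,1,0,2,0,1,0,1,0,1], [], [0,1,0,1,0,2,0,1,0,1,0,1,0,1,0,1,0,2]], [1,0,1,0,1,0,2,0,1,0,1,0,2,0,1,0,1,0,2,0,1,0,1,0,2,0,1,0,1,0,2,0,1,0,1,0,1])

/-- rearranged second relation -/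
def tPentagon : Rel × Rel × List Move :=
  (([[], [0,1,0,1,0,2,0,1,0,1,0,1,0,1,0,1,0,2], [1,0,2,0,1,0], [], [0,1,0,1,0,2,0,1,0,1,0,1,0,1,0,1,0,2]], [1,0,1,0,1,0,2,0,1,0,1,0,2,0,1,0,1,0,2,0,1,0,1,0,2,0,1,0,1,0,2,0,1,0,1,0,1]), ([[1,0,1,0,1,0,1,1,0,1,0,1,0,1,1,0,1,0,1,0,1], [0,1,0,1,0,2,0,1,0,1,0,1,0,1,0,2,0,1,0,2,0,1,0,1,0,2,0,1,0,1,0,1], [], [0,1,0,1,0,2,0,1,0,1,0,1,0,1,0,1,0,2]], [1,0,1,0,1,0,2,0,1,0,1,0,2,0,1,0,1,0,2,0,1,0,1,0,2,0,1,0,1,0,2,0,1,0,1,0,1]), [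
  (2,1,0,[1,0,1,0,2,0,1,0,2,0,1,0,1,0,2,0,2,0,1,0,1,0,1,0,1,0,1,0,2,0,2,0,1,0,1,0,1,0,1,0,1,0,2,0,2,0,1,0,1,0,2,0,1,0,2,0,2,0,1,0,1,0,2,0,1,0,2,0,2,0,1,0,1,0,1,0,1,0,2,0,2,0,1,0,1,0,2,0,2,0,1,0,1,0,1,0,2,0]),
  (0,3,0,[]),
  (0,2,0,[])])

/-- two trios of one sextet commute -/
def tGrid : Rel × Rel × List Move :=
  (([[], [1,0,2], [], [1,0,2]], []), ([], []), [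
  (1,2,0,[2,0,2,0,1,0,2,0,1,0,1,0,1,0,1,0,1,0,1]),
  (1,0,0,[1,0,2,0,1,0]),
  (2,1,0,[1,0,1,0,2,0,1,0,2,0,1,0,1,0,2,0,2,0,1,0,1,0,2,0,1,0,2,0,2,0,1,0,1,0,2,0,1,0,2,0,2,0,1,0,1,0,1,0,1,0,1,0,2,0,2,0,1,0,1,0,2,0,1,0,2,0,2,0,1,0,2,0,1,0,1,0,2,0,1,0,2,0,2,0,2,0,1,0]),
  (0,3,0,[]),
  (0,2,0,[]),
  (2,2,0,[1,0,1,0,2,0,1,0,2,0,1,0,1,0,2,0,2,0,1,0,1,0,1,0,1,0,1,0,2,0,2,0,1,0,1,0,1,0,1,0,2,0,2,0,2,0,1,0,1,0,1,0,2,0,1,0,2,0]),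
  (0,4,0,[]),
  (0,3,0,[]),
  (2,1,0,[1,0,1,0,2,0,2,0,2,0,2,0,1,0,1,0,2,0,1,0,2,0,2,0,1,0,1,0,1,0,1,0,1,0,2,0,2,0,1,0,1,0,2,0,1,0,2,0,2,0,1,0,1,0,2,0,1,0,2,0,2,0,1,0,1,0,1,0,1,0,1,0,2,0,2,0,1,0,1,0,2,0,1,0,2,0,2,0,1,0,2,0,1,0,1,0,1,0,1,0,2,0,2,0,2,0,1,0,1,0,2,0,1,0]),
  (0,3,0,[]),
  (0,2,0,[]),
  (2,1,0,[1,0,1,0,2,0,2,0,2,0,2,0,1,0,1,0,2,0,1,0,2,0,2,0,1,0,1,0,1,0,1,0,1,0,2,0,2,0,1,0,2,0,1,0,1,0,2,0,1,0,2,0,2,0,2,0,1,0,1,0,2]),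
  (0,3,0,[]),
  (2,1,0,[1,0,1,0,2,0,2,0,2,0,2,0,1,0,1,0,2,0,1,0,2,0,2,0,1,0,1,0,1,0,1,0,1,0,2,0,2,0,1,0,1,0,2,0,1,0,2,0,2,0,1,0,1,0,2,0,1,0,2,0,2,0,1,0,1,0,2,0,2,0,1,0]),
  (0,3,0,[]),
  (2,3,0,[1,0,1,0,2,0,1,0,2,0,1,0,1,0,2,0,2,0,1,0,1,0,1,0]),
  (0,5,0,[]),
  (0,4,0,[]),
  (0,0,0,[]),
  (0,1,0,[]),
  (0,0,0,[])])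

/-- s is an involution -/
def tSquare : Rel × Rel × List Move :=
  (([[1,0,1,0,1,0,1,0,2,0,1,1], [1,0,1,0,1,0,1,0,2,0,1], [1,0,1,0,1,0,1,0,2,0], [1,0,1,0,1,0,1,0,2,0,1,1], [1,0,1,0,1,0,1,0,2,0,1], [1,0,1,0,1,0,1,0,2,0]], []), ([], []), [
  (2,0,3,[0,1,0,1,0,2,0,2,0,1,0,1,0,2,0,1,0,1,0,1,0,2,0,1]),
  (0,3,0,[]),
  (0,2,0,[]),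
  (2,1,3,[0,1,0,1,0,2,0,2,0,1,0,1,0,1,0,1,0,1,0,2,0,2,0,1,0,1,0,1,0,1,0,1,0,2,0,2,0,1,0,1,0,2,0,1,0,2,0,2,0,1,0,1,0,2,0,1,0,2,0,2,0,1,0,1,0,1,0,1,0,1,0,1,0,1,0,2,0]),
  (0,4,0,[]),
  (0,3,0,[]),
  (2,0,3,[0,1,0,1,0,2,0,2,0,1,0,1,0,2,0,1,0,1,0,1,0,2,0]),
  (0,3,0,[]),
  (0,2,0,[]),
  (0,2,0,[]),
  (0,1,0,[]),
  (0,0,0,[])])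

/-- first stabiliser generator fixes s -/
def tFixA : Rel × Rel × List Move :=
  (([[1,0,1,0,1,0,1,0,2,0,1,1,0,1,0,2,0,2,0,2,0,2,0,1,0,1,0,1,0,1,0,2,0], [1,0,1,0,1,0,1,0,2,0,1,0,1,0,2,0,2,0,2,0,2,0,1,0,1,0,1,0,1,0,2,0], [1,0,1,0,1,0,1,0,2,0,0,1,0,2,0,2,0,2,0,2,0,1,0,1,0,1,0,1,0,2,0]], []), ([[1,0,1,0,1,0,1,0,2,0,1,1], [1,0,1,0,1,0,1,0,2,0,1], [1,0,1,0,1,0,1,0,2,0]], []), [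
  (1,3,0,[1,0,1,0,1,0,1,0,2,0]),
  (1,4,0,[1,0,1,0,1,0,1,0,2,0,1]),
  (1,5,0,[1,0,1,0,1,0,1,0,2,0,2]),
  (2,6,0,[1,0,1,0,2,0,1,0,2,0,1,0,1,0,2,0,2,0,1,0,1,0,2,0,1,0,2,0,2,0,1,0,1,0,2,0,1,0,1,0,1,0,2,0,1]),
  (2,0,3,[0,1,0,1,0,2,0,2,0,1,0,1,0,1,0,1,0,1,0,2,0,2,0,1,0,1,0,1,0,1,0,1,0,2,0,2,0,1,0,1,0,2,0,1,0,2,0,2,0,1,0,1,0,2,0,1,0,2,0,2,0,1,0,1,0,1,0,2,0,1,0,1,0,1,0,1,0,1,0,2,0]),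
  (0,3,0,[]),
  (0,2,0,[]),
  (2,1,3,[0,1,0,1,0,2,0,2,0,1,0,1,0,1,0,1,0,1,0,2,0,2,0,1,0,1,0,1,0,1,0,1,0,2,0,2,0,1,0,1,0,2,0,1,0,2,0,2,0,1,0,1,0,2,0,1,0,2,0,2,0,1,0,1,0,2,0,1,0,1,0,1,0,2,0]),
  (0,4,0,[]),
  (0,3,0,[]),
  (2,0,3,[0,1,0,1,0,2,0,2,0,1,0,1,0,1,0,1,0,1,0,1,0,1,0,2,0]),
  (0,3,0,[]),
  (0,2,0,[]),
  (2,2,3,[0,1,0,1,0,2,0,2,0,1,0,1,0,1,0,1,0,1,0,2,0,2,0,1,0,1,0,1,0,1,0,1,0,2,0,2,0,1,0,1,0,2,0,1,0,2,0,2,0,1,0,1,0,2,0,1,0,2,0,2,0,1,0,1,0,2,0,1,0,1,0,1,0,2,0]),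
  (0,5,0,[]),
  (0,4,0,[]),
  (2,1,3,[0,1,0,1,0,2,0,2,0,1,0,1,0,1,0,1,0,1,0,1,0,1,0,2,0]),
  (0,4,0,[]),
  (0,3,0,[]),
  (0,0,0,[]),
  (2,1,0,[1,0,1,0,2,0,2,0,2,0,2,0,1,0,1,0,2,0,1,0,2,0,2,0,1,0,1,0,1,0,1,0,1,0,2,0,2,0,1,0,1,0,2,0,1,0,2,0,2,0,1,0,1,0,2,0,1,0,2,0,2,0,1,0,1,0,1,0,1,0,1,0,2,0,1,0,2,0,2,0,2,0,2,0]),
  (0,3,0,[]),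
  (0,2,0,[]),
  (2,1,0,[1,0,1,0,2,0,2,0,2,0,2,0,1,0,1,0,2,0,1,0,2,0,2,0,1,0,1,0,1,0,1,0,1,0,2,0,2,0,1,0,1,0,2,0,1,0,2,0,2,0,1,0,1,0,2,0,1,0,1,0,1,0,2,0,1]),
  (0,3,0,[]),
  (2,0,3,[0,1,0,1,0,2,0,2,0,1,0,1,0,2,0,1,0,2,0,2,0,1,0,1,0,1,0,1,0,1,0,2,0,2,0,1,0,1,0,2,0,1,0,2,0,2,0,1,0,1,0,1,0,1,0,1,0,2,0,2,0,1,0,1,0,1,0,1,0,1,0,2,0,2,0,1,0,1,0,2,0,1,0,1,0,1,0,2,0,1]),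
  (0,3,0,[]),
  (0,2,0,[]),
  (2,2,3,[0,1,0,1,0,2,0,2,0,1,0,1,0,1,0,1,0,1,0,2,0,2,0,1,0,1,0,1,0,1,0,1,0,2,0,2,0,1,0,1,0,2,0,1,0,2,0,2,0,1,0,1,0,2,0,1,0,2,0,2,0,1,0,1,0,1,0,1,0,1,0,2,0,2,0,1,0,1,0,1,0,1,0,1,0,2,0,2,0,1,0,1,0,2,0,1,0,2,0,2,0,1,0,1,0,2,0,1,0,2,0,2,0,1,0,1,0,2,0,1,0,1,0,1,0,2,0,2]),
  (0,5,0,[]),
  (0,4,0,[]),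
  (2,1,0,[1,0,1,0,2,0,1,0,2,0,1,0,1,0,2,0,2,0,1,0,1,0,2,0,1,0,2,0,2,0,1,0,1,0,2,0,1,0,2,0,2,0,1,0,1,0,2,0,1,0,2,0,1,0,2,0,2,0,2,0,2,0]),
  (0,3,0,[]),
  (0,2,0,[]),
  (2,1,0,[1,0,1,0,2,0,1,0,2,0,1,0,1,0,2,0,2,0,1,0,1,0,2,0,1,0,2,0,2,0,1,0,1,0,1,0,1,0,1,0,1,0,1,0,2,0,2]),
  (0,3,0,[]),
  (2,3,0,[1,0,1,0,2,0,2,0,2,0,2,0,1,0,1,0,2,0,1,0,2,0,2,0,1,0,1,0,1,0,1,0,1,0,2,0,2,0,1,0,1,0,2,0,1,0,2,0,2,0,1,0,1,0,2,0,1,0,2,0,2,0,1,0,1,0,1,0,1,0,1,0,2,0,1,0,2,0,2,0,2,0,2,0]),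
  (0,5,0,[]),
  (0,4,0,[]),
  (2,3,0,[1,0,1,0,2,0,2,0,2,0,2,0,1,0,1,0,2,0,1,0,2,0,2,0,1,0,1,0,1,0,1,0,1,0,2,0,2,0,1,0,1,0,2,0,1,0,2,0,2,0,1,0,1,0,2,0,1,0,1,0,1,0,2,0,1]),
  (0,5,0,[]),
  (2,2,3,[0,1,0,1,0,2,0,2,0,1,0,1,0,2,0,1,0,2,0,2,0,1,0,1,0,1,0,1,0,1,0,2,0,2,0,1,0,1,0,2,0,1,0,2,0,2,0,1,0,1,0,1,0,1,0,1,0,2,0,2,0,1,0,1,0,1,0,1,0,1,0,2,0,2,0,1,0,1,0,2,0,1,0,1,0,1,0,2,0,1]),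
  (0,5,0,[]),
  (0,4,0,[]),
  (2,1,3,[0,1,0,1,0,2,0,2,0,1,0,1,0,2,0,1,0,1,0,1,0,2,0,1]),
  (0,4,0,[]),
  (0,3,0,[]),
  (0,0,0,[]),
  (2,2,0,[1,0,1,0,2,0,1,0,2,0,1,0,1,0,2,0,2,0,1,0,1,0,2,0,1,0,2,0,2,0,1,0,1,0,2,0,1,0,1,0,1,0,2,0,1]),
  (0,4,0,[]),
  (0,3,0,[]),
  (2,2,0,[1,0,1,0,2,0,1,0,2,0,1,0,1,0,2,0,2,0,1,0,1,0,2,0,1,0,2,0,2,0,1,0,1,0,2,0,1,0,2,0,2,0,1,0,1,0,1,0,1,0,1,0,2,0,1,0,2,0,2,0,2,0,2,0]),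
  (0,4,0,[]),
  (0,3,0,[]),
  (2,3,0,[1,0,1,0,2,0,1,0,2,0,1,0,1,0,2,0,2,0,1,0,1,0,2,0,1,0,2,0,2,0,1,0,1,0,1,0,1,0,1,0,1,0,1,0,2,0,2]),
  (2,2,0,[1,0,1,0,2,0,1,0,2,0,1,0,1,0,2,0,2,0,1,0,1,0,2,0,1,0,2,0,2,0,1,0,1,0,2,0,1,0,2,0,2,0,1,0,1,0,1,0,1,0,1,0,2,0,2,0,1,0,1,0,2,0,1,0,2,0,2,0,1,0,1,0,2,0,1,0,2,0,2,0,1,0,2,0,1,0,1,0,1,0,1,0,2,0]),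
  (0,4,0,[]),
  (0,3,0,[]),
  (2,2,0,[1,0,1,0,2,0,1,0,2,0,1,0,1,0,2,0,2,0,1,0,1,0,1,0,1,0,1,0,2,0,2,0,1,0,1,0,1,0,1,0,1,0,2,0,2,0,1,0,1,0,2,0,1,0,1,0,1,0,2,0,2]),
  (0,4,0,[]),
  (2,1,0,[1,0,1,0,2,0,1,0,2,0,1,0,1,0,2,0,2,0,1,0,1,0,2,0,1,0,2,0,2,0,1,0,1,0,2,0,1,0,2,0,2,0,1,0,1,0,2,0,1,0,2,0,1,0,2,0,2,0,2,0,2,0]),
  (0,3,0,[]),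
  (0,2,0,[]),
  (2,1,0,[1,0,1,0,2,0,1,0,2,0,1,0,1,0,2,0,2,0,1,0,1,0,2,0,1,0,2,0,2,0,1,0,1,0,1,0,1,0,1,0,1,0,1,0,2,0,2]),
  (0,3,0,[]),
  (0,0,0,[]),
  (2,1,0,[1,0,1,0,2,0,1,0,2,0,1,0,1,0,2,0,2,0,1,0,1,0,2,0,1,0,2,0,2,0,1,0,1,0,1,0,1,0,1,0,1,0,1,0,2,0,2]),
  (0,3,0,[]),
  (0,2,0,[]),
  (2,1,0,[1,0,1,0,2,0,2,0,2,0,2,0,1,0,1,0,2,0,1,0,2,0,2,0,1,0,1,0,1,0,1,0,1,0,2,0,2,0,1,0,1,0,2,0,1,0,2,0,2,0,1,0,1,0,2,0,1,0,2,0,2,0,1,0,1,0,1,0,1,0,1,0,2,0,2,0,1,0,1,0,2,0,1,0,2,0,2,0,1,0,1,0,2,0,1,0,2,0,2,0,1,0,2,0,1,0,1,0,1,0,1,0,2,0]),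
  (0,3,0,[]),
  (0,0,0,[]),
  (0,0,0,[])])

/-- second stabiliser generator fixes s -/
def tFixB : Rel × Rel × List Move :=
  (([[1,0,1,0,1,0,1,0,2,0,1,1,0,1,0,1,0,1,0,1,0,1,0,1,0,1,0,2,0,1,0,1,0,2,0,2,0,2,0], [1,0,1,0,1,0,1,0,2,0,1,0,1,0,1,0,1,0,1,0,1,0,1,0,1,0,2,0,1,0,1,0,2,0,2,0,2,0], [1,0,1,0,1,0,1,0,2,0,0,1,0,1,0,1,0,1,0,1,0,1,0,1,0,2,0,1,0,1,0,2,0,2,0,2,0]], []), ([[1,0,1,0,1,0,1,0,2,0,1,1], [1,0,1,0,1,0,1,0,2,0,1], [1,0,1,0,1,0,1,0,2,0]], []), [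
  (1,3,0,[1,0,1,0,1,0,1,0,2,0]),
  (1,4,0,[1,0,1,0,1,0,1,0,2,0,1]),
  (1,5,0,[1,0,1,0,1,0,1,0,2,0,2]),
  (2,6,0,[1,0,1,0,2,0,1,0,2,0,1,0,1,0,2,0,2,0,1,0,1,0,2,0,1,0,2,0,2,0,1,0,1,0,1,0,1,0,1,0,1,0,1,0,2,0]),
  (2,0,3,[0,1,0,1,0,2,0,2,0,1,0,1,0,1,0,1,0,1,0,2,0,2,0,1,0,1,0,1,0,1,0,1,0,2,0,2,0,1,0,1,0,2,0,1,0,2,0,2,0,1,0,1,0,2,0,1,0,2,0,2,0,1,0,1,0,1,0,1,0,1,0,2,0,2,0,1,0,1,0,1,0,1,0,1,0,2,0,1,0,2,0,2,0,2,0,2,0]),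
  (0,3,0,[]),
  (0,2,0,[]),
  (2,1,3,[0,1,0,1,0,2,0,2,0,1,0,1,0,1,0,1,0,1,0,2,0,2,0,1,0,1,0,1,0,1,0,1,0,2,0,2,0,1,0,1,0,1,0,1,0,1,0,2,0,2,0,1,0,1,0,2,0,1,0,2,0,2,0,1,0,1,0,1,0,1,0,1,0,2,0,2,0,1,0,1,0,2,0,1,0,2,0,2,0,1,0,2,0,1,0,1,0,1,0,1,0,2,0,1]),
  (0,4,0,[]),
  (0,3,0,[]),
  (2,0,3,[0,1,0,1,0,2,0,2,0,1,0,1,0,2,0,1,0,2,0,2,0,1,0,1,0,1,0,1,0,1,0,2,0,2,0,1,0,1,0,2,0,1,0,2,0,2,0,1,0,1,0,1,0,1,0,1,0,2,0,2,0,1,0,1,0,1,0,1,0,1,0,2,0,2,0,1,0,2,0,1,0,1,0,1,0,1,0,2,0,1]),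
  (0,3,0,[]),
  (0,2,0,[]),
  (2,2,0,[1,0,1,0,2,0,2,0,2,0,2,0,1,0,1,0,2,0,1,0,2,0,2,0,1,0,1,0,1,0,1,0,1,0,2,0,2,0,1,0,1,0,2,0,1,0,2,0,2,0,1,0,1,0,2,0,1,0,2,0,2,0,1,0,1,0,1,0,1,0,1,0,2,0,1,0,2,0,2,0,2,0,2,0,2]),
  (0,4,0,[]),
  (0,3,0,[]),
  (2,2,0,[1,0,1,0,2,0,2,0,2,0,2,0,1,0,1,0,2,0,1,0,2,0,2,0,1,0,1,0,1,0,1,0,1,0,2,0,2,0,1,0,1,0,2,0,1,0,2,0,2,0,1,0,1,0,2,0,1,0,1,0,1,0,2,0]),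
  (0,4,0,[]),
  (2,1,0,[1,0,1,0,2,0,1,0,2,0,1,0,1,0,2,0,2,0,1,0,1,0,1,0,1,0,1,0,2,0,1,0,2,0,1,0,1,0,2,0,2,0,2,0,2,0,1,0,2,0,2]),
  (0,3,0,[]),
  (0,2,0,[]),
  (2,1,0,[1,0,1,0,2,0,2,0,2,0,2,0,1,0,1,0,2,0,1,0,2,0,2,0,1,0,1,0,1,0,1,0,1,0,2,0,2,0,1,0,1,0,2,0,1,0,2,0,2,0,1,0,1,0,2,0,1,0,2,0,2,0,1,0,1,0,1,0,1,0,1,0,2,0,2,0,1,0,1,0,2,0,1,0,2,0,2,0,1,0,1,0,2,0,1,0,2,0,2,0,1,0,1,0,2,0,1,0,1,0,1,0,2,0]),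
  (0,3,0,[]),
  (2,0,0,[1,0,1,0,2,0,1,0,2,0,1,0,1,0,2,0,2,0,1,0,1,0,2,0,1,0,2,0,2,0,1,0,1,0,2,0,1,0,2,0,2,0,1,0,1,0,2,0,1,0,2,0,1,0,2,0,2,0,2,0,2,0,1]),
  (0,2,0,[]),
  (0,1,0,[]),
  (2,0,0,[1,0,1,0,2,0,1,0,2,0,1,0,1,0,2,0,2,0,1,0,1,0,2,0,1,0,2,0,2,0,1,0,1,0,1,0,1,0,1,0,1,0,1,0,2,0]),
  (0,2,0,[]),
  (2,3,3,[0,1,0,1,0,2,0,2,0,1,0,1,0,1,0,1,0,1,0,2,0,2,0,1,0,1,0,1,0,1,0,1,0,2,0,2,0,1,0,1,0,2,0,1,0,2,0,2,0,1,0,1,0,2,0,1,0,2,0,2,0,1,0,1,0,1,0,1,0,1,0,2,0,2,0,1,0,1,0,1,0,1,0,1,0,2,0,2,0,1,0,1,0,2,0,1,0,2,0,2,0,1,0,1,0,2,0,1,0,2,0,2,0,1,0,1,0,2,0,1,0,1,0,1,0,2,0,1]),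
  (0,6,0,[]),
  (0,5,0,[]),
  (2,2,0,[1,0,1,0,2,0,2,0,2,0,2,0,1,0,1,0,2,0,1,0,2,0,2,0,1,0,1,0,1,0,1,0,1,0,2,0,2,0,1,0,1,0,2,0,1,0,2,0,2,0,1,0,1,0,2,0,1,0,2,0,2,0,1,0,1,0,1,0,1,0,1,0,2,0,2,0,1,0,1,0,2,0,1,0,2,0,2,0,1,0,1,0,1,0,1,0,2,0,2,0,1,0,1,0,2,0,2,0,1,0,2,0,1,0,2,0,1]),
  (0,4,0,[]),
  (0,3,0,[]),
  (2,2,0,[1,0,1,0,2,0,1,0,2,0,1,0,1,0,2,0,2,0,1,0,1,0,2,0,1,0,2,0,2,0,1,0,1,0,2,0,1,0,1,0,1,0,2,0,1]),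
  (0,4,0,[]),
  (2,1,3,[0,1,0,1,0,2,0,2,0,1,0,1,0,1,0,1,0,1,0,1,0,1,0,2,0,1]),
  (0,4,0,[]),
  (0,3,0,[]),
  (2,4,3,[0,1,0,1,0,2,0,2,0,1,0,1,0,1,0,1,0,1,0,2,0,2,0,1,0,1,0,1,0,1,0,1,0,2,0,2,0,1,0,1,0,2,0,1,0,2,0,2,0,1,0,1,0,2,0,1,0,2,0,2,0,1,0,1,0,2,0,1,0,1,0,1,0,2,0,2]),
  (0,7,0,[]),
  (0,6,0,[]),
  (2,3,0,[1,0,1,0,2,0,1,0,2,0,1,0,1,0,2,0,2,0,1,0,1,0,2,0,1,0,2,0,2,0,1,0,1,0,2,0,1,0,2,0,2,0,1,0,1,0,1,0,1,0,1,0,2,0,2,0,1,0,1,0,2,0,1,0,2,0,2,0,1,0,1,0,2,0,1,0,2,0,2,0,1,0,2,0,1,0,1,0,1,0,1,0,2,0]),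
  (0,5,0,[]),
  (0,4,0,[]),
  (2,3,0,[1,0,1,0,2,0,1,0,2,0,1,0,1,0,2,0,2,0,1,0,1,0,1,0,1,0,1,0,2,0,2,0,1,0,1,0,1,0,1,0,1,0,2,0,2,0,1,0,1,0,2,0,1,0,1,0,1,0,2,0,2]),
  (0,5,0,[]),
  (2,2,3,[0,1,0,1,0,2,0,2,0,1,0,1,0,2,0,1,0,2,0,2,0,1,0,1,0,1,0,1,0,1,0,2,0,2,0,1,0,1,0,2,0,1,0,2,0,2,0,1,0,1,0,1,0,1,0,1,0,2,0,2,0,1,0,1,0,1,0,1,0,1,0,2,0,2,0,1,0,1,0,2,0,1,0,1,0,1,0,2,0,2]),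
  (0,5,0,[]),
  (0,4,0,[]),
  (2,5,0,[1,0,1,0,2,0,2,0,2,0,2,0,1,0,1,0,2,0,1,0,2,0,2,0,1,0,1,0,1,0,1,0,1,0,2,0,2,0,1,0,1,0,2,0,1,0,2,0,2,0,1,0,1,0,2,0,1,0,2,0,2,0,1,0,1,0,1,0,1,0,1,0,2,0,1,0,2,0,2,0,2,0,2,0,2]),
  (0,7,0,[]),
  (0,6,0,[]),
  (2,5,0,[1,0,1,0,2,0,2,0,2,0,2,0,1,0,1,0,2,0,1,0,2,0,2,0,1,0,1,0,1,0,1,0,1,0,2,0,2,0,1,0,1,0,2,0,1,0,2,0,2,0,1,0,1,0,2,0,1,0,1,0,1,0,2,0]),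
  (0,7,0,[]),
  (2,4,0,[1,0,1,0,2,0,1,0,2,0,1,0,1,0,2,0,2,0,1,0,1,0,1,0,1,0,1,0,2,0,1,0,2,0,1,0,1,0,2,0,2,0,2,0,2,0,1,0,2,0,2]),
  (0,6,0,[]),
  (0,5,0,[]),
  (2,4,0,[1,0,1,0,2,0,2,0,2,0,2,0,1,0,1,0,2,0,1,0,2,0,2,0,1,0,1,0,1,0,1,0,1,0,2,0,2,0,1,0,1,0,2,0,1,0,2,0,2,0,1,0,1,0,2,0,1,0,2,0,2,0,1,0,1,0,1,0,1,0,1,0,2,0,2,0,1,0,1,0,2,0,1,0,2,0,2,0,1,0,1,0,2,0,1,0,2,0,2,0,1,0,1,0,2,0,1,0,1,0,1,0,2,0]),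
  (0,6,0,[]),
  (2,3,0,[1,0,1,0,2,0,1,0,2,0,1,0,1,0,2,0,2,0,1,0,1,0,2,0,1,0,2,0,2,0,1,0,1,0,2,0,1,0,2,0,2,0,1,0,1,0,2,0,1,0,2,0,1,0,2,0,2,0,2,0,2,0,1]),
  (0,5,0,[]),
  (0,4,0,[]),
  (2,3,0,[1,0,1,0,2,0,1,0,2,0,1,0,1,0,2,0,2,0,1,0,1,0,2,0,1,0,2,0,2,0,1,0,1,0,1,0,1,0,1,0,1,0,1,0,2,0]),
  (0,5,0,[]),
  (2,2,3,[0,1,0,1,0,2,0,2,0,1,0,1,0,1,0,1,0,1,0,2,0,2,0,1,0,1,0,1,0,1,0,1,0,2,0,2,0,1,0,1,0,2,0,1,0,2,0,2,0,1,0,1,0,2,0,1,0,2,0,2,0,1,0,1,0,1,0,1,0,1,0,1,0,1,0,2,0]),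
  (0,5,0,[]),
  (0,4,0,[]),
  (2,1,3,[0,1,0,1,0,2,0,2,0,1,0,1,0,2,0,1,0,1,0,1,0,2,0]),
  (0,4,0,[]),
  (0,3,0,[]),
  (0,0,0,[]),
  (2,4,3,[0,1,0,1,0,2,0,2,0,1,0,1,0,1,0,1,0,1,0,2,0,2,0,1,0,1,0,1,0,1,0,1,0,2,0,2,0,1,0,1,0,1,0,1,0,1,0,2,0,2,0,1,0,1,0,2,0,1,0,2,0,2,0,1,0,1,0,1,0,1,0,1,0,2,0,2,0,1,0,1,0,2,0,1,0,2,0,2,0,1,0,2,0,1,0,1,0,1,0,1,0,2,0,1]),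
  (0,7,0,[]),
  (0,6,0,[]),
  (2,3,3,[0,1,0,1,0,2,0,2,0,1,0,1,0,2,0,1,0,2,0,2,0,1,0,1,0,1,0,1,0,1,0,2,0,2,0,1,0,1,0,2,0,1,0,2,0,2,0,1,0,1,0,1,0,1,0,1,0,2,0,2,0,1,0,1,0,1,0,1,0,1,0,2,0,2,0,1,0,2,0,1,0,1,0,1,0,1,0,2,0,1]),
  (0,6,0,[]),
  (0,5,0,[]),
  (0,2,0,[]),
  (2,3,3,[0,1,0,1,0,2,0,2,0,1,0,1,0,2,0,1,0,2,0,2,0,1,0,1,0,1,0,1,0,1,0,2,0,2,0,1,0,1,0,2,0,1,0,2,0,2,0,1,0,1,0,1,0,1,0,1,0,2,0,2,0,1,0,1,0,1,0,1,0,1,0,2,0,2,0,1,0,1,0,2,0,1,0,2,0,2,0,1,0,1,0,2,0,1,0,2,0,1,0,2,0,2,0,2,0,2,0,1]),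
  (0,6,0,[]),
  (0,5,0,[]),
  (2,5,0,[1,0,1,0,2,0,1,0,2,0,1,0,1,0,2,0,2,0,1,0,1,0,2,0,1,0,2,0,2,0,1,0,1,0,2,0,1,0,1,0,1,0,2,0,1]),
  (2,4,3,[0,1,0,1,0,2,0,2,0,1,0,1,0,1,0,1,0,1,0,2,0,2,0,1,0,1,0,1,0,1,0,1,0,2,0,2,0,1,0,1,0,2,0,1,0,2,0,2,0,1,0,1,0,2,0,1,0,2,0,2,0,1,0,1,0,1,0,1,0,1,0,2,0,2,0,1,0,1,0,1,0,1,0,1,0,2,0,2,0,1,0,1,0,2,0,1,0,2,0,2,0,1,0,1,0,2,0,1,0,2,0,2,0,1,0,1,0,2,0,1,0,1,0,1,0,2,0,1]),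
  (0,7,0,[]),
  (0,6,0,[]),
  (2,3,0,[1,0,1,0,2,0,1,0,2,0,1,0,1,0,2,0,2,0,1,0,1,0,1,0,1,0,1,0,2,0,1,0,2,0,1,0,1,0,2,0,2,0,2,0,2,0,1,0,2,0]),
  (0,5,0,[]),
  (0,4,0,[]),
  (2,3,0,[1,0,1,0,2,0,2,0,2,0,2,0,1,0,1,0,2,0,1,0,2,0,2,0,1,0,1,0,1,0,1,0,1,0,2,0,2,0,1,0,1,0,2,0,1,0,2,0,2,0,1,0,1,0,2,0,1,0,2,0,2,0,1,0,1,0,1,0,1,0,1,0,2,0,2,0,1,0,1,0,2,0,1,0,2,0,2,0,1,0,1,0,2,0,1,0,2,0,2,0,1,0,1,0,2,0,1,0,1,0,1,0,2,0,1]),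
  (0,5,0,[]),
  (2,2,0,[1,0,1,0,2,0,2,0,2,0,2,0,1,0,1,0,2,0,1,0,2,0,2,0,1,0,1,0,1,0,1,0,1,0,2,0,2,0,1,0,1,0,2,0,1,0,2,0,2,0,1,0,1,0,2,0,1,0,2,0,2,0,1,0,1,0,1,0,1,0,1,0,2,0,2,0,1,0,1,0,2,0,1,0,2,0,2,0,1,0,1,0,1,0,1,0,2,0,2,0,1,0,1,0,2,0,2,0,1,0,2,0,1,0,2,0,1]),
  (0,4,0,[]),
  (0,3,0,[]),
  (2,2,0,[1,0,1,0,2,0,1,0,2,0,1,0,1,0,2,0,2,0,1,0,1,0,2,0,1,0,2,0,2,0,1,0,1,0,2,0,1,0,1,0,1,0,2,0,1]),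
  (0,4,0,[]),
  (2,1,3,[0,1,0,1,0,2,0,2,0,1,0,1,0,2,0,1,0,1,0,1,0,2,0,1]),
  (0,4,0,[]),
  (0,3,0,[]),
  (0,0,0,[]),
  (2,3,3,[0,1,0,1,0,2,0,2,0,1,0,1,0,1,0,1,0,1,0,2,0,2,0,1,0,1,0,1,0,1,0,1,0,2,0,2,0,1,0,1,0,2,0,1,0,2,0,2,0,1,0,1,0,2,0,1,0,2,0,2,0,1,0,1,0,1,0,1,0,1,0,2,0,2,0,1,0,1,0,1,0,1,0,1,0,2,0,1,0,2,0,2,0,2,0,2,0]),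
  (0,6,0,[]),
  (0,5,0,[]),
  (2,2,3,[0,1,0,1,0,2,0,2,0,1,0,1,0,2,0,1,0,2,0,2,0,1,0,1,0,2,0,1,0,2,0,1,0,2,0,2,0,2,0,2,0]),
  (0,5,0,[]),
  (0,4,0,[]),
  (0,1,0,[]),
  (2,4,0,[1,0,1,0,2,0,1,0,2,0,1,0,1,0,2,0,2,0,1,0,1,0,2,0,1,0,2,0,2,0,1,0,1,0,2,0,1,0,1,0,1,0,2,0,2]),
  (2,3,3,[0,1,0,1,0,2,0,2,0,1,0,1,0,1,0,1,0,1,0,2,0,2,0,1,0,1,0,1,0,1,0,1,0,2,0,2,0,1,0,1,0,2,0,1,0,2,0,2,0,1,0,1,0,2,0,1,0,2,0,2,0,1,0,1,0,1,0,1,0,1,0,2,0,2,0,1,0,1,0,1,0,1,0,1,0,2,0,2,0,1,0,1,0,2,0,1,0,2,0,2,0,1,0,1,0,2,0,1,0,2,0,2,0,1,0,1,0,2,0,1,0,1,0,1,0,2,0,2]),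
  (0,6,0,[]),
  (0,5,0,[]),
  (2,2,3,[0,1,0,1,0,2,0,2,0,1,0,1,0,1,0,1,0,1,0,2,0,2,0,1,0,1,0,1,0,1,0,1,0,2,0,2,0,1,0,1,0,2,0,1,0,2,0,2,0,1,0,1,0,2,0,1,0,2,0,2,0,1,0,1,0,2,0,1,0,1,0,1,0,2,0,2]),
  (0,5,0,[]),
  (0,4,0,[]),
  (2,1,0,[1,0,1,0,2,0,2,0,2,0,2,0,1,0,1,0,2,0,1,0,2,0,2,0,1,0,1,0,1,0,1,0,1,0,2,0,2,0,1,0,1,0,2,0,1,0,2,0,2,0,1,0,1,0,2,0,1,0,2,0,2,0,1,0,1,0,1,0,1,0,1,0,2,0,2,0,1,0,1,0,2,0,1,0,2,0,2,0,1,0,1,0,1,0,1,0,2,0,2,0,1,0,1,0,2,0,2,0,1,0,2,0,1,0,2,0,2]),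
  (0,3,0,[]),
  (0,2,0,[]),
  (2,1,0,[1,0,1,0,2,0,1,0,2,0,1,0,1,0,2,0,2,0,1,0,1,0,2,0,1,0,2,0,2,0,1,0,1,0,2,0,1,0,1,0,1,0,2,0,2]),
  (0,3,0,[]),
  (0,0,0,[]),
  (2,2,3,[0,1,0,1,0,2,0,2,0,1,0,1,0,1,0,1,0,1,0,2,0,2,0,1,0,1,0,1,0,1,0,1,0,2,0,2,0,1,0,1,0,2,0,1,0,2,0,2,0,1,0,1,0,2,0,1,0,2,0,2,0,1,0,1,0,1,0,1,0,1,0,2,0,2,0,1,0,1,0,1,0,1,0,1,0,2,0,1,0,2,0,2,0,2,0,2,0,1]),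
  (0,5,0,[]),
  (0,4,0,[]),
  (2,1,3,[0,1,0,1,0,2,0,2,0,1,0,1,0,2,0,1,0,2,0,2,0,1,0,1,0,1,0,1,0,1,0,2,0,2,0,1,0,1,0,2,0,1,0,2,0,2,0,1,0,1,0,1,0,1,0,1,0,2,0,2,0,1,0,1,0,1,0,1,0,1,0,2,0,2,0,1,0,1,0,2,0,1,0,2,0,2,0,1,0,1,0,2,0,1,0,2,0,1,0,2,0,2,0,2,0,2,0,1]),
  (0,4,0,[]),
  (0,3,0,[]),
  (0,0,0,[]),
  (2,3,0,[1,0,1,0,2,0,2,0,2,0,2,0,1,0,1,0,2,0,1,0,2,0,2,0,1,0,1,0,1,0,1,0,1,0,2,0,2,0,1,0,1,0,1,0,1,0,2,0,2,0,1,0,1,0,2,0,2,0,1,0,2,0,1,0,2,0]),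
  (2,2,0,[1,0,1,0,2,0,1,0,2,0,1,0,1,0,2,0,2,0,1,0,1,0,1,0,1,0,2,0,2,0,1,0,1,0,2,0,2,0,1,0,2,0,1,0,2,0,1]),
  (0,4,0,[]),
  (0,3,0,[]),
  (2,2,0,[1,0,1,0,2,0,1,0,2,0,1,0,1,0,2,0,2,0,1,0,1,0,1,0,1,0,2,0,2,0,1,0,1,0,2,0,2,0,1,0,2,0,1,0,2,0]),
  (0,4,0,[]),
  (2,1,0,[1,0,1,0,2,0,2,0,2,0,2,0,1,0,1,0,2,0,1,0,2,0,2,0,1,0,1,0,1,0,1,0,1,0,2,0,2,0,1,0,1,0,1,0,1,0,2,0,2,0,1,0,1,0,2,0,2,0,1,0,2,0,1,0,2,0,2]),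
  (0,3,0,[]),
  (0,2,0,[]),
  (2,1,0,[1,0,1,0,2,0,2,0,2,0,2,0,1,0,1,0,2,0,1,0,2,0,2,0,1,0,1,0,1,0,1,0,1,0,2,0,2,0,1,0,1,0,1,0,1,0,2,0,2,0,1,0,1,0,2,0,2,0,1,0,2,0,1,0,2,0]),
  (0,3,0,[]),
  (0,0,0,[]),
  (2,1,0,[1,0,1,0,2,0,2,0,2,0,2,0,1,0,1,0,2,0,1,0,2,0,2,0,1,0,1,0,1,0,1,0,1,0,2,0,2,0,1,0,1,0,1,0,1,0,2,0,2,0,1,0,1,0,2,0,2,0,1,0,2,0,1,0,2,0]),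
  (0,3,0,[]),
  (0,2,0,[]),
  (2,1,0,[1,0,1,0,2,0,2,0,2,0,2,0,1,0,1,0,2,0,1,0,2,0,2,0,1,0,1,0,1,0,1,0,1,0,2,0,2,0,1,0,1,0,1,0,1,0,2,0,2,0,1,0,1,0,2,0,2,0,1,0,2,0,1,0,2,0,1]),
  (0,3,0,[]),
  (0,0,0,[]),
  (0,0,0,[])])

/-- three sextets in a trio -/
def tFano : Rel × Rel × List Move :=
  (([[1,0,1,0,1,0,1,0,2,0,1,1,0,1,0,1,0,1,0,2,0,2,0,2], [1,0,1,0,1,0,1,0,2,0,1,0,1,0,1,0,1,0,2,0,2,0,2], [1,0,1,0,1,0,1,0,2,0,0,1,0,1,0,1,0,2,0,2,0,2], [1,0,1,0,1,0,1,0,2,0,1,1,0,1,0,2,0,1,0,1,0,1,0,1,0,1,0,1,0,2,0,1,0,1,0,2], [1,0,1,0,1,0,1,0,2,0,1,0,1,0,2,0,1,0,1,0,1,0,1,0,1,0,1,0,2,0,1,0,1,0,2], [1,0,1,0,1,0,1,0,2,0,0,1,0,2,0,1,0,1,0,1,0,1,0,1,0,1,0,2,0,1,0,1,0,2],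 [1,0,1,0,1,0,1,0,2,0,1,1,0,1,0,1,0,1,0,1,0,2,0,1,0,1,0,1], [1,0,1,0,1,0,1,0,2,0,1,0,1,0,1,0,1,0,1,0,2,0,1,0,1,0,1], [1,0,1,0,1,0,1,0,2,0,0,1,0,1,0,1,0,1,0,2,0,1,0,1,0,1]], []), ([], []), [
  (2,6,0,[1,0,1,0,2,0,2,0,2,0,2,0,1,0,1,0,2,0,1,0,2,0,2,0,1,0,1,0,1,0,1,0,1,0,2,0,2,0,1,0,1,0,2,0,1,0,2,0,2,0,1,0,1,0,2,0,1,0,2,0,2,0,1,0,1,0,1,0,1,0,1,0,2,0,2,0,1,0,1,0,2,0,1,0,2,0,2,0,1,0,1,0,1,0,1,0,2,0]),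
  (0,8,0,[]),
  (2,8,3,[0,1,0,1,0,2,0,2,0,1,0,1,0,1,0,1,0,1,0,2,0,2,0,1,0,1,0,2,0,1,0,2,0,2,0,1,0,1,0,2,0,1,0,2,0,2,0,1,0,1,0,1]),
  (0,11,0,[]),
  (0,10,0,[]),
  (2,7,0,[1,0,1,0,2,0,1,0,2,0,1,0,1,0,2,0,2,0,1,0,1,0,2,0,1,0,2,0,2,0,1,0,1,0,2,0,1,0,2,0,2,0,1,0,1,0,1,0,1,0,1,0,2,0,2,0,1,0,1,0,2,0,1,0,2,0,2,0,1,0,2,0,1,0,1,0,2,0,1,0,2,0,2,0,2,0,1]),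
  (0,9,0,[]),
  (0,8,0,[]),
  (2,7,0,[1,0,1,0,2,0,2,0,2,0,2,0,1,0,1,0,2,0,1,0,2,0,2,0,1,0,1,0,1,0,1,0,1,0,2,0,2,0,1,0,1,0,2,0,1,0,2,0,2,0,1,0,1,0,2,0,1,0,2,0,2,0,1,0,1,0,1,0,1,0,1,0,2,0,2,0,1,0,1,0,2,0,1,0,2,0,2,0,1,0,1,0,1]),
  (0,9,0,[]),
  (2,6,3,[0]),
  (0,9,0,[]),
  (0,8,0,[]),
  (2,6,0,[1,0,1,0,2,0,2,0,2,0,2,0,1,0,1,0,2,0,1,0,2,0,2,0,1,0,1,0,1,0,1,0,1,0,2,0,2,0,1,0,1,0,1,0,1,0,1,0,2,0,2,0,1,0,1,0,2,0,2,0]),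
  (2,8,0,[1,0,1,0,2,0,2,0,2,0,2,0,1,0,1,0,2,0,1,0,2,0,2,0,1,0,1,0,1,0,1,0,1,0,2,0,2,0,1,0,1,0,2,0,1,0,2,0,2,0,1,0,1,0,2,0,1,0,2,0,2,0,1,0,1,0,1,0,1,0,1,0,2,0,2,0,1,0,1,0,2,0,1,0,2,0,2,0,2,0,2,0,1,0,2,0,2,0,2]),
  (0,10,0,[]),
  (0,9,0,[]),
  (2,8,0,[1,0,1,0,2,0,1,0,2,0,1,0,1,0,2,0,2,0,1,0,1,0,1,0,1,0,1,0,2,0,2,0,1,0,1,0,1,0]),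
  (0,10,0,[]),
  (2,7,3,[0,1,0,1,0,2,0,2,0,1,0,1,0,2,0,1,0,2,0,2,0,1,0,1,0,1,0,1,0,1,0,2,0,2,0,1,0,1,0,2,0,1,0,2,0,2,0,1,0,1,0,1]),
  (0,10,0,[]),
  (0,9,0,[]),
  (2,6,3,[0]),
  (0,9,0,[]),
  (0,8,0,[]),
  (2,9,0,[1,0,1,0,2,0,1,0,2,0,1,0,1,0,2,0,2,0,1,0,1,0,1,0,1,0,1,0,2,0,2,0,1,0,1,0,1,0,1,0,1,0,2,0,2,0,1,0,1,0,2,0,2,0,1,0,2,0,2,0,1,0,2,0,1,0,1]),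
  (0,11,0,[]),
  (0,10,0,[]),
  (2,9,0,[1,0,1,0,2,0,1,0,2,0,1,0,1,0,2,0,2,0,1,0,1,0,1,0,1,0,1,0,2,0,2,0,1,0,1,0,2,0,2,0]),
  (0,11,0,[]),
  (2,8,0,[1,0,1,0,2,0,2,0,2,0,2,0,1,0,1,0,2,0,1,0,2,0,2,0,1,0,1,0,1,0,1,0,1,0,2,0,2,0,1,0,1,0,2,0,1,0,2,0,2,0,1,0,1,0,2,0,1,0,2,0,2,0,1,0,1,0,1,0,2,0,2,0,1,0,2,0,1,0,1,0,2,0,1,0,1,0]),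
  (0,10,0,[]),
  (0,9,0,[]),
  (2,8,0,[1,0,1,0,2,0,2,0,2,0,2,0,1,0,1,0,2,0,1,0,2,0,2,0,1,0,1,0,1,0,1,0,1,0,2,0,2,0,1,0,1,0,1,0,1,0,1,0,2,0,2,0,1,0,1,0,2,0,2,0]),
  (0,10,0,[]),
  (0,7,0,[]),
  (2,8,3,[0,1,0,1,0,2,0,2,0,1,0,1,0,2,0,1,0,2,0,2,0,1,0,1,0,1,0,1,0,2,0,1]),
  (0,11,0,[]),
  (0,10,0,[]),
  (2,7,3,[0,1,0,1,0,2,0,2,0,1,0,1,0,1,0,1,0,1,0,2,0,2,0,1,0,1,0,2,0,2,0,1]),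
  (0,10,0,[]),
  (0,9,0,[]),
  (2,9,3,[0,1,0,1,0,2,0,2,0,1,0,1,0,2,0,1,0,2,0,2,0,1,0,1,0,1,0,1,0,1,0,2,0,2,0,1,0,1,0,2,0,1,0,2,0,2,0,1,0,1,0,1,0,1,0,2,0,2,0,1,0,2,0,1,0,2,0,1]),
  (0,12,0,[]),
  (0,11,0,[]),
  (2,8,0,[1,0,1,0,2,0,1,0,2,0,1,0,1,0,2,0,2,0,1,0,1,0,2,0,1,0,2,0,2,0,1,0,1,0,2,0,1,0,2,0,2,0,1,0,1,0,1,0,1,0,1,0,2,0,2,0,1,0,1,0,2,0,1,0,2,0,2,0,1,0,1,0,2,0,2,0,2,0,2,0,1,0,1,0,1,0,2,0,1,0,2,0,1,0,2,0]),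
  (0,10,0,[]),
  (0,9,0,[]),
  (2,8,0,[1,0,1,0,2,0,2,0,2,0,2,0,1,0,1,0,2,0,1,0,2,0,2,0,1,0,1,0,1,0,1,0,1,0,2,0,2,0,1,0,1,0,1,0,1,0,2,0,2,0,1,0,2,0,1,0,2,0,1]),
  (0,10,0,[]),
  (2,6,0,[1,0,1,0,2,0,2,0,2,0,2,0,1,0,1,0,2,0,1,0,2,0,2,0,1,0,1,0,1,0,1,0,1,0,2,0,2,0,1,0,1,0,1,0,1,0,2,0,2,0,1,0,2,0,1,0,2,0,1]),
  (2,8,0,[1,0,1,0,2,0,2,0,2,0,2,0,1,0,1,0,2,0,1,0,2,0,2,0,1,0,1,0,1,0,1,0,1,0,2,0,2,0,1,0,1,0,2,0,1,0,2,0,2,0,1,0,1,0,2,0,1,0,2,0,2,0,1,0,1,0,1,0,1,0,1,0,2,0,2,0,1,0,1,0,2,0,1,0,2,0,2,0,1,0,1,0,1,0,1,0,2,0,2,0,2,0,1,0,2,0,1,0,2,0,2,0,2]),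
  (0,10,0,[]),
  (0,9,0,[]),
  (2,8,0,[1,0,1,0,2,0,2,0,2,0,2,0,1,0,1,0,2,0,1,0,2,0,2,0,1,0,1,0,1,0,1,0,1,0,2,0,2,0,1,0,1,0,1]),
  (0,10,0,[]),
  (2,7,3,[0,1,0,1,0,2,0,2,0,1,0,1,0,2,0,1,0,2,0,2,0,1,0,1,0,1,0,1,0,1,0,2,0,2,0,1,0,1,0,2,0,1,0,2,0,2,0,1,0,1,0,1]),
  (0,10,0,[]),
  (0,9,0,[]),
  (2,6,3,[0,1,0,1,0,2,0,2,0,1,0,1,0,1,0,1,0,1,0,2,0,2,0,1,0,1,0,2,0,1,0,2,0,2,0,1,0,1,0,2,0,1,0,2,0,2,0,1,0,1,0,1]),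
  (0,9,0,[]),
  (0,8,0,[]),
  (2,9,3,[0,1,0,1,0,2,0,2,0,1,0,1,0,1,0,1,0,1,0,2,0,2,0,1,0,1,0,1,0,1,0,1,0,2,0,2,0,1,0,1,0,2,0,1,0,2,0,2,0,1,0,1,0,2,0,1,0,2,0,2,0,1,0,1,0,1,0,1,0,1,0,2,0,2,0,1,0,1,0,2,0,2,0,1]),
  (0,12,0,[]),
  (0,11,0,[]),
  (2,8,3,[0,1,0,1,0,2,0,2,0,1,0,1,0,1,0,1,0,1,0,2,0,2,0,1,0,1,0,2,0,2,0,1]),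
  (0,11,0,[]),
  (0,10,0,[]),
  (2,7,0,[1,0,1,0,2,0,1,0,2,0,1,0,1,0,2,0,2,0,1,0,1,0,1,0,1,0,1,0,2,0,2,0,1,0,1,0,1,0,1,0,1,0,2,0,2,0,1,0,1,0,2,0,1,0,2,0,2,0,1,0,1,0,2,0,1,0,2,0,2,0,1,0,1,0,1,0,1,0,1,0,2,0,2,0,1,0,1,0,2,0,2,0,2,0,1,0,2,0,1,0,2,0,1,0,2,0,1,0,1,0]),
  (0,9,0,[]),
  (0,8,0,[]),
  (2,7,0,[1,0,1,0,2,0,2,0,2,0,2,0,1,0,1,0,2,0,1,0,2,0,2,0,1,0,1,0,1,0,1,0,1,0,2,0,2,0,1,0,1,0,2,0,1,0,2,0,2,0,1,0,1,0,2,0,1,0,2,0,2,0,1,0,1,0,1,0,1,0,2,0,1]),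
  (0,9,0,[]),
  (2,10,0,[1,0,1,0,2,0,2,0,2,0,2,0,1,0,1,0,2,0,1,0,2,0,2,0,1,0,1,0,1,0,1,0,1,0,2,0,2,0,1,0,1,0,2,0,1,0,2,0,2,0,1,0,1,0,2,0,1,0,2,0,2,0,1,0,1,0,1,0,1,0,1,0,2,0,2,0,1,0,1,0,2,0,1,0,2,0,2,0,1,0,1,0,2,0,1,0,2,0,2,0,1,0,1,0,2,0,2,0,1,0,2,0,2,0,1,0,2,0,1,0,1]),
  (0,12,0,[]),
  (0,11,0,[]),
  (2,10,0,[1,0,1,0,2,0,1,0,2,0,1,0,1,0,2,0,2,0,1,0,1,0,1,0,1,0,2,0,2,0,1,0,2,0,1,0,2,0,1]),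
  (0,12,0,[]),
  (2,9,0,[1,0,1,0,2,0,1,0,2,0,1,0,1,0,2,0,2,0,1,0,1,0,2,0,1,0,2,0,2,0,1,0,1,0,2,0,1,0,2,0,2,0,1,0,1,0,1,0,1,0,1,0,2,0,2,0,1,0,1,0,2,0,1,0,2,0,2,0,1,0,1,0,2,0,2,0,2,0,2,0,1,0,1,0,1,0,2,0,1,0,2,0,1,0,2,0]),
  (0,11,0,[]),
  (0,10,0,[]),
  (2,9,0,[1,0,1,0,2,0,2,0,2,0,2,0,1,0,1,0,2,0,1,0,2,0,2,0,1,0,1,0,1,0,1,0,1,0,2,0,2,0,1,0,1,0,1,0,1,0,2,0,2,0,1,0,2,0,1,0,2,0,1]),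
  (0,11,0,[]),
  (0,8,0,[]),
  (2,9,0,[1,0,1,0,2,0,2,0,2,0,2,0,1,0,1,0,2,0,1,0,2,0,2,0,1,0,1,0,1,0,1,0,1,0,2,0,2,0,1,0,1,0,1,0,1,0,2,0,2,0,1,0,2,0,1,0,2,0,1]),
  (0,11,0,[]),
  (0,10,0,[]),
  (2,9,0,[1,0,1,0,2,0,1,0,2,0,1,0,1,0,2,0,2,0,1,0,1,0,2,0,1,0,2,0,2,0,1,0,1,0,2,0,1,0,2,0,2,0,1,0,1,0,1,0,1,0,1,0,2,0,2,0,1,0,1,0,2,0,1,0,2,0,2,0,1,0,1,0,2,0,1,0,2,0,2,0,1,0,1,0,2,0,2,0,1,0,2,0,2,0,1,0,2,0,1,0,1]),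
  (0,11,0,[]),
  (0,8,0,[]),
  (2,8,3,[0,1,0,1,0,2,0,2,0,1,0,1,0,2,0,1,0,2,0,2,0,1,0,1,0,1,0,1,0,1,0,2,0,2,0,1,0,1,0,2,0,1,0,2,0,2,0,1,0,1,0,1,0,1,0,1,0,2,0,2,0,1,0,1,0,1,0,1,0,1,0,2,0,2,0,1,0,1,0,2,0,1,0,2,0,2,0,1,0,1,0,1,0,2,0,2,0,1,0,2,0,1,0,1,0,2,0,1,0,1,0]),
  (0,11,0,[]),
  (0,10,0,[]),
  (2,0,0,[1,0,1,0,2,0,1,0,2,0,1,0,1,0,2,0,2,0,1,0,1,0,2,0,1,0,2,0,2,0,1,0,1,0,1,0,1,0,1,0,2,0,2,0,1,0,1,0,2,0,1,0,2,0,2,0,1,0,1,0,2,0,1,0,2,0,1,0,1,0,1,0,1]),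
  (2,3,3,[0,1,0,1,0,2,0,2,0,1,0,1,0,1,0,1,0,1,0,2,0,2,0,1,0,1,0,1,0,1,0,1,0,2,0,2,0,1,0,1,0,2,0,1,0,2,0,2,0,1,0,1,0,2,0,1,0,2,0,2,0,1,0,1,0,1,0,2,0,2,0,1,0,1,0,2,0,1,0,2,0,2,0,2]),
  (0,6,0,[]),
  (0,5,0,[]),
  (2,2,0,[1,0,1,0,2,0,1,0,2,0,1,0,1,0,2,0,2,0,1,0,1,0,2,0,1,0,2,0,2,0,1,0,1,0,2,0,1,0,2,0,2,0,1,0,1,0,1,0,1,0,1,0,2,0,2,0,1,0,1,0,1,0,2,0,2,0,1,0,2,0,1,0,2,0,1,0,1,0]),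
  (0,4,0,[]),
  (0,3,0,[]),
  (2,2,0,[1,0,1,0,2,0,1,0,2,0,1,0,1,0,2,0,2,0,1,0,1,0,2,0,1,0,2,0,2,0,1,0,1,0,1,0,2,0,2,0,1,0,1,0,2,0,1,0,2,0,2,0,2]),
  (0,4,0,[]),
  (2,4,3,[0,1,0,1,0,2,0,2,0,1,0,1,0,1,0,1,0,1,0,2,0,2,0,1,0,1,0,1,0,1,0,1,0,2,0,2,0,1,0,1,0,1]),
  (0,7,0,[]),
  (0,6,0,[]),
  (2,3,3,[0,1,0,1,0,2,0,2,0,1,0,1,0,2,0,1,0,2,0,2,0,1,0,1,0,1,0,1,0,1,0,2,0,2,0,1,0,1,0,1]),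
  (0,6,0,[]),
  (0,5,0,[]),
  (2,2,3,[0,1,0,1,0,2,0,2,0,1,0,1,0,1,0,1,0,1,0,2,0,2,0,1,0,1,0,2,0,1,0,2,0,2,0,1,0,1,0,1]),
  (0,5,0,[]),
  (0,4,0,[]),
  (2,1,3,[0,1,0,1,0,2,0,2,0,1,0,1,0,2,0,1,0,2,0,2,0,1,0,1,0,2,0,1,0,2,0,2,0,1,0,1,0,1]),
  (0,4,0,[]),
  (0,3,0,[]),
  (2,0,0,[1,0,1,0,2,0,2,0,2,0,2,0,1,0,1,0,2,0,1,0,2,0,2,0,1,0,1,0,1,0,1,0,1,0,2,0,2,0,1,0,1,0,2,0,1,0,2,0,2,0,1,0,1,0,2,0,1,0,2,0,2,0,1,0,1,0,1,0,1,0,1,0,2,0,2,0,1,0,1,0,2,0,1,0,2,0,1,0,1,0,2,0,2,0,1,0,2,0,1]),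
  (0,2,0,[]),
  (0,1,0,[]),
  (2,0,0,[1,0,1,0,2,0,1,0,2,0,1,0,1,0,2,0,2,0,1,0,1,0,1,0,1,0,1,0,2,0,2,0,1,0,1,0,1,0,1,0,1,0,2,0,2,0,1,0,1,0,2,0,1,0,2,0,2,0,1,0,1,0,2,0,1,0,2,0,2,0,1,0,1,0,1]),
  (0,2,0,[]),
  (2,0,0,[1,0,1,0,2,0,2,0,2,0,2,0,1,0,1,0,2,0,1,0,2,0,2,0,1,0,1,0,1,0,1,0,1,0,2,0,2,0,1,0,1,0,2,0,1,0,2,0,2,0,1,0,1,0,2,0,1,0,2,0,2,0,1,0,1,0,2,0,1,0,2,0,1,0,1,0,2,0,2]),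
  (2,2,3,[0,1,0,1,0,2,0,2,0,1,0,1,0,1,0,1,0,1,0,2,0,2,0,1,0,1,0,1,0,1,0,1,0,2,0,2,0,1,0,1,0,1]),
  (0,5,0,[]),
  (0,4,0,[]),
  (2,1,3,[0,1,0,1,0,2,0,2,0,1,0,1,0,2,0,1,0,2,0,2,0,1,0,1,0,2,0,1,0,2,0,2,0,1,0,1,0,1]),
  (0,4,0,[]),
  (0,3,0,[]),
  (2,0,0,[1,0,1,0,2,0,1,0,2,0,1,0,1,0,2,0,2,0,1,0,1,0,2,0,1,0,2,0,2,0,1,0,1,0,2,0,1,0,2,0,2,0,1,0,1,0,1,0,1,0,1,0,2,0,2,0,1,0,1,0,2,0,2,0,2,0,2,0,1,0,1,0,2,0,2,0,1,0,1,0,1,0,2]),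
  (0,2,0,[]),
  (0,1,0,[]),
  (2,0,0,[1,0,1,0,2,0,2,0,2,0,2,0,1,0,1,0,2,0,1,0,2,0,2,0,1,0,1,0,1,0,1,0,1,0,2,0,2,0,1,0,1,0,2,0,1,0,2,0,2,0,1,0,1,0,2,0,1,0,2,0,2,0,1,0,1,0,1,0,1,0,1,0,2,0,2,0,1,0,1,0,1]),
  (0,2,0,[]),
  (2,3,3,[0,1,0,1,0,2,0,2,0,1,0,1,0,1,0,1,0,1,0,2,0,2,0,1,0,1,0,2,0,1,0,2,0,2,0,1,0,1,0,1,0,1,0,1,0,2,0,2,0,1,0,1,0,2,0,1,0,2,0,2,0,1,0,1,0,1,0,1,0,1,0,2,0,1,0,1,0,1,0,1]),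
  (0,6,0,[]),
  (0,5,0,[]),
  (2,2,0,[1,0,1,0,2,0,1,0,2,0,1,0,1,0,2,0,2,0,1,0,1,0,2,0,1,0,2,0,2,0,1,0,1,0,1,0,1,0,2,0,1,0,2,0,2,0,1,0,1,0,1,0,1,0,2,0,2]),
  (0,4,0,[]),
  (0,3,0,[]),
  (2,2,0,[1,0,1,0,2,0,1,0,2,0,1,0,1,0,2,0,2,0,1,0,1,0,2,0,1,0,2,0,2,0,1,0,1,0,1,0,1,0,1,0,2,0,2,0,1,0,1,0,2,0,1,0,2,0,2,0,1,0,1,0,2,0,1,0,2,0,1,0,1,0,1,0,1]),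
  (0,4,0,[]),
  (2,1,3,[0,1,0,1,0,2,0,2,0,1,0,1,0,1,0,1,0,1,0,2,0,2,0,1,0,1,0,2,0,1,0,2,0,2,0,1,0,1,0,2,0,1,0,2,0,1,0,1,0,1,0,1]),
  (0,4,0,[]),
  (0,3,0,[]),
  (2,4,0,[1,0,1,0,2,0,2,0,2,0,2,0,1,0,1,0,2,0,1,0,2,0,2,0,1,0,1,0,1,0,1,0,1,0,2,0,2,0,1,0,1,0,2,0,1,0,2,0,2,0,1,0,1,0,2,0,1,0,2,0,2,0,1,0,1,0,2,0,1,0,2,0,1,0,1,0,2,0,2]),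
  (0,6,0,[]),
  (0,5,0,[]),
  (2,4,0,[1,0,1,0,2,0,1,0,2,0,1,0,1,0,2,0,2,0,1,0,1,0,2,0,1,0,2,0,2,0,1,0,1,0,2,0,1,0,2,0,2,0,1,0,1,0,1,0,1,0,1,0,2,0,2,0,1,0,1,0,2,0,1,0,2,0,2,0,1,0,1,0,1,0,1,0,2,0,2,0,2,0,2,0,1,0,1,0,2,0,2]),
  (0,6,0,[]),
  (0,3,0,[]),
  (2,3,3,[0,1,0,1,0,2,0,2,0,1,0,1,0,1,0,1,0,1,0,2,0,2,0,1,0,1,0,1,0,1,0,1,0,2,0,2,0,1,0,1,0,2,0,1,0,2,0,2,0,1,0,1,0,2,0,1,0,2,0,2,0,1,0,1,0,1,0,2,0,2,0,1,0,1,0,2,0,1,0,2,0,2,0,2]),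
  (0,6,0,[]),
  (0,5,0,[]),
  (2,4,3,[0,1,0,1,0,2,0,2,0,1,0,1,0,2,0,1,0,2,0,2,0,1,0,1,0,1,0,1,0,1,0,2,0,2,0,1,0,1,0,2,0,1,0,2,0,2,0,1,0,1,0,2,0,1,0,2,0,2,0,1,0,1,0,2,0,2,0,1,0,2,0,2,0,1,0,1,0,1,0,1,0,2,0,2]),
  (0,7,0,[]),
  (0,6,0,[]),
  (0,5,0,[]),
  (2,0,0,[1,0,1,0,2,0,1,0,2,0,1,0,1,0,2,0,2,0,1,0,1,0,2,0,1,0,2,0,2,0,1,0,1,0,2,0,1,0,2,0,2,0,1,0,1,0,1,0,1,0,1,0,2,0,2,0,1,0,1,0,1,0,2,0,2,0,1,0,2,0,1,0,2,0,1,0,1,0]),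
  (2,2,3,[0,1,0,1,0,2,0,2,0,1,0,1,0,2,0,1,0,2,0,2,0,1,0,1,0,1,0,1,0,1,0,2,0,2,0,1,0,1,0,1]),
  (0,5,0,[]),
  (0,4,0,[]),
  (2,1,3,[0,1,0,1,0,2,0,2,0,1,0,1,0,1,0,1,0,1,0,2,0,2,0,1,0,1,0,2,0,1,0,2,0,2,0,1,0,1,0,1]),
  (0,4,0,[]),
  (0,3,0,[]),
  (2,0,0,[1,0,1,0,2,0,2,0,2,0,2,0,1,0,1,0,2,0,1,0,2,0,2,0,1,0,1,0,2,0,2,0,1,0,2,0,2,0,1,0,2,0,1,0,2,0]),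
  (0,2,0,[]),
  (0,1,0,[]),
  (2,0,0,[1,0,1,0,2,0,2,0,2,0,2,0,1,0,1,0,2,0,1,0,2,0,2,0,1,0,1,0,1,0]),
  (0,2,0,[]),
  (2,3,0,[1,0,1,0,2,0,1,0,2,0,1,0,1,0,2,0,2,0,1,0,1,0,1,0,1,0,1,0,2,0,2,0,1,0,1,0,2,0,2,0,2,0,2,0,2,0,1,0,1,0,2,0,2]),
  (0,5,0,[]),
  (0,4,0,[]),
  (2,3,0,[1,0,1,0,2,0,1,0,2,0,1,0,1,0,2,0,2,0,1,0,1,0,1,0,1,0,1,0,2,0,2,0,1,0,1,0,1,0,1,0,1,0,2,0,2,0,1,0,1,0,2,0,1,0,2,0,2,0,1,0,1,0,2,0,1,0,2,0,2,0,1,0,1,0,2,0,1,0,2,0,1,0,1,0,1,0,1]),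
  (0,5,0,[]),
  (2,2,3,[0,1,0,1,0,2,0,2,0,1,0,1,0,2,0,1,0,2,0,2,0,1,0,1,0,1,0,1,0,1,0,2,0,2,0,1,0,1,0,2,0,1,0,2,0,1,0,1,0,1,0,1]),
  (0,5,0,[]),
  (0,4,0,[]),
  (2,1,3,[0,1,0,1,0,2,0,2,0,1,0,1,0,2,0,1,0,2,0,2,0,1,0,1,0,2,0,1,0,2,0,2,0,1,0,1,0,2,0,1,0,2,0,1,0,1,0,1,0,1]),
  (0,4,0,[]),
  (0,3,0,[]),
  (2,4,3,[0,1,0,1,0,2,0,2,0,1,0,1,0,1,0,1,0,1,0,2,0,2,0,1,0,1,0,2,0,1,0,2,0,1,0,1,0,2,0,2]),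
  (0,7,0,[]),
  (0,6,0,[]),
  (2,3,0,[1,0,1,0,2,0,1,0,2,0,1,0,1,0,2,0,2,0,1,0,1,0,2,0,1,0,2,0,2,0,1,0,1,0,2,0,1,0,2,0,2,0,1,0,1,0,1,0,1,0,1,0,2,0,2,0,1,0,1,0,1,0,1,0,1,0,2,0,2,0,1,0,1,0,2,0,1,0,2,0,2,0,1,0,1,0,2,0,1,0,2,0,1,0,2,0,1,0,2,0,2,0,2,0,1,0,1,0,2,0,2,0,1,0]),
  (0,5,0,[]),
  (0,4,0,[]),
  (2,3,0,[1,0,1,0,2,0,2,0,2,0,2,0,1,0,1,0,2,0,1,0,2,0,2,0,1,0,1,0,1,0,1,0,1,0,2,0,2,0,1,0,1,0,2,0,1,0,2,0,2,0,1,0,1,0,2,0,1,0,2,0,2,0,1,0,1,0,1,0,1,0,1,0,2,0,1,0,1,0,2,0,2]),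
  (0,5,0,[]),
  (2,2,3,[0,1,0,1,0,2,0,2,0,1,0,1,0,1,0,1,0,1,0,2,0,2,0,1,0,1,0,1,0,1,0,1,0,2,0,2,0,1,0,1,0,2,0,1,0,2,0,2,0,1,0,1,0,2,0,1,0,2,0,2,0,1,0,1,0,1,0,1,0,1,0,2,0,2,0,1,0,1,0,2,0,1,0,2,0,1,0,1,0,2,0,2]),
  (0,5,0,[]),
  (0,4,0,[]),
  (2,5,0,[1,0,1,0,2,0,1,0,2,0,1,0,1,0,2,0,2,0,1,0,1,0,2,0,1,0,2,0,2,0,1,0,1,0,2,0,1,0,2,0,2,0,1,0,1,0,1,0,1,0,1,0,2,0,2,0,1,0,1,0,1,0,2,0,2,0,1,0,2,0,1,0,2,0,1,0,1,0]),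
  (0,7,0,[]),
  (0,6,0,[]),
  (2,5,0,[1,0,1,0,2,0,1,0,2,0,1,0,1,0,2,0,2,0,1,0,1,0,2,0,1,0,2,0,2,0,1,0,1,0,1,0,2,0,2,0,1,0,1,0,2,0,1,0,2,0,2,0,2]),
  (0,7,0,[]),
  (0,4,0,[]),
  (0,4,0,[]),
  (2,3,2,[1,0,1,0,2,0,2,0,1,0,1,0,1,0,1,0,1,0,2,0,2,0,1,0,1,0,2,0,1,0,2,0,2,0,1,0,1,0,1,0,1,0,1,0,2,0,2,0,1,0,1,0,2,0,1,0,2,0,2,0,1,0,1,0,1,0,1,0,1,0,2,0,2,0,1,0,1,0,2,0,2,0,2,0,2,0,1,0,1,0,1,0,1,0,1,0,2,0,1,0,2]),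
  (0,7,0,[]),
  (0,6,0,[]),
  (2,2,2,[0,1,0,1,0,2,0,2,0,1,0,1,0,2,0,1,0,2,0,2,0,1,0,1,0,2,0,1,0,2,0,2,0,1,0,1,0,1,0,1,0,1,0,2,0,2,0,1,0,1,0,2,0,1,0,2,0,2,0,1,0,1,0,2,0,1,0,2,0,2,0,1,0,1,0,1,0,1,0,1,0,2,0,2,0,1,0,1,0,1,0,1,0,1,0,2,0,2,0,1,0,1,0,1,0,1,0,2,0,2,0,2,0,1,0,1,0,1,0,1,0,1,0,2,0,1,0,2]),
  (0,6,0,[]),
  (0,5,0,[]),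
  (2,1,0,[1,0,1,0,2,0,1,0,2,0,1,0,1,0,2,0,2,0,1,0,1,0,2,0,1,0,2,0,2,0,1,0,1,0,1,0,1,0,1,0,2,0,2,0,1,0,1,0,2,0,1,0,2,0,2,0,1,0,2,0,1,0,1,0,2,0,1,0,2,0,2,0,2,0,1]),
  (0,3,0,[]),
  (0,2,0,[]),
  (2,2,0,[1,0,1,0,2,0,1,0,2,0,1,0,1,0,2,0,2,0,1,0,1,0,2,0,1,0,2,0,2,0,1,0,1,0,2,0,1,0,2,0,2,0,1,0,1,0,1,0,1,0,1,0,2,0,2,0,1,0,1,0,2,0,2,0,2,0,2,0,1,0,1,0,2,0,2,0,1,0,1,0,1,0,2]),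
  (0,4,0,[]),
  (0,3,0,[]),
  (2,2,0,[1,0,1,0,2,0,2,0,2,0,2,0,1,0,1,0,2,0,1,0,2,0,2,0,1,0,1,0,1,0,1,0,1,0,2,0,2,0,1,0,1,0,2,0,1,0,2,0,2,0,1,0,1,0,2,0,1,0,2,0,2,0,1,0,1,0,1,0,1,0,1,0,2,0,2,0,1,0,1,0,1]),
  (0,4,0,[]),
  (2,1,0,[1,0,1,0,2,0,1,0,2,0,1,0,1,0,2,0,2,0,1,0,1,0,1,0,1,0,1,0,2,0,2,0,1,0,1,0,1,0,1,0,1,0,2,0,2,0,1,0,1,0,2,0,1,0,2,0,2,0,1,0,1,0,2,0,2,0,1]),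
  (0,3,0,[]),
  (0,2,0,[]),
  (2,1,0,[1,0,1,0,2,0,1,0,2,0,1,0,1,0,2,0,2,0,1,0,1,0,2,0,1,0,2,0,2,0,1,0,1,0,2,0,1,0,2,0,2,0,1,0,1,0,1,0,1,0,1,0,2,0,2,0,1,0,1,0,2,0,1,0,2,0,2,0,1,0,1,0,1]),
  (0,3,0,[]),
  (0,0,0,[]),
  (2,2,0,[1,0,1,0,2,0,2,0,2,0,2,0,1,0,1,0,2,0,1,0,2,0,2,0,1,0,1,0,2,0,2,0,1,0,2,0,2,0,1,0,2,0,1,0,2,0]),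
  (0,4,0,[]),
  (0,3,0,[]),
  (2,2,0,[1,0,1,0,2,0,2,0,2,0,2,0,1,0,1,0,2,0,1,0,2,0,2,0,1,0,1,0,1,0]),
  (0,4,0,[]),
  (2,1,0,[1,0,1,0,2,0,1,0,2,0,1,0,1,0,2,0,2,0,1,0,1,0,2,0,1,0,2,0,2,0,1,0,1,0,2,0,1,0,2,0,2,0,1,0,1,0,1,0,1,0,1,0,2,0,2,0,1,0,1,0,2,0,2,0,2,0,2,0,1,0,1,0,2,0,2,0,1,0,1,0,1,0,2]),
  (0,3,0,[]),
  (0,2,0,[]),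
  (2,1,0,[1,0,1,0,2,0,2,0,2,0,2,0,1,0,1,0,2,0,1,0,2,0,2,0,1,0,1,0,1,0,1,0,1,0,2,0,2,0,1,0,1,0,2,0,1,0,2,0,2,0,1,0,1,0,2,0,1,0,2,0,2,0,1,0,1,0,1,0,1,0,1,0,2,0,2,0,1,0,1,0,1]),
  (0,3,0,[]),
  (2,0,0,[1,0,1,0,2,0,1,0,2,0,1,0,1,0,2,0,2,0,1,0,1,0,1,0,1,0,1,0,2,0,2,0,1,0,1,0,1,0,1,0,1,0,2,0,2,0,1,0,1,0,2,0,1,0,2,0,2,0,1,0,1,0,2,0,2,0,1]),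
  (0,2,0,[]),
  (0,1,0,[]),
  (2,0,0,[1,0,1,0,2,0,1,0,2,0,1,0,1,0,2,0,2,0,1,0,1,0,2,0,1,0,2,0,2,0,1,0,1,0,2,0,1,0,2,0,2,0,1,0,1,0,1,0,1,0,1,0,2,0,2,0,1,0,1,0,2,0,1,0,2,0,2,0,1,0,1,0,1]),
  (0,2,0,[]),
  (2,3,2,[0,1,0,1,0,2,0,2,0,1,0,1,0,1,0,1,0,1,0,2,0,2,0,1,0,1,0,2,0,1,0,2,0,2,0,1,0,1,0,1,0,1,0,1,0,2,0,2,0,1,0,1,0,1,0,1,0,1,0,2,0,2,0,1,0,1,0,1,0,1,0,1,0,2,0,2,0,1,0,1,0,2,0,1,0,2,0,2,0,1,0,1,0,1,0,1,0,1,0,2,0,2,0,1,0,1,0,2,0,1,0,2,0,2,0,1,0,1,0,1,0,2,0,2,0,1,0,2,0,1,0,1,0,1,0,1,0,2,0,2]),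
  (0,7,0,[]),
  (0,6,0,[]),
  (2,2,0,[1,0,1,0,2,0,1,0,2,0,1,0,1,0,2,0,2,0,1,0,1,0,2,0,1,0,2,0,2,0,1,0,1,0,2,0,1,0,2,0,2,0,1,0,1,0,1,0,1,0,1,0,2,0,2,0,2,0,2,0,1,0,1,0,2,0,1,0,1,0]),
  (0,4,0,[]),
  (0,3,0,[]),
  (2,3,0,[1,0,1,0,2,0,2,0,2,0,2,0,1,0,1,0,2,0,1,0,2,0,2,0,1,0,1,0,2,0,2,0,1,0,2,0,2,0,1,0,2,0,1,0,2,0]),
  (0,5,0,[]),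
  (0,4,0,[]),
  (2,3,0,[1,0,1,0,2,0,2,0,2,0,2,0,1,0,1,0,2,0,1,0,2,0,2,0,1,0,1,0,1,0]),
  (0,5,0,[]),
  (2,2,0,[1,0,1,0,2,0,2,0,2,0,2,0,1,0,1,0,2,0,1,0,2,0,2,0,1,0,1,0,1,0,1,0,1,0,2,0,2,0,1,0,1,0,2,0,1,0,2,0,2,0,1,0,1,0,2,0,1,0,2,0,2,0,1,0,1,0,1,0,1,0,1,0,2,0,2,0,1,0,1,0,2,0,1,0,2,0,2,0,2,0,2,0,1,0,2,0,2,0,2]),
  (0,4,0,[]),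
  (0,3,0,[]),
  (2,2,0,[1,0,1,0,2,0,1,0,2,0,1,0,1,0,2,0,2,0,1,0,1,0,1,0,1,0,1,0,2,0,2,0,1,0,1,0,1,0]),
  (0,4,0,[]),
  (2,1,0,[1,0,1,0,2,0,1,0,2,0,1,0,1,0,2,0,2,0,1,0,1,0,1,0,1,0,1,0,2,0,2,0,1,0,1,0,1,0,1,0,1,0,2,0,2,0,1,0,1,0,2,0,1,0,2,0,2,0,1,0,1,0,2,0,2,0,1]),
  (0,3,0,[]),
  (0,2,0,[]),
  (2,1,0,[1,0,1,0,2,0,1,0,2,0,1,0,1,0,2,0,2,0,1,0,1,0,2,0,1,0,2,0,2,0,1,0,1,0,2,0,1,0,2,0,2,0,1,0,1,0,1,0,1,0,1,0,2,0,2,0,1,0,1,0,2,0,1,0,2,0,2,0,1,0,1,0,1]),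
  (0,3,0,[]),
  (0,0,0,[]),
  (2,2,0,[1,0,1,0,2,0,1,0,2,0,1,0,1,0,2,0,2,0,1,0,1,0,1,0,1,0,1,0,2,0,2,0,1,0,1,0,2,0,2,0,2,0,2,0,1,0,1,0,1,0,2,0,1,0,2,0,1,0,2,0]),
  (0,4,0,[]),
  (0,3,0,[]),
  (2,2,0,[1,0,1,0,2,0,2,0,2,0,2,0,1,0,1,0,2,0,1,0,2,0,2,0,1,0,1,0,1,0,1,0,1,0,2,0,2,0,1,0,1,0,2,0,1,0,2,0,2,0,1,0,1,0,2,0,1,0,2,0,2,0,1,0,1,0,1,0,1,0,1,0,2,0,2,0,1,0,1,0,2,0,1,0,2,0,2,0,1,0,1,0,1,0,1,0,2,0,2,0,2,0,1,0,2,0,1,0,2,0,2,0,2]),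
  (0,4,0,[]),
  (0,3,0,[]),
  (2,2,0,[1,0,1,0,2,0,2,0,2,0,2,0,1,0,1,0,2,0,1,0,2,0,2,0,1,0,1,0,1,0,1,0,1,0,2,0,2,0,1,0,1,0,1]),
  (0,4,0,[]),
  (2,1,0,[1,0,1,0,2,0,2,0,2,0,2,0,1,0,1,0,2,0,1,0,2,0,2,0,1,0,1,0,1,0,1,0,1,0,2,0,2,0,1,0,1,0,2,0,1,0,2,0,2,0,1,0,1,0,2,0,1,0,2,0,2,0,1,0,1,0,1,0,1,0,1,0,2,0,2,0,1,0,1,0,2,0,1,0,2,0,2,0,2,0,2,0,1,0,2,0,2,0,2]),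
  (0,3,0,[]),
  (0,2,0,[]),
  (2,1,0,[1,0,1,0,2,0,1,0,2,0,1,0,1,0,2,0,2,0,1,0,1,0,1,0,1,0,1,0,2,0,2,0,1,0,1,0,1,0]),
  (0,3,0,[]),
  (2,0,0,[1,0,1,0,2,0,1,0,2,0,1,0,1,0,2,0,2,0,1,0,1,0,1,0,1,0,1,0,2,0,2,0,1,0,1,0,1,0,1,0,1,0,2,0,2,0,1,0,1,0,2,0,1,0,2,0,2,0,1,0,1,0,2,0,2,0,1]),
  (0,2,0,[]),
  (0,1,0,[]),
  (2,0,0,[1,0,1,0,2,0,1,0,2,0,1,0,1,0,2,0,2,0,1,0,1,0,2,0,1,0,2,0,2,0,1,0,1,0,2,0,1,0,2,0,2,0,1,0,1,0,1,0,1,0,1,0,2,0,2,0,1,0,1,0,2,0,1,0,2,0,2,0,1,0,1,0,1]),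
  (0,2,0,[]),
  (2,3,3,[0,1,0,1,0,2,0,2,0,1,0,1,0,1,0,1,0,1,0,2,0,2,0,1,0,1,0,1,0,1,0,1,0,2,0,2,0,1,0,1,0,2,0,1,0,2,0,2,0,1,0,1,0,2,0,1,0,2,0,2,0,1,0,1,0,1,0,1,0,1,0,2,0,2,0,1,0,1,0,2,0,2,0,1]),
  (0,6,0,[]),
  (0,5,0,[]),
  (2,2,3,[0,1,0,1,0,2,0,2,0,1,0,1,0,2,0,1,0,2,0,2,0,1,0,1,0,1,0,1,0,2,0,1]),
  (0,5,0,[]),
  (0,4,0,[]),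
  (2,1,0,[1,0,1,0,2,0,2,0,2,0,2,0,1,0,1,0,2,0,1,0,2,0,2,0,1,0,1,0,1,0,1,0,1,0,2,0,2,0,1,0,1,0,2,0,1,0,2,0,2,0,1,0,1,0,2,0,1,0,2,0,2,0,1,0,1,0,1,0,1,0,1,0,2,0,2,0,1,0,1,0,2,0,1,0,2,0,2,0,1,0,1,0,1]),
  (0,3,0,[]),
  (0,2,0,[]),
  (0,0,0,[]),
  (2,1,3,[0,1,0,1,0,2,0,2,0,1,0,1,0,2,0,1,0,2,0,2,0,1,0,1,0,1,0,1,0,1,0,2,0,2,0,1,0,1,0,2,0,1,0,2,0,2,0,1,0,1,0,1,0,1,0,1,0,2,0,2,0,1,0,1,0,1,0,1,0,1,0,2,0,2,0,1,0,1,0,2,0,1,0,2,0,2,0,1,0,1,0,1,0,2,0,2,0,1,0,2,0,1,0,1,0,2,0,1,0,1,0]),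
  (0,4,0,[]),
  (0,3,0,[]),
  (0,0,0,[]),
  (0,0,0,[])])

end H84.J4N
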