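import Mathlib
import Cfsg.Agent.H84.J4N.DataTrio
import Cfsg.Agent.H84.J4N.DataSextet
import Cfsg.Agent.H84.J4N.MovesTrio
import Cfsg.Agent.H84.J4N.MovesSextet

/-!
In a group with the relations of the presented fourth Janko group, the conjugates of `s` under
`⟨x, y⟩` generate an elementary abelian group with eleven generators on which x and y act by
given matrices.
-/

set_option autoImplicit false
set_option maxRecDepth 100000

namespace H84.J4N

open H54.J4 (Pres gA gB)

theorem prod_rev {G : Type*} [Group G] : ∀ {L : List G}, (∀ a ∈ L, a * a = 1) →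
    L.reverse.prod = L.prod⁻¹
  | [], _ => by simp
  | a :: L, h => by
    simp only [List.forall_mem_cons] at h
    rw [List.reverse_cons, List.prod_append, prod_rev h.2, List.prod_cons, List.prod_cons,
      List.prod_nil, mul_one, mul_inv_rev, inv_eq_of_mul_eq_one_left h.1]

theorem cube_conj {G : Type*} [Group G] {Y A : G} (hY : Y * Y * Y = 1) :
    (Y * (A)) ^ 3 = (Y * Y)⁻¹ * A * (Y * Y) * (Y⁻¹ * A * Y) * A := by
  have e : (Y * Y)⁻¹ = Y := inv_eq_of_mul_eq_one_left ((mul_assoc _ _ _).symm.trans hY)
  rw [e, pow_succ, pow_two]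
  group

/-- a group with the relations of the presented group -/
structure Setup (G : Type*) [Group G] where
  φ : Pres →* G
  t : G
  sq : t * t = 1
  comm : ∀ w ∈ certTrio.gens, φ (pv w) * t = t * φ (pv w)
  relA : (φ (pv [1]) * ((φ (pv wLine))⁻¹ * t * φ (pv wLine))) ^ 3 = 1
  relB : (φ (pv wPi) * t * ((φ (pv wU))⁻¹ * t * φ (pv wU))) ^ 2 = 1

namespace Setup

variable {G : Type*} [Group G] (R : Setup G)

/-- the trio level -/
noncomputable def trio : Conj certTrio G where
  φ := R.φ
  t := R.t
  ok := certTrio_ok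
  sq := R.sq
  comm := R.comm

theorem y_cube : R.φ (pv [1]) * R.φ (pv [1]) * R.φ (pv [1]) = 1 := by
  rw [← map_mul, ← map_mul, ← pv_append, ← pv_append, pv_eq (v := []) (by decide +kernel), pv_nil,
    map_one]

theorem cube_eq (w : List ℕ) :
    (R.φ (pv [1]) * ((R.φ (pv w))⁻¹ * R.t * R.φ (pv w))) ^ 3 =
      R.trio.rval ([w ++ [1, 1], w ++ [1], w], []) := by
  rw [Conj.rval_eq, cube_conj R.y_cube]
  have e : pv [1, 1] = pv [1] * pv [1] := pv_append [1] [1]
  simp only [trio, List.map_cons, List.map_nil, List.prod_cons, List.prod_nil, pv_nil, map_one,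
    mul_one, pv_append, e, map_mul]
  group

theorem tA : R.trio.rval tRelA = 1 := by
  rw [← R.relA, R.cube_eq]
  refine R.trio.derives_spec (rels := []) (ms := []) (by simp) ?_
  decide +kernel

theorem tB : R.trio.rval tRelB = 1 := by
  have e : R.trio.rval tRelB = R.trio.rval ([wPi, wU ++ wPi, [], wU], wPi ++ wPi) := by
    refine R.trio.derives_spec (rels := []) (ms := []) (by simp) ?_
    decide +kernel
  rw [e, Conj.rval_eq]
  have h := R.relB
  rw [pow_two] at h
  simp only [trio, List.map_cons, List.map_nil, List.prod_cons, List.prod_nil, pv_nil, map_one,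
    mul_one, inv_one, one_mul, pv_append, map_mul]
  set p := R.φ (pv wPi)
  set u := R.φ (pv wU)
  calc p⁻¹ * R.t * p * ((u * p)⁻¹ * R.t * (u * p) * (R.t * (u⁻¹ * R.t * u))) * (p * p)
      = (p * p)⁻¹ * (p * R.t * (u⁻¹ * R.t * u) * (p * R.t * (u⁻¹ * R.t * u))) * (p * p) := by
        group
    _ = 1 := by rw [h]; group

/-- the relations among trios -/
def tRels : List Rel := [tRelA, tRelB, tPentagon.1, tGrid.1]

theorem tRels_spec : ∀ r ∈ tRels, R.trio.rval r = 1 := by
  have hAB : ∀ r ∈ [tRelA, tRelB], R.trio.rval r = 1 := by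
    simp only [List.forall_mem_cons]
    exact ⟨R.tA, R.tB, by simp⟩
  have hP : R.trio.rval tPentagon.1 = 1 := by
    rw [R.trio.derives_spec (b := tPentagon.2.1) (ms := tPentagon.2.2) hAB (by decide +kernel)]
    refine Eq.trans ?_ R.tB
    refine R.trio.derives_spec (rels := []) (ms := []) (by simp) ?_
    decide +kernel
  have hABP : ∀ r ∈ [tRelA, tRelB, tPentagon.1], R.trio.rval r = 1 := by
    simp only [List.forall_mem_cons]
    exact ⟨R.tA, R.tB, hP, by simp⟩
  exact R.trio.rels_snoc hABP (a := tGrid.1) (ms := tGrid.2.2) (by decide +kernel)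

theorem derived {a b : Rel} {ms : List Move} (h : certTrio.derives tRels a b ms = true) :
    R.trio.rval a = R.trio.rval b := R.trio.derives_spec R.tRels_spec h

/-- the three conjugates of `t` with product `s` -/
def sWords : List (List ℕ) := [wS ++ [1, 1], wS ++ [1], wS]

/-- the element `s` -/
def s : G := (R.φ (pv [1]) * ((R.φ (pv wS))⁻¹ * R.t * R.φ (pv wS))) ^ 3

theorem s_eq : R.s = R.trio.rval (sWords, []) := R.cube_eq wS

theorem rval_shift (g : List ℕ) : ∀ ws : List (List ℕ),
    R.trio.rval (ws.map (· ++ g), []) =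
      (R.φ (pv g))⁻¹ * R.trio.rval (ws, []) * R.φ (pv g) := by
  intro ws
  induction ws with
  | nil => simp [Conj.rval_eq]
  | cons w ws ih =>
    simp only [Conj.rval_eq, trio, List.map_cons, List.prod_cons, pv_nil, map_one, mul_one] at ih ⊢
    rw [ih, pv_append, map_mul]
    group

theorem rval_append (u v : List (List ℕ)) :
    R.trio.rval (u ++ v, []) = R.trio.rval (u, []) * R.trio.rval (v, []) := by
  simp [Conj.rval_eq]

theorem rval_nil : R.trio.rval ([], []) = 1 := by simp [Conj.rval_eq]

theorem s_sq : R.s * R.s = 1 := by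
  rw [s_eq, ← rval_append, ← R.rval_nil]
  exact R.derived (ms := tSquare.2.2) (by decide +kernel)

theorem s_comm_of {h : List ℕ} {ms : List Move}
    (hd : certTrio.derives tRels (sWords.map (· ++ h), []) (sWords, []) ms = true) :
    R.φ (pv h) * R.s = R.s * R.φ (pv h) := by
  have e := R.derived hd
  rw [rval_shift, ← s_eq] at e
  calc R.φ (pv h) * R.s = R.φ (pv h) * ((R.φ (pv h))⁻¹ * R.s * R.φ (pv h)) := by rw [e]
    _ = R.s * R.φ (pv h) := by group

theorem s_comm : ∀ w ∈ certSextet.gens, R.φ (pv w) * R.s = R.s * R.φ (pv w) := by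
  have e : certSextet.gens = [certSextet.gens.getD 0 [], certSextet.gens.getD 1 []] := rfl
  rw [e]
  simp only [List.forall_mem_cons]
  exact ⟨R.s_comm_of (ms := tFixA.2.2) (by decide +kernel),
    R.s_comm_of (ms := tFixB.2.2) (by decide +kernel), by simp⟩

/-- the sextet level -/
noncomputable def sext : Conj certSextet G where
  φ := R.φ
  t := R.s
  ok := certSextet_ok
  sq := R.s_sq
  comm := R.s_comm

theorem eLine_spec : R.sext.rval eLine = 1 := by
  have h : R.sext.rval eLine =
      R.trio.rval ((eLine.1.map fun g => sWords.map (· ++ g)).flatten, []) := by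
    simp only [eLine, List.map_cons, List.map_nil, List.flatten_cons, List.flatten_nil,
      List.append_nil, rval_append, rval_shift, ← s_eq]
    simp [Conj.rval_eq, sext]
  rw [h, ← R.rval_nil]
  exact R.derived (ms := tFano.2.2) (by decide +kernel)

/-- the relations among sextets -/
def eRels : List Rel := [eLine, eNear.1, eGrid.1, eFar.1, eTriple.1]

theorem eRels_spec : ∀ r ∈ eRels, R.sext.rval r = 1 := by
  have h0 : ∀ r ∈ [eLine], R.sext.rval r = 1 := by simpa using R.eLine_spec
  have h1 := R.sext.rels_snoc h0 (a := eNear.1) (ms := eNear.2.2) (by decide +kernel)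
  have h2 := R.sext.rels_snoc h1 (a := eGrid.1) (ms := eGrid.2.2) (by decide +kernel)
  have h3 := R.sext.rels_snoc h2 (a := eFar.1) (ms := eFar.2.2) (by decide +kernel)
  exact R.sext.rels_snoc h3 (a := eTriple.1) (ms := eTriple.2.2) (by decide +kernel)

/-- the basis -/
def e (j : Fin 11) : G :=
  (R.φ (pv (bw.getD j.val [])))⁻¹ * R.s * R.φ (pv (bw.getD j.val []))

theorem e_eq (j : Fin 11) : R.e j = R.sext.rval ([bw.getD j.val []], []) := by
  simp [e, Conj.rval_eq, sext]

theorem e_zero : R.e 0 = R.s := by
  have h : pv (bw.getD (0 : Fin 11).val []) = 1 := by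
    rw [← pv_nil]; exact pv_eq (by decide +kernel)
  rw [e, h]
  simp

theorem e_sq (j : Fin 11) : R.e j * R.e j = 1 := by
  rw [e]
  calc (R.φ (pv (bw.getD j.val [])))⁻¹ * R.s * R.φ (pv (bw.getD j.val [])) *
        ((R.φ (pv (bw.getD j.val [])))⁻¹ * R.s * R.φ (pv (bw.getD j.val [])))
      = (R.φ (pv (bw.getD j.val [])))⁻¹ * (R.s * R.s) * R.φ (pv (bw.getD j.val [])) := by group
    _ = 1 := by rw [R.s_sq]; group

/-- every pair of basis elements has its derivation -/
noncomputable def commOK : Bool :=
  eComm.all fun p => certSextet.derives eRels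
    ([bw.getD p.1 [], bw.getD p.2.1 [], bw.getD p.1 [], bw.getD p.2.1 []], []) ([], []) p.2.2

theorem commOK_eq : commOK = true := by decide +kernel

theorem comm_cover : ∀ i j : Fin 11, i < j → (i.val, j.val) ∈ eComm.map fun p => (p.1, p.2.1) := by
  decide +kernel

theorem e_comm (i j : Fin 11) : R.e i * R.e j = R.e j * R.e i := by
  have key : ∀ i j : Fin 11, i < j → R.e i * R.e j = R.e j * R.e i := by
    intro i j hij
    obtain ⟨⟨a, b, ms⟩, hm, hp⟩ := List.mem_map.mp (comm_cover i j hij)
    simp only [Prod.mk.injEq] at hp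
    obtain ⟨rfl, rfl⟩ := hp
    have h := commOK_eq
    simp only [commOK, List.all_eq_true] at h
    have hh := R.sext.derives_spec R.eRels_spec (h _ hm)
    simp only [Conj.rval_eq, List.map_cons, List.map_nil, List.prod_cons, List.prod_nil, pv_nil,
      map_one, mul_one] at hh
    change R.e i * (R.e j * (R.e i * R.e j)) = 1 at hh
    have h' : R.e i * R.e j * (R.e i * R.e j) = 1 := by rw [mul_assoc, hh]
    rw [eq_inv_of_mul_eq_one_left h', mul_inv_rev,
      inv_eq_of_mul_eq_one_right (R.e_sq i), inv_eq_of_mul_eq_one_right (R.e_sq j)]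
  rcases lt_trichotomy i j with h | rfl | h
  · exact key i j h
  · rfl
  · exact (key j i h).symm

/-- the positions of the bits of a number below `2 ^ 11` -/
def bits (m : ℕ) : List (Fin 11) := (List.finRange 11).filter fun k => m.testBit k.val

/-- all conjugates of the basis have their derivations -/
noncomputable def conjOK (c : ℕ) (mat : List ℕ) (mss : List (List Move)) : Bool :=
  (List.finRange 11).all fun j => certSextet.derives eRels ([bw.getD j.val [] ++ [c]], [])
    ((bits (mat.getD j.val 0)).map fun k => bw.getD k.val [], []) (mss.getD j.val [])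

theorem conj_of {c : ℕ} {mat : List ℕ} {mss : List (List Move)} (h : conjOK c mat mss = true)
    (j : Fin 11) : (R.φ (lv c))⁻¹ * R.e j * R.φ (lv c) =
      ((bits (mat.getD j.val 0)).map R.e).prod := by
  simp only [conjOK, List.all_eq_true] at h
  have e := R.sext.derives_spec R.eRels_spec (h j (List.mem_finRange j))
  simp only [Conj.rval_eq, List.map_cons, List.map_nil, List.prod_cons, List.prod_nil, pv_nil,
    map_one, mul_one, List.map_map, pv_append, pv_cons, map_mul] at e
  rw [show (((bits (mat.getD j.val 0)).map R.e)) = _ from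
    List.map_congr_left fun k _ => rfl] 
  refine Eq.trans ?_ e
  simp only [Setup.e, sext]
  group

theorem conjX_ok : conjOK 0 matX eConjX = true := by decide +kernel
theorem conjY_ok : conjOK 1 matY eConjY = true := by decide +kernel

theorem e_conj_x (j : Fin 11) : (R.φ gA)⁻¹ * R.e j * R.φ gA =
    ((bits (matX.getD j.val 0)).map R.e).prod := R.conj_of conjX_ok j

theorem e_conj_y (j : Fin 11) : (R.φ gB⁻¹)⁻¹ * R.e j * R.φ gB⁻¹ =
    ((bits (matY.getD j.val 0)).map R.e).prod := R.conj_of conjY_ok j

end Setup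

end H84.J4N
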