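import Mathlib
import Cfsg.Agent.H84.J4N.Main

/-!
The group generated by the eleven conjugates of `s`, its hom from `(ZMod 2)^11`, and the order
bound for the group generated by x, y and `s`.
-/

set_option autoImplicit false

namespace H84.J4N.Setup

open H54.J4 (Pres gA gB)

variable {G : Type*} [Group G] (R : Setup G)

/-- the subgroup generated by the basis -/
def eSub : Subgroup G := Subgroup.closure (Set.range R.e)

theorem e_mem (j : Fin 11) : R.e j ∈ R.eSub := Subgroup.subset_closure ⟨j, rfl⟩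

theorem eSub_comm : ∀ a ∈ R.eSub, ∀ b ∈ R.eSub, a * b = b * a := by
  have h1 : ∀ j, ∀ b ∈ R.eSub, R.e j * b = b * R.e j := by
    intro j b hb
    induction hb using Subgroup.closure_induction with
    | mem z hz => obtain ⟨i, rfl⟩ := hz; exact R.e_comm j i
    | one => simp
    | mul c d _ _ hc hd => rw [← mul_assoc, hc, mul_assoc, hd, mul_assoc]
    | inv c _ hc =>
      exact mul_left_cancel (a := c) (by rw [← mul_assoc, ← hc, mul_assoc, mul_inv_cancel,
        mul_inv_cancel_left, mul_one])
  intro a ha b hb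
  induction ha using Subgroup.closure_induction with
  | mem z hz => obtain ⟨i, rfl⟩ := hz; exact h1 i b hb
  | one => simp
  | mul c d _ _ hc hd => rw [mul_assoc, hd, ← mul_assoc, hc, mul_assoc]
  | inv c _ hc =>
    exact mul_left_cancel (a := c) (by rw [mul_inv_cancel_left, ← mul_assoc, hc, mul_assoc,
      mul_inv_cancel, mul_one])

/-- a basis element to an exponent in `ZMod 2` -/
def pw (k : Fin 11) (c : ZMod 2) : G := R.e k ^ c.val

theorem pw_mem (k : Fin 11) (c : ZMod 2) : R.pw k c ∈ R.eSub := pow_mem (R.e_mem k) _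

theorem pw_add (k : Fin 11) (c d : ZMod 2) : R.pw k (c + d) = R.pw k c * R.pw k d := by
  unfold pw
  rw [ZMod.val_add, ← pow_add]
  exact (pow_mod_of_pow_eq_one (by rw [pow_two, R.e_sq]) _).symm
where
  pow_mod_of_pow_eq_one {a : G} (h : a ^ 2 = 1) (n : ℕ) : a ^ n = a ^ (n % 2) := by
    conv_lhs => rw [← Nat.mod_add_div n 2, pow_add, pow_mul, h, one_pow, mul_one]

/-- the hom from exponent vectors -/
def eHom : Multiplicative (Fin 11 → ZMod 2) →* G where
  toFun v := ((List.finRange 11).map fun k => R.pw k (v.toAdd k)).prod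
  map_one' := List.prod_eq_one (by simp [pw])
  map_mul' u v := by
    simp only [toAdd_mul, Pi.add_apply]
    generalize List.finRange 11 = l
    induction l with
    | nil => simp
    | cons k l ih =>
      simp only [List.map_cons, List.prod_cons]
      rw [ih, R.pw_add]
      have hm : ((l.map fun k => R.pw k (u.toAdd k)).prod) ∈ R.eSub :=
        Subgroup.list_prod_mem _ (by simp [R.pw_mem])
      simp only [mul_assoc]
      congr 1
      rw [← mul_assoc, R.eSub_comm _ (R.pw_mem _ _) _ hm, mul_assoc]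

theorem eHom_single (j : Fin 11) :
    R.eHom (Multiplicative.ofAdd (Pi.single j 1)) = R.e j := by
  show ((List.finRange 11).map fun k => R.pw k ((Pi.single j 1 : Fin 11 → ZMod 2) k)).prod = R.e j
  have e : ∀ l : List (Fin 11), l.Nodup →
      (l.map fun k => R.pw k ((Pi.single j 1 : Fin 11 → ZMod 2) k)).prod =
        if j ∈ l then R.e j else 1 := by
    intro l
    induction l with
    | nil => simp
    | cons k l ih =>
      intro hl
      rw [List.nodup_cons] at hl
      rw [List.map_cons, List.prod_cons, ih hl.2]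
      rcases eq_or_ne j k with rfl | hjk
      · simp [hl.1, pw, ZMod.val_one]
      · simp [hjk, pw]
  rw [e _ (List.nodup_finRange 11), if_pos (List.mem_finRange j)]

theorem range_eHom : R.eHom.range = R.eSub := by
  apply le_antisymm
  · rintro _ ⟨v, rfl⟩
    exact Subgroup.list_prod_mem _ (by simp [R.pw_mem])
  · rw [eSub, Subgroup.closure_le]
    rintro _ ⟨j, rfl⟩
    exact ⟨_, R.eHom_single j⟩

theorem finite_eSub : Finite R.eSub := by
  rw [← R.range_eHom]
  exact Set.finite_range R.eHom |>.to_subtype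

theorem card_eSub_le : Nat.card R.eSub ≤ 2 ^ 11 := by
  rw [← R.range_eHom]
  refine (Nat.card_le_card_of_surjective _ R.eHom.rangeRestrict_surjective).trans ?_
  simp

theorem prod_bits_mem (m : ℕ) : ((bits m).map R.e).prod ∈ R.eSub :=
  Subgroup.list_prod_mem _ (by simp [R.e_mem])

theorem conj_mem (g : Pres) : ∀ a ∈ R.eSub, (R.φ g)⁻¹ * a * R.φ g ∈ R.eSub := by
  have key : ∀ c : Pres, (∀ j, (R.φ c)⁻¹ * R.e j * R.φ c ∈ R.eSub) →
      ∀ a ∈ R.eSub, (R.φ c)⁻¹ * a * R.φ c ∈ R.eSub := by
    intro c hc a ha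
    induction ha using Subgroup.closure_induction with
    | mem z hz => obtain ⟨i, rfl⟩ := hz; exact hc i
    | one => simp
    | mul u v _ _ hu hv => convert mul_mem hu hv using 1; group
    | inv u _ hu => convert inv_mem hu using 1; group
  have hx := key gA fun j => by rw [R.e_conj_x]; exact R.prod_bits_mem _
  have hy := key gB⁻¹ fun j => by rw [R.e_conj_y]; exact R.prod_bits_mem _
  have hy' : ∀ a ∈ R.eSub, (R.φ gB)⁻¹ * a * R.φ gB ∈ R.eSub := by
    intro a ha
    have h2 := hy _ (hy _ ha)
    have e : gB = gB⁻¹ * gB⁻¹ := by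
      rw [← mul_inv_rev, eq_inv_iff_mul_eq_one, ← mul_assoc]; exact H54.J4.gB_cube
    rw [e, map_mul]
    convert h2 using 1
    group
  have hg : g ∈ Subgroup.closure ({gA, gB} : Set Pres) := H54.J4.closure_gens ▸ Subgroup.mem_top g
  induction hg using Subgroup.closure_induction'' with
  | one => simp
  | mem z hz =>
    rcases hz with rfl | rfl
    · exact hx
    · exact hy'
  | inv_mem z hz =>
    rcases hz with rfl | rfl
    · have e : gA⁻¹ = gA := inv_eq_of_mul_eq_one_right H54.J4.gA_sq
      rw [e]; exact hx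
    · exact hy
  | mul u v _ _ hu hv =>
    intro a ha
    convert hv _ (hu _ ha) using 1
    rw [map_mul]; group

theorem range_le_normalizer : R.φ.range ≤ Subgroup.normalizer (R.eSub : Set G) := by
  rintro _ ⟨g, rfl⟩
  rw [Subgroup.mem_normalizer_iff]
  intro a
  constructor
  · intro ha
    have := R.conj_mem g⁻¹ a ha
    rwa [map_inv, inv_inv] at this
  · intro ha
    have := R.conj_mem g _ ha
    simpa [mul_assoc] using this

/-- the group generated by x, y and s -/
def nSub : Subgroup G := R.eSub ⊔ R.φ.range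

theorem mem_nSub {g : G} : g ∈ R.nSub ↔ ∃ a ∈ R.eSub, ∃ p, a * R.φ p = g := by
  rw [← SetLike.mem_coe, nSub, Subgroup.coe_mul_of_right_le_normalizer_left _ _ R.range_le_normalizer,
    Set.mem_mul]
  simp

theorem s_mem : R.s ∈ R.nSub := by
  rw [← R.e_zero]
  exact le_sup_left (a := R.eSub) (R.e_mem 0)

theorem nSub_eq : R.nSub = Subgroup.closure {R.φ gA, R.φ gB⁻¹, R.s} := by
  apply le_antisymm
  · have hr : R.φ.range ≤ Subgroup.closure {R.φ gA, R.φ gB⁻¹, R.s} := by
      rw [MonoidHom.range_eq_map, ← H54.J4.closure_gens, MonoidHom.map_closure, Subgroup.closure_le]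
      rintro _ ⟨z, rfl | rfl, rfl⟩
      · exact Subgroup.subset_closure (Or.inl rfl)
      · have h : R.φ gB⁻¹ ∈ Subgroup.closure {R.φ gA, R.φ gB⁻¹, R.s} :=
          Subgroup.subset_closure (Or.inr (Or.inl rfl))
        simpa using inv_mem h
    refine sup_le ?_ hr
    rw [eSub, Subgroup.closure_le]
    rintro _ ⟨j, rfl⟩
    exact mul_mem (mul_mem (inv_mem (hr ⟨_, rfl⟩)) (Subgroup.subset_closure (Or.inr (Or.inr rfl))))
      (hr ⟨_, rfl⟩)
  · rw [Subgroup.closure_le]
    rintro _ (rfl | rfl | rfl)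
    · exact le_sup_right (a := R.eSub) ⟨_, rfl⟩
    · exact le_sup_right (a := R.eSub) ⟨_, rfl⟩
    · exact R.s_mem

theorem nSub_bound : Finite R.nSub ∧ Nat.card R.nSub ≤ 2 ^ 11 * 244823040 := by
  haveI := R.finite_eSub
  haveI : Finite Pres := Cert.finite_pres
  let f : R.eSub × Pres → R.nSub := fun x =>
    ⟨x.1.1 * R.φ x.2, R.mem_nSub.mpr ⟨_, x.1.2, _, rfl⟩⟩
  have hf : Function.Surjective f := by
    intro g
    obtain ⟨a, ha, p, e⟩ := R.mem_nSub.mp g.2
    exact ⟨(⟨a, ha⟩, p), Subtype.ext e⟩
  refine ⟨Finite.of_surjective f hf, (Nat.card_le_card_of_surjective f hf).trans ?_⟩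
  rw [Nat.card_prod, card_pres]
  exact Nat.mul_le_mul_right _ R.card_eSub_le

end H84.J4N.Setup
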