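import Mathlib
import Cfsg.Agent.H54.J4.Embed
import Cfsg.Agent.H84.J4N.Span

/-!
The setup for the presented fourth Janko group: the group generated by the images of x, y and `s`
has order at most `2^11` times that of the small presentation.
-/

set_option autoImplicit false
set_option maxRecDepth 100000

namespace H84.J4N

open Cfsg
open H54.J4 (Pres gA gB jRels jX jY toJ toJ_gA toJ_gB)

/-- image of t -/
def jT : PresentedGroup jRels := PresentedGroup.mk jRels Spor.J4.t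

theorem toJ_pv_one : toJ (pv [1]) = jY := by
  simp [pv, lv, toJ_gB]

theorem toJ_lv_zero : toJ (lv 0) = jX := toJ_gA
theorem toJ_lv_one : toJ (lv 1) = jY := by simp [lv, toJ_gB]
theorem toJ_lv_two : toJ (lv 2) = jY⁻¹ := toJ_gB

theorem jT_sq : jT * jT = 1 := by
  have h := H54.J4.j_rel (r := Spor.J4.t ^ 2) (by simp [Spor.J4.extra])
  rwa [pow_two, map_mul] at h

theorem comm_of_rel {G : Type*} [Group G] {a b : G} (h : a⁻¹ * b⁻¹ * a * b = 1) :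
    b * a = a * b := by
  calc b * a = b * a * (a⁻¹ * b⁻¹ * a * b) := by rw [h, mul_one]
    _ = a * b := by group

theorem j_comm : ∀ w ∈ certTrio.gens, toJ (pv w) * jT = jT * toJ (pv w) := by
  have e : certTrio.gens = [[0], [1, 0, 1, 0, 2, 0, 2, 0, 1, 0, 1, 0, 1]] := rfl
  rw [e]
  simp only [List.forall_mem_cons]
  refine ⟨?_, ?_, by simp⟩
  · rw [show toJ (pv [0]) = PresentedGroup.mk jRels Spor.J4.x by
      simp [pv_cons, toJ_lv_zero]; rfl]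
    refine comm_of_rel ?_
    have h := H54.J4.j_rel (r := Spor.J4.t⁻¹ * Spor.J4.x⁻¹ * Spor.J4.t * Spor.J4.x)
      (by simp [Spor.J4.extra])
    simpa [jT] using h
  · rw [show toJ (pv [1, 0, 1, 0, 2, 0, 2, 0, 1, 0, 1, 0, 1]) = PresentedGroup.mk jRels
      (Spor.J4.y * Spor.J4.x * Spor.J4.y * ((Spor.J4.x * (Spor.J4.y⁻¹)) ^ 2) *
        ((Spor.J4.x * Spor.J4.y) ^ 3)) by
      simp [pv_cons, toJ_lv_zero, toJ_lv_one, toJ_lv_two, pow_succ, mul_assoc, jX, jY]]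
    refine comm_of_rel ?_
    have h := H54.J4.j_rel (r := Spor.J4.t⁻¹ * (Spor.J4.y * Spor.J4.x * Spor.J4.y *
        ((Spor.J4.x * (Spor.J4.y⁻¹)) ^ 2) * ((Spor.J4.x * Spor.J4.y) ^ 3))⁻¹ * Spor.J4.t *
        (Spor.J4.y * Spor.J4.x * Spor.J4.y * ((Spor.J4.x * (Spor.J4.y⁻¹)) ^ 2) *
        ((Spor.J4.x * Spor.J4.y) ^ 3)))
      (by simp [Spor.J4.extra])
    simpa [jT] using h

theorem toJ_line : toJ (pv wLine) = PresentedGroup.mk jRels
    (Spor.J4.y * Spor.J4.x * (Spor.J4.y⁻¹) * Spor.J4.x * Spor.J4.y * Spor.J4.x * (Spor.J4.y⁻¹) *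
      Spor.J4.x) := by
  simp [wLine, pv_cons, toJ_lv_zero, toJ_lv_one, toJ_lv_two, mul_assoc, jX, jY]

theorem toJ_pi : toJ (pv wPi) = PresentedGroup.mk jRels
    ((Spor.J4.y * Spor.J4.x * Spor.J4.y * Spor.J4.x * Spor.J4.y * Spor.J4.x * Spor.J4.y) ^ 3) := by
  simp [wPi, pv_cons, toJ_lv_zero, toJ_lv_one, pow_succ, mul_assoc, jX, jY]

theorem toJ_u : toJ (pv wU) = PresentedGroup.mk jRels
    (((Spor.J4.x * Spor.J4.y) ^ 3) * Spor.J4.y * ((Spor.J4.x * Spor.J4.y) ^ 6) * Spor.J4.y) := by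
  rw [pv_eq (v := [0, 1, 0, 1, 0, 1, 1, 0, 1, 0, 1, 0, 1, 0, 1, 0, 1, 0, 1, 1])
    (by decide +kernel)]
  simp [pv_cons, toJ_lv_zero, toJ_lv_one, pow_succ, mul_assoc, jX, jY]

theorem toJ_s : toJ (pv wS) = PresentedGroup.mk jRels
    ((Spor.J4.y * Spor.J4.x) ^ 4 * Spor.J4.y⁻¹ * Spor.J4.x) := by
  simp [wS, pv_cons, toJ_lv_zero, toJ_lv_one, toJ_lv_two, pow_succ, mul_assoc, jX, jY]

/-- the presented group as a setup -/
def jSetup : Setup (PresentedGroup jRels) where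
  φ := toJ
  t := jT
  sq := jT_sq
  comm := j_comm
  relA := by
    rw [toJ_pv_one, toJ_line]
    have h := H54.J4.j_rel (r := (Spor.J4.y * ((Spor.J4.y * Spor.J4.x * (Spor.J4.y⁻¹) * Spor.J4.x *
      Spor.J4.y * Spor.J4.x * (Spor.J4.y⁻¹) * Spor.J4.x)⁻¹ * Spor.J4.t * (Spor.J4.y * Spor.J4.x *
      (Spor.J4.y⁻¹) * Spor.J4.x * Spor.J4.y * Spor.J4.x * (Spor.J4.y⁻¹) * Spor.J4.x))) ^ 3)
      (by simp [Spor.J4.extra])
    simpa [jT, jY] using h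
  relB := by
    rw [toJ_pi, toJ_u]
    have h := H54.J4.j_rel (r := (((Spor.J4.y * Spor.J4.x * Spor.J4.y * Spor.J4.x * Spor.J4.y *
      Spor.J4.x * Spor.J4.y) ^ 3) * Spor.J4.t * ((((Spor.J4.x * Spor.J4.y) ^ 3) * Spor.J4.y *
      ((Spor.J4.x * Spor.J4.y) ^ 6) * Spor.J4.y)⁻¹ * Spor.J4.t * (((Spor.J4.x * Spor.J4.y) ^ 3) *
      Spor.J4.y * ((Spor.J4.x * Spor.J4.y) ^ 6) * Spor.J4.y))) ^ 2)
      (by simp [Spor.J4.extra])
    simpa [jT] using h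

theorem jSetup_s : jSetup.s = PresentedGroup.mk jRels
    ((Spor.J4.y * ((Spor.J4.y * Spor.J4.x) ^ 4 * Spor.J4.y⁻¹ * Spor.J4.x)⁻¹ * Spor.J4.t *
      ((Spor.J4.y * Spor.J4.x) ^ 4 * Spor.J4.y⁻¹ * Spor.J4.x)) ^ 3) := by
  show (toJ (pv [1]) * ((toJ (pv wS))⁻¹ * jT * toJ (pv wS))) ^ 3 = _
  rw [toJ_pv_one, toJ_s]
  simp [jT, jY, mul_assoc]

/-- the subgroup of the presented group generated by x, y and s -/
theorem jSetup_nSub : jSetup.nSub =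
    (Subgroup.closure ({Spor.J4.x, Spor.J4.y, (Spor.J4.y *
      ((Spor.J4.y * Spor.J4.x) ^ 4 * Spor.J4.y⁻¹ * Spor.J4.x)⁻¹ * Spor.J4.t *
        ((Spor.J4.y * Spor.J4.x) ^ 4 * Spor.J4.y⁻¹ * Spor.J4.x)) ^ 3} :
          Set (FreeGroup Spor.J4.Gen))).map (PresentedGroup.mk jRels) := by
  rw [Setup.nSub_eq, MonoidHom.map_closure, Set.image_insert_eq, Set.image_pair, jSetup_s]
  have hx : jSetup.φ gA = PresentedGroup.mk jRels Spor.J4.x := toJ_gA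
  have hy : jSetup.φ gB⁻¹ = PresentedGroup.mk jRels Spor.J4.y := toJ_lv_one
  rw [hx, hy]

/-- it has at most `2^11 * |M24|` elements -/
theorem jN_bound : Finite jSetup.nSub ∧ Nat.card jSetup.nSub ≤ 2 ^ 11 * 244823040 :=
  jSetup.nSub_bound

end H84.J4N
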