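import Cfsg.Agent.H84.J4N.Rewrite

/-!
Generated data: conjugation by t of nine basis vectors.
-/

set_option autoImplicit false
set_option maxRecDepth 100000

namespace H84.J4N

/-- the trio word of the frame -/
def frameA : List ℕ := [1,0,2,0,1]
/-- the sextet word of the frame -/
def frameW : List ℕ := [0,1,0,1,0,1,0,2,0,2,0,2]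
/-- the resulting word of the frame -/
def frameZ : List ℕ := [1,0,1,0,1,0,2,0,2,0,2,0,2,0,1,0,1,0,2,0,1,0,1,0,1,0,2,0,2,0,1,0,1,0,1,0,2,0,1,0,1,0,1,0,1,0,2,0,2,0,2,0,2]
/-- the derivation of the frame -/
def frameMoves : List Move := [
  (2,5,0,[1,0,1,0,2,0,1,0,2,0,1,0,1,0,2,0,2,0,1,0,1,0,2,0,1,0,2,0,2,0,1,0,1,0,1,0,1,0,1,0,2,0,2,0,1,0,1,0,2,0,1,0,2,0,2,0,1,0,1,0,2,0,1,0,2,0,1,0,1,0,1,0,1]),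
  (2,8,3,[0,1,0,1,0,2,0,2,0,1,0,1,0,1,0,1,0,1,0,2,0,2,0,1,0,1,0,1,0,1,0,1,0,2,0,2,0,1,0,1,0,2,0,1,0,2,0,2,0,1,0,1,0,2,0,1,0,2,0,2,0,1,0,1,0,1,0,2,0,2,0,1,0,1,0,2,0,1,0,2,0,2,0,2]),
  (0,11,0,[]),
  (0,10,0,[]),
  (2,7,0,[1,0,1,0,2,0,1,0,2,0,1,0,1,0,2,0,2,0,1,0,1,0,2,0,1,0,2,0,2,0,1,0,1,0,2,0,1,0,2,0,2,0,1,0,1,0,1,0,1,0,1,0,2,0,2,0,1,0,1,0,1,0,2,0,2,0,1,0,2,0,1,0,2,0,1,0,1,0]),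
  (0,9,0,[]),
  (0,8,0,[]),
  (2,7,0,[1,0,1,0,2,0,1,0,2,0,1,0,1,0,2,0,2,0,1,0,1,0,2,0,1,0,2,0,2,0,1,0,1,0,1,0,2,0,2,0,1,0,1,0,2,0,1,0,2,0,2,0,2]),
  (0,9,0,[]),
  (2,9,3,[0,1,0,1,0,2,0,2,0,1,0,1,0,1,0,1,0,1,0,2,0,2,0,1,0,1,0,1,0,1,0,1,0,2,0,2,0,1,0,1,0,1]),
  (0,12,0,[]),
  (0,11,0,[]),
  (2,8,3,[0,1,0,1,0,2,0,2,0,1,0,1,0,2,0,1,0,2,0,2,0,1,0,1,0,1,0,1,0,1,0,2,0,2,0,1,0,1,0,1]),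
  (0,11,0,[]),
  (0,10,0,[]),
  (2,7,3,[0,1,0,1,0,2,0,2,0,1,0,1,0,1,0,1,0,1,0,2,0,2,0,1,0,1,0,2,0,1,0,2,0,2,0,1,0,1,0,1]),
  (0,10,0,[]),
  (0,9,0,[]),
  (2,6,3,[0,1,0,1,0,2,0,2,0,1,0,1,0,2,0,1,0,2,0,2,0,1,0,1,0,2,0,1,0,2,0,2,0,1,0,1,0,1]),
  (0,9,0,[]),
  (0,8,0,[]),
  (2,5,0,[1,0,1,0,2,0,2,0,2,0,2,0,1,0,1,0,2,0,1,0,2,0,2,0,1,0,1,0,1,0,1,0,1,0,2,0,2,0,1,0,1,0,2,0,1,0,2,0,2,0,1,0,1,0,2,0,1,0,2,0,2,0,1,0,1,0,1,0,1,0,1,0,2,0,2,0,1,0,1,0,2,0,1,0,2,0,1,0,1,0,2,0,2,0,1,0,2,0,1]),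
  (0,7,0,[]),
  (0,6,0,[]),
  (2,5,0,[1,0,1,0,2,0,1,0,2,0,1,0,1,0,2,0,2,0,1,0,1,0,1,0,1,0,1,0,2,0,2,0,1,0,1,0,1,0,1,0,1,0,2,0,2,0,1,0,1,0,2,0,1,0,2,0,2,0,1,0,1,0,2,0,1,0,2,0,2,0,1,0,1,0,1]),
  (0,7,0,[]),
  (2,5,0,[1,0,1,0,2,0,2,0,2,0,2,0,1,0,1,0,2,0,1,0,2,0,2,0,1,0,1,0,1,0,1,0,1,0,2,0,2,0,1,0,1,0,2,0,1,0,2,0,2,0,1,0,1,0,2,0,1,0,2,0,2,0,1,0,1,0,2,0,1,0,2,0,1,0,1,0,2,0,2]),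
  (2,7,3,[0,1,0,1,0,2,0,2,0,1,0,1,0,1,0,1,0,1,0,2,0,2,0,1,0,1,0,1,0,1,0,1,0,2,0,2,0,1,0,1,0,1]),
  (0,10,0,[]),
  (0,9,0,[]),
  (2,6,3,[0,1,0,1,0,2,0,2,0,1,0,1,0,2,0,1,0,2,0,2,0,1,0,1,0,2,0,1,0,2,0,2,0,1,0,1,0,1]),
  (0,9,0,[]),
  (0,8,0,[]),
  (2,5,0,[1,0,1,0,2,0,1,0,2,0,1,0,1,0,2,0,2,0,1,0,1,0,2,0,1,0,2,0,2,0,1,0,1,0,2,0,1,0,2,0,2,0,1,0,1,0,1,0,1,0,1,0,2,0,2,0,1,0,1,0,2,0,2,0,2,0,2,0,1,0,1,0,2,0,2,0,1,0,1,0,1,0,2]),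
  (0,7,0,[]),
  (0,6,0,[]),
  (2,5,0,[1,0,1,0,2,0,2,0,2,0,2,0,1,0,1,0,2,0,1,0,2,0,2,0,1,0,1,0,1,0,1,0,1,0,2,0,2,0,1,0,1,0,2,0,1,0,2,0,2,0,1,0,1,0,2,0,1,0,2,0,2,0,1,0,1,0,1,0,1,0,1,0,2,0,2,0,1,0,1,0,1]),
  (0,7,0,[]),
  (2,8,3,[0,1,0,1,0,2,0,2,0,1,0,1,0,1,0,1,0,1,0,2,0,2,0,1,0,1,0,2,0,1,0,2,0,2,0,1,0,1,0,1,0,1,0,1,0,2,0,2,0,1,0,1,0,2,0,1,0,2,0,2,0,1,0,1,0,1,0,1,0,1,0,2,0,1,0,1,0,1,0,1]),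
  (0,11,0,[]),
  (0,10,0,[]),
  (2,7,0,[1,0,1,0,2,0,1,0,2,0,1,0,1,0,2,0,2,0,1,0,1,0,2,0,1,0,2,0,2,0,1,0,1,0,1,0,1,0,2,0,1,0,2,0,2,0,1,0,1,0,1,0,1,0,2,0,2]),
  (0,9,0,[]),
  (0,8,0,[]),
  (2,7,0,[1,0,1,0,2,0,1,0,2,0,1,0,1,0,2,0,2,0,1,0,1,0,2,0,1,0,2,0,2,0,1,0,1,0,1,0,1,0,1,0,2,0,2,0,1,0,1,0,2,0,1,0,2,0,2,0,1,0,1,0,2,0,1,0,2,0,1,0,1,0,1,0,1]),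
  (0,9,0,[]),
  (2,6,3,[0,1,0,1,0,2,0,2,0,1,0,1,0,1,0,1,0,1,0,2,0,2,0,1,0,1,0,2,0,1,0,2,0,2,0,1,0,1,0,2,0,1,0,2,0,1,0,1,0,1,0,1]),
  (0,9,0,[]),
  (0,8,0,[]),
  (2,9,0,[1,0,1,0,2,0,2,0,2,0,2,0,1,0,1,0,2,0,1,0,2,0,2,0,1,0,1,0,1,0,1,0,1,0,2,0,2,0,1,0,1,0,2,0,1,0,2,0,2,0,1,0,1,0,2,0,1,0,2,0,2,0,1,0,1,0,2,0,1,0,2,0,1,0,1,0,2,0,2]),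
  (0,11,0,[]),
  (0,10,0,[]),
  (2,9,0,[1,0,1,0,2,0,1,0,2,0,1,0,1,0,2,0,2,0,1,0,1,0,2,0,1,0,2,0,2,0,1,0,1,0,2,0,1,0,2,0,2,0,1,0,1,0,1,0,1,0,1,0,2,0,2,0,1,0,1,0,2,0,1,0,2,0,2,0,1,0,1,0,1,0,1,0,2,0,2,0,2,0,2,0,1,0,1,0,2,0,2]),
  (0,11,0,[]),
  (0,8,0,[]),
  (2,8,3,[0,1,0,1,0,2,0,2,0,1,0,1,0,1,0,1,0,1,0,2,0,2,0,1,0,1,0,1,0,1,0,1,0,2,0,2,0,1,0,1,0,2,0,1,0,2,0,2,0,1,0,1,0,2,0,1,0,2,0,2,0,1,0,1,0,1,0,2,0,2,0,1,0,1,0,2,0,1,0,2,0,2,0,2]),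
  (0,11,0,[]),
  (0,10,0,[]),
  (2,9,3,[0,1,0,1,0,2,0,2,0,1,0,1,0,2,0,1,0,2,0,2,0,1,0,1,0,1,0,1,0,1,0,2,0,2,0,1,0,1,0,2,0,1,0,2,0,2,0,1,0,1,0,2,0,1,0,2,0,2,0,1,0,1,0,2,0,2,0,1,0,2,0,2,0,1,0,1,0,1,0,1,0,2,0,2]),
  (0,12,0,[]),
  (0,11,0,[]),
  (0,10,0,[]),
  (2,5,0,[1,0,1,0,2,0,1,0,2,0,1,0,1,0,2,0,2,0,1,0,1,0,2,0,1,0,2,0,2,0,1,0,1,0,2,0,1,0,2,0,2,0,1,0,1,0,1,0,1,0,1,0,2,0,2,0,1,0,1,0,1,0,2,0,2,0,1,0,2,0,1,0,2,0,1,0,1,0]),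
  (2,7,3,[0,1,0,1,0,2,0,2,0,1,0,1,0,2,0,1,0,2,0,2,0,1,0,1,0,1,0,1,0,1,0,2,0,2,0,1,0,1,0,1]),
  (0,10,0,[]),
  (0,9,0,[]),
  (2,6,3,[0,1,0,1,0,2,0,2,0,1,0,1,0,1,0,1,0,1,0,2,0,2,0,1,0,1,0,2,0,1,0,2,0,2,0,1,0,1,0,1]),
  (0,9,0,[]),
  (0,8,0,[]),
  (2,5,0,[1,0,1,0,2,0,2,0,2,0,2,0,1,0,1,0,2,0,1,0,2,0,2,0,1,0,1,0,2,0,2,0,1,0,2,0,2,0,1,0,2,0,1,0,2,0]),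
  (0,7,0,[]),
  (0,6,0,[]),
  (2,5,0,[1,0,1,0,2,0,2,0,2,0,2,0,1,0,1,0,2,0,1,0,2,0,2,0,1,0,1,0,1,0]),
  (0,7,0,[]),
  (2,8,0,[1,0,1,0,2,0,1,0,2,0,1,0,1,0,2,0,2,0,1,0,1,0,1,0,1,0,1,0,2,0,2,0,1,0,1,0,2,0,2,0,2,0,2,0,2,0,1,0,1,0,2,0,2]),
  (0,10,0,[]),
  (0,9,0,[]),
  (2,8,0,[1,0,1,0,2,0,1,0,2,0,1,0,1,0,2,0,2,0,1,0,1,0,1,0,1,0,1,0,2,0,2,0,1,0,1,0,1,0,1,0,1,0,2,0,2,0,1,0,1,0,2,0,1,0,2,0,2,0,1,0,1,0,2,0,1,0,2,0,2,0,1,0,1,0,2,0,1,0,2,0,1,0,1,0,1,0,1]),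
  (0,10,0,[]),
  (2,7,3,[0,1,0,1,0,2,0,2,0,1,0,1,0,2,0,1,0,2,0,2,0,1,0,1,0,1,0,1,0,1,0,2,0,2,0,1,0,1,0,2,0,1,0,2,0,1,0,1,0,1,0,1]),
  (0,10,0,[]),
  (0,9,0,[]),
  (2,6,3,[0,1,0,1,0,2,0,2,0,1,0,1,0,2,0,1,0,2,0,2,0,1,0,1,0,2,0,1,0,2,0,2,0,1,0,1,0,2,0,1,0,2,0,1,0,1,0,1,0,1]),
  (0,9,0,[]),
  (0,8,0,[]),
  (2,9,3,[0,1,0,1,0,2,0,2,0,1,0,1,0,1,0,1,0,1,0,2,0,2,0,1,0,1,0,2,0,1,0,2,0,1,0,1,0,2,0,2]),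
  (0,12,0,[]),
  (0,11,0,[]),
  (2,8,0,[1,0,1,0,2,0,1,0,2,0,1,0,1,0,2,0,2,0,1,0,1,0,2,0,1,0,2,0,2,0,1,0,1,0,2,0,1,0,2,0,2,0,1,0,1,0,1,0,1,0,1,0,2,0,2,0,1,0,1,0,1,0,1,0,1,0,2,0,2,0,1,0,1,0,2,0,1,0,2,0,2,0,1,0,1,0,2,0,1,0,2,0,1,0,2,0,1,0,2,0,2,0,2,0,1,0,1,0,2,0,2,0,1,0]),
  (0,10,0,[]),
  (0,9,0,[]),
  (2,8,0,[1,0,1,0,2,0,2,0,2,0,2,0,1,0,1,0,2,0,1,0,2,0,2,0,1,0,1,0,1,0,1,0,1,0,2,0,2,0,1,0,1,0,2,0,1,0,2,0,2,0,1,0,1,0,2,0,1,0,2,0,2,0,1,0,1,0,1,0,1,0,1,0,2,0,1,0,1,0,2,0,2]),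
  (0,10,0,[]),
  (2,7,3,[0,1,0,1,0,2,0,2,0,1,0,1,0,1,0,1,0,1,0,2,0,2,0,1,0,1,0,1,0,1,0,1,0,2,0,2,0,1,0,1,0,2,0,1,0,2,0,2,0,1,0,1,0,2,0,1,0,2,0,2,0,1,0,1,0,1,0,1,0,1,0,2,0,2,0,1,0,1,0,2,0,1,0,2,0,1,0,1,0,2,0,2]),
  (0,10,0,[]),
  (0,9,0,[]),
  (2,10,0,[1,0,1,0,2,0,1,0,2,0,1,0,1,0,2,0,2,0,1,0,1,0,2,0,1,0,2,0,2,0,1,0,1,0,2,0,1,0,2,0,2,0,1,0,1,0,1,0,1,0,1,0,2,0,2,0,1,0,1,0,1,0,2,0,2,0,1,0,2,0,1,0,2,0,1,0,1,0]),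
  (0,12,0,[]),
  (0,11,0,[]),
  (2,10,0,[1,0,1,0,2,0,1,0,2,0,1,0,1,0,2,0,2,0,1,0,1,0,2,0,1,0,2,0,2,0,1,0,1,0,1,0,2,0,2,0,1,0,1,0,2,0,1,0,2,0,2,0,2]),
  (0,12,0,[]),
  (0,9,0,[]),
  (0,9,0,[]),
  (2,1,0,[1,0,1,0,2,0,1,0,2,0,1,0,1,0,2,0,2,0,1,0,1,0,2,0,1,0,2,0,2,0,1,0,1,0,1,0,1,0,1,0,2,0,2,0,1,0,1,0,2,0,1,0,2,0,2,0,1,0,1,0,2,0,1,0,2,0,1,0,1,0,1,0,1]),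
  (2,4,3,[0,1,0,1,0,2,0,2,0,1,0,1,0,1,0,1,0,1,0,2,0,2,0,1,0,1,0,1,0,1,0,1,0,2,0,2,0,1,0,1,0,2,0,1,0,2,0,2,0,1,0,1,0,2,0,1,0,2,0,2,0,1,0,1,0,1,0,2,0,2,0,1,0,1,0,2,0,1,0,2,0,2,0,2]),
  (0,7,0,[]),
  (0,6,0,[]),
  (2,3,0,[1,0,1,0,2,0,1,0,2,0,1,0,1,0,2,0,2,0,1,0,1,0,2,0,1,0,2,0,2,0,1,0,1,0,2,0,1,0,2,0,2,0,1,0,1,0,1,0,1,0,1,0,2,0,2,0,1,0,1,0,1,0,2,0,2,0,1,0,2,0,1,0,2,0,1,0,1,0]),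
  (0,5,0,[]),
  (0,4,0,[]),
  (2,3,0,[1,0,1,0,2,0,1,0,2,0,1,0,1,0,2,0,2,0,1,0,1,0,2,0,1,0,2,0,2,0,1,0,1,0,1,0,2,0,2,0,1,0,1,0,2,0,1,0,2,0,2,0,2]),
  (0,5,0,[]),
  (2,5,3,[0,1,0,1,0,2,0,2,0,1,0,1,0,1,0,1,0,1,0,2,0,2,0,1,0,1,0,1,0,1,0,1,0,2,0,2,0,1,0,1,0,1]),
  (0,8,0,[]),
  (0,7,0,[]),
  (2,4,3,[0,1,0,1,0,2,0,2,0,1,0,1,0,2,0,1,0,2,0,2,0,1,0,1,0,1,0,1,0,1,0,2,0,2,0,1,0,1,0,1]),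
  (0,7,0,[]),
  (0,6,0,[]),
  (2,3,3,[0,1,0,1,0,2,0,2,0,1,0,1,0,1,0,1,0,1,0,2,0,2,0,1,0,1,0,2,0,1,0,2,0,2,0,1,0,1,0,1]),
  (0,6,0,[]),
  (0,5,0,[]),
  (2,2,3,[0,1,0,1,0,2,0,2,0,1,0,1,0,2,0,1,0,2,0,2,0,1,0,1,0,2,0,1,0,2,0,2,0,1,0,1,0,1]),
  (0,5,0,[]),
  (0,4,0,[]),
  (2,1,0,[1,0,1,0,2,0,2,0,2,0,2,0,1,0,1,0,2,0,1,0,2,0,2,0,1,0,1,0,1,0,1,0,1,0,2,0,2,0,1,0,1,0,2,0,1,0,2,0,2,0,1,0,1,0,2,0,1,0,2,0,2,0,1,0,1,0,1,0,1,0,1,0,2,0,2,0,1,0,1,0,2,0,1,0,2,0,1,0,1,0,2,0,2,0,1,0,2,0,1]),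
  (0,3,0,[]),
  (0,2,0,[]),
  (2,1,0,[1,0,1,0,2,0,1,0,2,0,1,0,1,0,2,0,2,0,1,0,1,0,1,0,1,0,1,0,2,0,2,0,1,0,1,0,1,0,1,0,1,0,2,0,2,0,1,0,1,0,2,0,1,0,2,0,2,0,1,0,1,0,2,0,1,0,2,0,2,0,1,0,1,0,1]),
  (0,3,0,[]),
  (2,1,0,[1,0,1,0,2,0,2,0,2,0,2,0,1,0,1,0,2,0,1,0,2,0,2,0,1,0,1,0,1,0,1,0,1,0,2,0,2,0,1,0,1,0,2,0,1,0,2,0,2,0,1,0,1,0,2,0,1,0,2,0,2,0,1,0,1,0,2,0,1,0,2,0,1,0,1,0,2,0,2]),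
  (2,3,3,[0,1,0,1,0,2,0,2,0,1,0,1,0,1,0,1,0,1,0,2,0,2,0,1,0,1,0,1,0,1,0,1,0,2,0,2,0,1,0,1,0,1]),
  (0,6,0,[]),
  (0,5,0,[]),
  (2,2,3,[0,1,0,1,0,2,0,2,0,1,0,1,0,2,0,1,0,2,0,2,0,1,0,1,0,2,0,1,0,2,0,2,0,1,0,1,0,1]),
  (0,5,0,[]),
  (0,4,0,[]),
  (2,1,0,[1,0,1,0,2,0,1,0,2,0,1,0,1,0,2,0,2,0,1,0,1,0,2,0,1,0,2,0,2,0,1,0,1,0,2,0,1,0,2,0,2,0,1,0,1,0,1,0,1,0,1,0,2,0,2,0,1,0,1,0,2,0,2,0,2,0,2,0,1,0,1,0,2,0,2,0,1,0,1,0,1,0,2]),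
  (0,3,0,[]),
  (0,2,0,[]),
  (2,1,0,[1,0,1,0,2,0,2,0,2,0,2,0,1,0,1,0,2,0,1,0,2,0,2,0,1,0,1,0,1,0,1,0,1,0,2,0,2,0,1,0,1,0,2,0,1,0,2,0,2,0,1,0,1,0,2,0,1,0,2,0,2,0,1,0,1,0,1,0,1,0,1,0,2,0,2,0,1,0,1,0,1]),
  (0,3,0,[]),
  (2,4,3,[0,1,0,1,0,2,0,2,0,1,0,1,0,1,0,1,0,1,0,2,0,2,0,1,0,1,0,2,0,1,0,2,0,2,0,1,0,1,0,1,0,1,0,1,0,2,0,2,0,1,0,1,0,2,0,1,0,2,0,2,0,1,0,1,0,1,0,1,0,1,0,2,0,1,0,1,0,1,0,1]),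
  (0,7,0,[]),
  (0,6,0,[]),
  (2,3,0,[1,0,1,0,2,0,1,0,2,0,1,0,1,0,2,0,2,0,1,0,1,0,2,0,1,0,2,0,2,0,1,0,1,0,1,0,1,0,2,0,1,0,2,0,2,0,1,0,1,0,1,0,1,0,2,0,2]),
  (0,5,0,[]),
  (0,4,0,[]),
  (2,3,0,[1,0,1,0,2,0,1,0,2,0,1,0,1,0,2,0,2,0,1,0,1,0,2,0,1,0,2,0,2,0,1,0,1,0,1,0,1,0,1,0,2,0,2,0,1,0,1,0,2,0,1,0,2,0,2,0,1,0,1,0,2,0,1,0,2,0,1,0,1,0,1,0,1]),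
  (0,5,0,[]),
  (2,2,3,[0,1,0,1,0,2,0,2,0,1,0,1,0,1,0,1,0,1,0,2,0,2,0,1,0,1,0,2,0,1,0,2,0,2,0,1,0,1,0,2,0,1,0,2,0,1,0,1,0,1,0,1]),
  (0,5,0,[]),
  (0,4,0,[]),
  (2,5,0,[1,0,1,0,2,0,2,0,2,0,2,0,1,0,1,0,2,0,1,0,2,0,2,0,1,0,1,0,1,0,1,0,1,0,2,0,2,0,1,0,1,0,2,0,1,0,2,0,2,0,1,0,1,0,2,0,1,0,2,0,2,0,1,0,1,0,2,0,1,0,2,0,1,0,1,0,2,0,2]),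
  (0,7,0,[]),
  (0,6,0,[]),
  (2,5,0,[1,0,1,0,2,0,1,0,2,0,1,0,1,0,2,0,2,0,1,0,1,0,2,0,1,0,2,0,2,0,1,0,1,0,2,0,1,0,2,0,2,0,1,0,1,0,1,0,1,0,1,0,2,0,2,0,1,0,1,0,2,0,1,0,2,0,2,0,1,0,1,0,1,0,1,0,2,0,2,0,2,0,2,0,1,0,1,0,2,0,2]),
  (0,7,0,[]),
  (0,4,0,[]),
  (2,4,3,[0,1,0,1,0,2,0,2,0,1,0,1,0,1,0,1,0,1,0,2,0,2,0,1,0,1,0,1,0,1,0,1,0,2,0,2,0,1,0,1,0,2,0,1,0,2,0,2,0,1,0,1,0,2,0,1,0,2,0,2,0,1,0,1,0,1,0,2,0,2,0,1,0,1,0,2,0,1,0,2,0,2,0,2]),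
  (0,7,0,[]),
  (0,6,0,[]),
  (2,5,3,[0,1,0,1,0,2,0,2,0,1,0,1,0,2,0,1,0,2,0,2,0,1,0,1,0,1,0,1,0,1,0,2,0,2,0,1,0,1,0,2,0,1,0,2,0,2,0,1,0,1,0,2,0,1,0,2,0,2,0,1,0,1,0,2,0,2,0,1,0,2,0,2,0,1,0,1,0,1,0,1,0,2,0,2]),
  (0,8,0,[]),
  (0,7,0,[]),
  (0,6,0,[]),
  (2,1,0,[1,0,1,0,2,0,1,0,2,0,1,0,1,0,2,0,2,0,1,0,1,0,2,0,1,0,2,0,2,0,1,0,1,0,2,0,1,0,2,0,2,0,1,0,1,0,1,0,1,0,1,0,2,0,2,0,1,0,1,0,1,0,2,0,2,0,1,0,2,0,1,0,2,0,1,0,1,0]),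
  (2,3,3,[0,1,0,1,0,2,0,2,0,1,0,1,0,2,0,1,0,2,0,2,0,1,0,1,0,1,0,1,0,1,0,2,0,2,0,1,0,1,0,1]),
  (0,6,0,[]),
  (0,5,0,[]),
  (2,2,3,[0,1,0,1,0,2,0,2,0,1,0,1,0,1,0,1,0,1,0,2,0,2,0,1,0,1,0,2,0,1,0,2,0,2,0,1,0,1,0,1]),
  (0,5,0,[]),
  (0,4,0,[]),
  (2,1,0,[1,0,1,0,2,0,2,0,2,0,2,0,1,0,1,0,2,0,1,0,2,0,2,0,1,0,1,0,2,0,2,0,1,0,2,0,2,0,1,0,2,0,1,0,2,0]),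
  (0,3,0,[]),
  (0,2,0,[]),
  (2,1,0,[1,0,1,0,2,0,2,0,2,0,2,0,1,0,1,0,2,0,1,0,2,0,2,0,1,0,1,0,1,0]),
  (0,3,0,[]),
  (2,4,0,[1,0,1,0,2,0,1,0,2,0,1,0,1,0,2,0,2,0,1,0,1,0,1,0,1,0,1,0,2,0,2,0,1,0,1,0,2,0,2,0,2,0,2,0,2,0,1,0,1,0,2,0,2]),
  (0,6,0,[]),
  (0,5,0,[]),
  (2,4,0,[1,0,1,0,2,0,1,0,2,0,1,0,1,0,2,0,2,0,1,0,1,0,1,0,1,0,1,0,2,0,2,0,1,0,1,0,1,0,1,0,1,0,2,0,2,0,1,0,1,0,2,0,1,0,2,0,2,0,1,0,1,0,2,0,1,0,2,0,2,0,1,0,1,0,2,0,1,0,2,0,1,0,1,0,1,0,1]),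
  (0,6,0,[]),
  (2,3,3,[0,1,0,1,0,2,0,2,0,1,0,1,0,2,0,1,0,2,0,2,0,1,0,1,0,1,0,1,0,1,0,2,0,2,0,1,0,1,0,2,0,1,0,2,0,1,0,1,0,1,0,1]),
  (0,6,0,[]),
  (0,5,0,[]),
  (2,2,3,[0,1,0,1,0,2,0,2,0,1,0,1,0,2,0,1,0,2,0,2,0,1,0,1,0,2,0,1,0,2,0,2,0,1,0,1,0,2,0,1,0,2,0,1,0,1,0,1,0,1]),
  (0,5,0,[]),
  (0,4,0,[]),
  (2,5,3,[0,1,0,1,0,2,0,2,0,1,0,1,0,1,0,1,0,1,0,2,0,2,0,1,0,1,0,2,0,1,0,2,0,1,0,1,0,2,0,2]),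
  (0,8,0,[]),
  (0,7,0,[]),
  (2,4,0,[1,0,1,0,2,0,1,0,2,0,1,0,1,0,2,0,2,0,1,0,1,0,2,0,1,0,2,0,2,0,1,0,1,0,2,0,1,0,2,0,2,0,1,0,1,0,1,0,1,0,1,0,2,0,2,0,1,0,1,0,1,0,1,0,1,0,2,0,2,0,1,0,1,0,2,0,1,0,2,0,2,0,1,0,1,0,2,0,1,0,2,0,1,0,2,0,1,0,2,0,2,0,2,0,1,0,1,0,2,0,2,0,1,0]),
  (0,6,0,[]),
  (0,5,0,[]),
  (2,4,0,[1,0,1,0,2,0,2,0,2,0,2,0,1,0,1,0,2,0,1,0,2,0,2,0,1,0,1,0,1,0,1,0,1,0,2,0,2,0,1,0,1,0,2,0,1,0,2,0,2,0,1,0,1,0,2,0,1,0,2,0,2,0,1,0,1,0,1,0,1,0,1,0,2,0,1,0,1,0,2,0,2]),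
  (0,6,0,[]),
  (2,3,3,[0,1,0,1,0,2,0,2,0,1,0,1,0,1,0,1,0,1,0,2,0,2,0,1,0,1,0,1,0,1,0,1,0,2,0,2,0,1,0,1,0,2,0,1,0,2,0,2,0,1,0,1,0,2,0,1,0,2,0,2,0,1,0,1,0,1,0,1,0,1,0,2,0,2,0,1,0,1,0,2,0,1,0,2,0,1,0,1,0,2,0,2]),
  (0,6,0,[]),
  (0,5,0,[]),
  (2,6,0,[1,0,1,0,2,0,1,0,2,0,1,0,1,0,2,0,2,0,1,0,1,0,2,0,1,0,2,0,2,0,1,0,1,0,2,0,1,0,2,0,2,0,1,0,1,0,1,0,1,0,1,0,2,0,2,0,1,0,1,0,1,0,2,0,2,0,1,0,2,0,1,0,2,0,1,0,1,0]),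
  (0,8,0,[]),
  (0,7,0,[]),
  (2,6,0,[1,0,1,0,2,0,1,0,2,0,1,0,1,0,2,0,2,0,1,0,1,0,2,0,1,0,2,0,2,0,1,0,1,0,1,0,2,0,2,0,1,0,1,0,2,0,1,0,2,0,2,0,2]),
  (0,8,0,[]),
  (0,5,0,[]),
  (0,5,0,[]),
  (2,0,0,[1,0,1,0,2,0,1,0,2,0,1,0,1,0,2,0,2,0,1,0,1,0,2,0,1,0,2,0,2,0,1,0,1,0,2,0,1,0,2,0,2,0,1,0,1,0,1,0,1,0,1,0,2,0,2,0,1,0,1,0,2,0,1,0,2,0,2,0,1,0,2,0,1,0,1,0,2,0,1,0,2,0,2,0,2,0,1]),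
  (0,2,0,[]),
  (0,1,0,[]),
  (2,0,0,[1,0,1,0,2,0,2,0,2,0,2,0,1,0,1,0,2,0,1,0,2,0,2,0,1,0,1,0,1,0,1,0,1,0,2,0,2,0,1,0,1,0,2,0,1,0,2,0,2,0,1,0,1,0,2,0,1,0,2,0,2,0,1,0,1,0,1,0,1,0,1,0,2,0,2,0,1,0,1,0,2,0,1,0,2,0,2,0,1,0,1,0,1]),
  (0,2,0,[]),
  (2,1,0,[1,0,1,0,2,0,2,0,2,0,2,0,1,0,1,0,2,0,1,0,2,0,2,0,1,0,1,0,1,0,1,0,1,0,2,0,2,0,1,0,1,0,2,0,1,0,2,0,2,0,1,0,1,0,2,0,1,0,2,0,2,0,1,0,1,0,1,0,1,0,1,0,2,0,2,0,1,0,1,0,2,0,2,0,2,0,2,0,1,0,1,0,2,0,2,0,1,0,2]),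
  (0,3,0,[]),
  (0,2,0,[]),
  (2,3,2,[0,1,0,1,0,2,0,2,0,1,0,1,0,2,0,1,0,2,0,2,0,1,0,1,0,1,0,1,0,1,0,2,0,2,0,1,0,1,0,1,0,1,0,1,0,2,0,2,0,1,0,1,0,1,0,1,0,1,0,2,0,2,0,1,0,1,0,2,0,1,0,2,0,2,0,1,0,1,0,2,0,1,0,2,0,2,0,1,0,1,0,1,0,1,0,1,0,2,0,2,0,1,0,1,0,2,0,1,0,2,0,2,0,1,0,1,0,1,0,1,0,1,0,2,0,2,0,1,0,1,0,2,0,2,0,1]),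
  (0,7,0,[]),
  (0,6,0,[]),
  (2,2,2,[0,1,0,1,0,2,0,2,0,1,0,1,0,2,0,1,0,2,0,2,0,1,0,1,0,2,0,1,0,2,0,2,0,1,0,1,0,1,0,1,0,1,0,2,0,2,0,1,0,1,0,1,0,1,0,1,0,2,0,2,0,1,0,1,0,1,0,1,0,1,0,2,0,2,0,1,0,1,0,2,0,1,0,2,0,2,0,1,0,1,0,2,0,1,0,2,0,2,0,1,0,1,0,2,0,2,0,1]),
  (0,6,0,[]),
  (0,5,0,[]),
  (2,1,0,[1,0,1,0,2,0,1,0,2,0,1,0,1,0,2,0,2,0,1,0,1,0,1,0,1,0,1,0,2,0,2,0,1,0,1,0,1,0,1,0,1,0,2,0,2,0,1,0,1,0,2,0,1,0,2,0,2,0,1,0,1,0,2,0,1,0,2,0,1,0,1,0,1,0,1]),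
  (0,3,0,[]),
  (0,2,0,[]),
  (2,2,0,[1,0,1,0,2,0,1,0,2,0,1,0,1,0,2,0,2,0,1,0,1,0,2,0,1,0,2,0,2,0,1,0,1,0,2,0,1,0,2,0,2,0,1,0,1,0,1,0,1,0,1,0,2,0,2,0,1,0,1,0,2,0,2,0,2,0,2,0,1,0,1,0,2,0,2,0,1,0,1,0,1,0,2]),
  (0,4,0,[]),
  (0,3,0,[]),
  (2,2,0,[1,0,1,0,2,0,2,0,2,0,2,0,1,0,1,0,2,0,1,0,2,0,2,0,1,0,1,0,1,0,1,0,1,0,2,0,2,0,1,0,1,0,2,0,1,0,2,0,2,0,1,0,1,0,2,0,1,0,2,0,2,0,1,0,1,0,1,0,1,0,1,0,2,0,2,0,1,0,1,0,1]),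
  (0,4,0,[]),
  (2,1,0,[1,0,1,0,2,0,2,0,2,0,2,0,1,0,1,0,2,0,1,0,2,0,2,0,1,0,1,0,1,0,1,0,1,0,2,0,2,0,1,0,1,0,2,0,1,0,2,0,2,0,1,0,1,0,2,0,1,0,2,0,2,0,1,0,1,0,1,0,1,0,1,0,2,0,2,0,1,0,1,0,2,0,1,0,2,0,1,0,1,0,2,0,2,0,1,0,2,0,1]),
  (0,3,0,[]),
  (0,2,0,[]),
  (2,1,0,[1,0,1,0,2,0,1,0,2,0,1,0,1,0,2,0,2,0,1,0,1,0,1,0,1,0,1,0,2,0,2,0,1,0,1,0,1,0,1,0,1,0,2,0,2,0,1,0,1,0,2,0,1,0,2,0,2,0,1,0,1,0,2,0,1,0,2,0,2,0,1,0,1,0,1]),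
  (0,3,0,[]),
  (0,0,0,[]),
  (2,2,0,[1,0,1,0,2,0,2,0,2,0,2,0,1,0,1,0,2,0,1,0,2,0,2,0,1,0,1,0,2,0,2,0,1,0,2,0,2,0,1,0,2,0,1,0,2,0]),
  (0,4,0,[]),
  (0,3,0,[]),
  (2,2,0,[1,0,1,0,2,0,2,0,2,0,2,0,1,0,1,0,2,0,1,0,2,0,2,0,1,0,1,0,1,0]),
  (0,4,0,[]),
  (2,1,0,[1,0,1,0,2,0,1,0,2,0,1,0,1,0,2,0,2,0,1,0,1,0,2,0,1,0,2,0,2,0,1,0,1,0,2,0,1,0,2,0,2,0,1,0,1,0,1,0,1,0,1,0,2,0,2,0,1,0,1,0,2,0,2,0,2,0,2,0,1,0,1,0,2,0,2,0,1,0,1,0,1,0,2]),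
  (0,3,0,[]),
  (0,2,0,[]),
  (2,1,0,[1,0,1,0,2,0,2,0,2,0,2,0,1,0,1,0,2,0,1,0,2,0,2,0,1,0,1,0,1,0,1,0,1,0,2,0,2,0,1,0,1,0,2,0,1,0,2,0,2,0,1,0,1,0,2,0,1,0,2,0,2,0,1,0,1,0,1,0,1,0,1,0,2,0,2,0,1,0,1,0,1]),
  (0,3,0,[]),
  (2,0,0,[1,0,1,0,2,0,2,0,2,0,2,0,1,0,1,0,2,0,1,0,2,0,2,0,1,0,1,0,1,0,1,0,1,0,2,0,2,0,1,0,1,0,2,0,1,0,2,0,2,0,1,0,1,0,2,0,1,0,2,0,2,0,1,0,1,0,1,0,1,0,1,0,2,0,2,0,1,0,1,0,2,0,1,0,2,0,1,0,1,0,2,0,2,0,1,0,2,0,1]),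
  (0,2,0,[]),
  (0,1,0,[]),
  (2,0,0,[1,0,1,0,2,0,1,0,2,0,1,0,1,0,2,0,2,0,1,0,1,0,1,0,1,0,1,0,2,0,2,0,1,0,1,0,1,0,1,0,1,0,2,0,2,0,1,0,1,0,2,0,1,0,2,0,2,0,1,0,1,0,2,0,1,0,2,0,2,0,1,0,1,0,1]),
  (0,2,0,[]),
  (2,3,0,[1,0,1,0,2,0,2,0,2,0,2,0,1,0,1,0,2,0,1,0,2,0,2,0,1,0,1,0,2,0,2,0,1,0,2,0,2,0,1,0,2,0,1,0,2,0]),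
  (0,5,0,[]),
  (0,4,0,[]),
  (2,3,0,[1,0,1,0,2,0,2,0,2,0,2,0,1,0,1,0,2,0,1,0,2,0,2,0,1,0,1,0,1,0]),
  (0,5,0,[]),
  (2,2,0,[1,0,1,0,2,0,1,0,2,0,1,0,1,0,2,0,2,0,1,0,1,0,2,0,1,0,2,0,2,0,1,0,1,0,2,0,1,0,2,0,2,0,1,0,1,0,1,0,1,0,1,0,2,0,2,0,1,0,1,0,2,0,2,0,2,0,2,0,1,0,1,0,2,0,2,0,1,0,1,0,1,0,2]),
  (0,4,0,[]),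
  (0,3,0,[]),
  (2,2,0,[1,0,1,0,2,0,2,0,2,0,2,0,1,0,1,0,2,0,1,0,2,0,2,0,1,0,1,0,1,0,1,0,1,0,2,0,2,0,1,0,1,0,2,0,1,0,2,0,2,0,1,0,1,0,2,0,1,0,2,0,2,0,1,0,1,0,1,0,1,0,1,0,2,0,2,0,1,0,1,0,1]),
  (0,4,0,[]),
  (2,1,0,[1,0,1,0,2,0,2,0,2,0,2,0,1,0,1,0,2,0,1,0,2,0,2,0,1,0,1,0,1,0,1,0,1,0,2,0,2,0,1,0,1,0,2,0,1,0,2,0,2,0,1,0,1,0,2,0,1,0,2,0,2,0,1,0,1,0,1,0,1,0,1,0,2,0,2,0,1,0,1,0,2,0,1,0,2,0,1,0,1,0,2,0,2,0,1,0,2,0,1]),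
  (0,3,0,[]),
  (0,2,0,[]),
  (2,1,0,[1,0,1,0,2,0,1,0,2,0,1,0,1,0,2,0,2,0,1,0,1,0,1,0,1,0,1,0,2,0,2,0,1,0,1,0,1,0,1,0,1,0,2,0,2,0,1,0,1,0,2,0,1,0,2,0,2,0,1,0,1,0,2,0,1,0,2,0,2,0,1,0,1,0,1]),
  (0,3,0,[]),
  (0,0,0,[]),
  (2,2,3,[0,1,0,1,0,2,0,2,0,1,0,1,0,2,0,1,0,2,0,2,0,1,0,1,0,2,0,1,0,2,0,2,0,1,0,1,0,2,0,1,0,2,0,1,0,1,0,1,0,1]),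
  (0,5,0,[]),
  (0,4,0,[]),
  (2,1,3,[0,1,0,1,0,2,0,2,0,1,0,1,0,1,0,1,0,1,0,2,0,2,0,1,0,1,0,2,0,1,0,2,0,2,0,1,0,1,0,2,0,1,0,2,0,1,0,1,0,1,0,1]),
  (0,4,0,[]),
  (0,3,0,[]),
  (0,0,0,[]),
  (2,1,3,[0,1,0,1,0,2,0,2,0,1,0,1,0,1,0,1,0,1,0,2,0,2,0,1,0,1,0,1,0,1,0,1,0,2,0,2,0,1,0,1,0,2,0,1,0,2,0,2,0,1,0,1,0,2,0,1,0,2,0,2,0,1,0,1,0,1,0,1,0,1,0,2,0,2,0,1,0,1,0,2,0,1,0,2,0,1,0,1,0,2,0,2]),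
  (0,4,0,[]),
  (0,3,0,[]),
  (0,0,0,[]),
  (0,0,0,[])]

/-- sextets through the base trio: word, bit set, commutation moves -/
def twistFix : List (List ℕ × ℕ × List Move) := [
  ([0,1,0,1,0,1,0,2,0,2,0,2], 1885, [
  (2,1,3,[0,1,0,1,0,2,0,2,0,1,0,1,0,1,0,1,0,1,0,2,0,2,0,1,0,1,0,1,0,1,0,1,0,2,0,2,0,1,0,1,0,2,0,1,0,2,0,2,0,1,0,1,0,2,0,1,0,2,0,2,0,1,0,1,0,1,0,2,0,2,0,1,0,1,0,2,0,1,0,2,0,2,0,2]),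
  (0,4,0,[]),
  (0,3,0,[]),
  (2,2,3,[0,1,0,1,0,2,0,2,0,1,0,1,0,1,0,1,0,1,0,2,0,2,0,1,0,1,0,1,0,1,0,1,0,2,0,2,0,1,0,1,0,1]),
  (0,5,0,[]),
  (0,4,0,[]),
  (2,1,3,[0,1,0,1,0,2,0,2,0,1,0,1,0,1,0,1,0,1,0,2,0,2,0,1,0,1,0,2,0,1,0,2,0,2,0,1,0,1,0,1]),
  (0,4,0,[]),
  (0,3,0,[]),
  (0,0,0,[]),
  (2,1,3,[0,1,0,1,0,2,0,2,0,1,0,1,0,1,0,1,0,1,0,2,0,2,0,1,0,1,0,1,0,1,0,1,0,2,0,2,0,1,0,1,0,1]),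
  (0,4,0,[]),
  (0,3,0,[]),
  (2,0,3,[0,1,0,1,0,2,0,2,0,1,0,1,0,1,0,1,0,1,0,2,0,2,0,1,0,1,0,2,0,1,0,2,0,2,0,1,0,1,0,1]),
  (0,3,0,[]),
  (0,2,0,[]),
  (0,2,0,[]),
  (0,1,0,[]),
  (0,0,0,[])]),
  ([0,1,0,2,0,1,0,1,0,1,0,1,0,1,0,1,0,2,0,1,0,1,0,2], 1731, [
  (2,1,3,[0,1,0,1,0,2,0,2,0,1,0,1,0,2,0,1,0,2,0,2,0,1,0,1,0,1,0,1,0,1,0,2,0,2,0,1,0,1,0,1,0,2,0,2,0,1,0,2,0,1,0,1,0,1,0,1,0,2,0,2]),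
  (0,4,0,[]),
  (0,3,0,[]),
  (2,2,3,[0,1,0,1,0,2,0,2,0,1,0,1,0,1,0,1,0,1,0,2,0,2,0,1,0,1,0,1,0,1,0,1,0,2,0,2,0,1,0,1,0,2,0,1,0,2,0,2,0,1,0,1,0,2,0,1,0,2,0,2,0,1,0,1,0,1,0,1,0,1,0,2,0,1,0,1,0,1,0,1,0,1,0,2,0,1,0,1,0,2]),
  (0,5,0,[]),
  (0,4,0,[]),
  (2,3,0,[1,0,1,0,2,0,1,0,2,0,1,0,1,0,2,0,2,0,1,0,1,0,1,0,1,0,1,0,2,0,2,0,1,0,1,0,1,0,1,0,1,0,2,0,2,0,1,0,1,0,2,0,1,0,2,0,2,0,1,0,1,0,2,0,2,0,2,0,2,0,1,0,1,0,2,0,2,0,1,0,2]),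
  (0,5,0,[]),
  (0,4,0,[]),
  (2,3,0,[1,0,1,0,2,0,1,0,2,0,1,0,1,0,2,0,2,0,1,0,1,0,2,0,1,0,2,0,2,0,1,0,1,0,2,0,1,0,2,0,2,0,1,0,1,0,1,0,1,0,1,0,2,0,2,0,1,0,1,0,1,0,1,0,1,0,2,0,2,0,1,0,1,0,1]),
  (0,5,0,[]),
  (2,2,0,[1,0,1,0,2,0,1,0,2,0,1,0,1,0,2,0,2,0,1,0,1,0,1,0,1,0,1,0,2,0,2,0,1,0,1,0,1,0,1,0,1,0,2,0,2,0,1,0,1,0,2,0,1,0,2,0,2,0,1,0,1,0,2,0,2,0,2,0,2,0,1,0,1,0,2,0,2,0,1,0,2,0]),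
  (0,4,0,[]),
  (0,3,0,[]),
  (2,2,0,[1,0,1,0,2,0,1,0,2,0,1,0,1,0,2,0,2,0,1,0,1,0,2,0,1,0,2,0,2,0,1,0,1,0,1,0,1,0,1,0,2,0,2,0,1,0,1,0,2,0,1,0,2,0,2,0,1,0,1,0,1,0,1,0,1,0,2,0,2,0,1,0,1,0,1]),
  (0,4,0,[]),
  (2,1,0,[2,0,1,0,2,0,2,0,2,0,2,0,1,0,1,0,1]),
  (0,3,0,[]),
  (0,2,0,[]),
  (2,1,0,[1,0,1,0,2,0,2,0,2,0,2,0,1,0,1,0,1]),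
  (0,3,0,[]),
  (0,0,0,[]),
  (0,2,0,[]),
  (2,1,3,[0,1,0,1,0,2,0,2,0,1,0,1,0,1,0,1,0,1,0,2,0,2,0,1,0,1,0,2,0,1,0,2,0,2,0,1,0,1,0,1,0,1,0,1,0,2,0,2,0,1,0,1,0,1,0,1,0,1,0,2,0,2,0,1,0,1,0,2,0,1,0,2,0,2,0,1,0,1,0,2,0,1,0,2,0,2,0,2,0,2,0,1,0,1,0,1,0,1,0,2,0,2]),
  (0,4,0,[]),
  (0,3,0,[]),
  (0,0,0,[]),
  (0,0,0,[])]),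
  ([0,1,0,2,0,2,0,2,0,2], 1320, [
  (2,1,3,[0,1,0,1,0,2,0,2,0,1,0,1,0,1,0,1,0,1,0,2,0,2,0,1,0,1,0,1,0,1,0,1,0,2,0,2,0,1,0,1,0,2,0,1,0,2,0,2,0,1,0,1,0,2,0,1,0,2,0,2,0,1,0,1,0,1,0,2,0,1]),
  (0,4,0,[]),
  (0,3,0,[]),
  (2,2,3,[0,1,0,1,0,2,0,2,0,1,0,1,0,1,0,1,0,1,0,2,0,2,0,1,0,1,0,1,0,1,0,1,0,2,0,2,0,1,0,1,0,2,0,1,0,2,0,2,0,1,0,1,0,2,0,1,0,2,0,2,0,1,0,1,0,1,0]),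
  (0,5,0,[]),
  (0,4,0,[]),
  (2,1,3,[0,1,0,1,0,2,0,2,0,1,0,1,0,1]),
  (0,4,0,[]),
  (0,3,0,[]),
  (0,0,0,[]),
  (2,1,3,[0,1,0,1,0,2,0,2,0,1,0,1,0,1,0,1,0,1,0,2,0,2,0,1,0,1,0,1,0,1,0,1,0,2,0,2,0,1,0,1,0,2,0,1,0,2,0,2,0,1,0,1,0,2,0,1,0,2,0,2,0,1,0,1,0,1,0]),
  (0,4,0,[]),
  (0,3,0,[]),
  (2,0,3,[0,1,0,1,0,2,0,2,0,1,0,1,0,1]),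
  (0,3,0,[]),
  (0,2,0,[]),
  (0,2,0,[]),
  (0,1,0,[]),
  (0,0,0,[])])]

/-- the other generators: word, bit set, carrying word, resulting word -/
def twistMove : List (List ℕ × ℕ × List ℕ × List ℕ) := [
  ([0,1,0,1,0,1,0,1,0,1,0,1,0,2,0,2], 680, [2,0,1,0,2], [2,0,2,0,1,0,1,0,1,0,1,0,1,0,1,0,2,0,2,0,2,0,2,0,2,0,2,0,1,0,1,0,1,0,1,0,1,0,1,0,2,0,2,0,2,0,2,0,2,0,2,0,1,0,1,0]),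
  ([0,1,0,2,0,1,0,1,0,1,0,1,0,1,0], 1386, [0,1,0,1,0,2,0,2,0,1,0,1,0,2,0,2,0,2,0,1,0,2], [0,1,0,2,0,1,0,1,0,1,0,2,0,2,0,1,0,1,0,2,0,1,0,2,0,2,0,1,0,1,0,1,0,2,0,1,0,2,0]),
  ([0,1,0,2,0,2,0,1,0,2,0,1,0,2], 862, [1,0,1,0,2,0,2,0,1,0,2,0,1,0,2,0,1,0,1,0,2,0,1,0,1,0,2,0], [2,0,1,0,1,0,1,0,2,0,2,0,1,0,2,0,1,0,1,0,2,0,1,0,2,0,1,0,2,0,1,0,1,0,1,0,2,0,1,0,1,0,2,0,1,0,1,0]),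
  ([0,1,0,2,0,2,0,1,0,1,0,1,0,2], 325, [1,0,1,0,1,0,2,0,1,0,2,0,2,0,1,0,1,0,2,0,1,0,2,0,1,0,1,0,2,0,1,0,1,0,2], [1,0,1,0,1,0,2,0,1,0,1,0,1,0,2,0,2,0,1,0,2,0,1,0,2,0,2,0,2,0,2,0,1,0,1,0,1,0,2,0,2,0,2,0,2,0,1,0,1,0]),
  ([0,1,0,1,0,1,0,1,0,2,0,1,0,1,0,1,0,2,0,1,0,2], 320, [1,0,1,0,2,0,2,0,1,0,1,0,1,0,2,0,2,0,2,0,1,0,1,0,2,0,1,0,1,0,2], [2,0,1,0,2,0,2,0,2,0,1,0,2,0,2,0,1,0,2,0,1,0,1,0,1,0,1,0,1,0,2,0,1,0,2,0,1,0,2,0,2,0,1,0,2,0,1,0,1,0,2,0,1,0,2]),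
  ([0,1,0,2,0,1,0,1,0,2,0,1,0,1], 1146, [0,2,0,2,0,2,0,1,0,1,0,1,0,1,0,1,0,1,0,1,0,1,0,1,0,2,0,2,0,2,0,1,0,2,0,1,0,2,0,1,0,2,0,1,0,1,0,2,0,1,0,1,0,2], [2,0,2,0,1,0,1,0,1,0,1,0,2,0,2,0,2,0,1,0,1,0,1,0,1,0,2,0,1,0,2,0,1,0,1,0,2,0,2,0,2,0,1,0,2,0,2,0,2,0])]

/-- expansion moves of the nine generators -/
def twistExp : List (List Move) := [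
[
  (1,1,0,[0,1,0,2,0,1]),
  (1,2,0,[0,1,0,2,0]),
  (1,3,0,[0,1,0,1,0]),
  (1,4,0,[0,1,0,1]),
  (1,5,0,[0,1,0]),
  (1,6,0,[0,2]),
  (1,7,0,[0,1]),
  (1,8,0,[]),
  (2,1,3,[0,2,0,2,0,2,0,2,0,2,0,1,0,1,0,1,0,2,0,2,0,2,0,2,0,2,0,2,0,1,0,1,0,1,0,2,0,1,0,1,0,1,0,1,0,1,0,2,0,1,0,2,0,1,0,1,0,1,0,2,0,1,0,2,0,1,0,1,0,1,0,2,0,1,0,1,0,2,0,1,0,2,0,2,0,2,0,1,0,1,0,1,0,2,0,1,0,1,0,1,0,1,0,1,0,2,0,1,0,2,0,1,0,1,0,1,0,2,0,1,0,2,0,1,0,1,0,1,0,2,0,1,0,2,0,1,0,1,0,1,0,2,0,1,0,2,0,1,0,1,0,1,0,2,0,1,0,2,0,1,0,1,0,1,0,2,0,1,0,2,0,1,0,1,0,1,0,2,0,1,0,1,0,2,0,1,0,2,0,2,0,2,0,1,0,1,0,1,0,2,0,1,0,1,0,1,0,1,0,1,0,2,0,1,0,2,0,1,0,1,0,1,0,2,0,1,0,1,0,2,0,1,0]),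
  (0,4,0,[]),
  (0,3,0,[]),
  (2,2,2,[0,1,0,1,0,1,0,1,0,1,0,1,0,1,0,2,0,1,0,2,0,1,0,1,0,1,0,2,0,1,0,2,0,1,0,1,0,1,0,2,0,1,0,1,0,2,0,1,0,2,0,2,0,2,0,1,0,1,0,1,0,2,0,1,0,1,0,1,0,1,0,1,0,2,0,1,0,1,0,2,0,1,0,2,0,2,0,2,0,1,0,1,0,1,0,2,0,1,0,1,0,1,0,1,0,1,0,2,0,1,0,2,0,1,0,1,0,1,0,2,0,1,0,2,0,1,0,1,0,1,0,2,0,1,0,1,0,2]),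
  (0,5,0,[]),
  (0,4,0,[]),
  (2,1,3,[0,2,0,2,0,2,0,2,0,2,0,1,0,1,0,1,0,2,0,2,0,1,0,1,0,1,0,1,0,1,0,1,0,2,0,1,0,2,0,1,0,1,0,1,0,2,0,1,0,1,0,2,0,1,0,2,0,2,0,2,0,1,0,1,0,1,0,2,0,1,0,1,0,1,0,1,0,1,0,2,0,1,0,2,0,1,0,1,0,1,0,2,0,1,0,2,0,1,0,1,0,1,0,2,0,1,0,1,0,2,0,1,0,2,0,2,0,2,0,1,0,1,0,1,0,2,0,1,0,1,0,1,0,1,0,1,0,2,0,1,0,2,0,1,0,1,0,1,0,2,0,1,0,1,0,2,0,1,0,2,0,2,0,2,0,1,0,1,0,1,0,2,0,1,0,1,0,1,0,1,0,1,0,2,0,1,0,2,0,1,0,1,0,1,0,2,0,1,0,1,0,2,0,1,0,2,0,2,0,2,0,1,0,1,0,1,0,2,0,1,0,1,0,1,0,1,0,1,0,2,0,1,0,2,0,1,0,1,0,1,0,2,0,1,0,1,0,2]),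
  (0,4,0,[]),
  (0,3,0,[]),
  (2,4,3,[0,2,0,2,0,2,0,2,0,2,0,1,0,1,0,1,0,2,0,2,0,1,0,1,0,1,0,1,0,1,0,1,0,2,0,1,0,2,0,1,0,1,0,1,0,2,0,1,0,1,0,2,0,1,0,2,0,2,0,2,0,1,0,1,0,1,0,2,0,1,0,1,0,1,0,1,0,1,0,2,0,1,0,2,0,1,0,1,0,1,0,2,0,1,0,2,0,1,0,1,0,1,0,2,0,1,0,1,0,2,0,1,0,2,0,2,0,2,0,1,0,1,0,1,0,2,0,1,0,1,0,1,0,1,0,1,0,2,0,1,0,2,0,1,0,1,0,1,0,2,0,1,0,1,0,2,0,1,0,2,0,2,0,2,0,1,0,1,0,1,0,2,0,1,0,1,0,1,0,1,0,1,0,2,0,1,0,2,0,1,0,1,0,1,0,2,0,1,0,1,0,2,0,1,0,2,0,2,0,2,0,1,0,1,0,1,0,2,0,1,0,1,0,1,0,1,0,1,0,2,0,1,0,2,0,1,0,1,0,1,0,2,0,1,0,1,0,2,0,2]),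
  (0,7,0,[]),
  (0,6,0,[]),
  (2,5,3,[0,2,0,2,0,2,0,2,0,2,0,1,0,1,0,1,0,2,0,2,0,1,0,1,0,1,0,1,0,1,0,1,0,2,0,1,0,1,0,2,0,1,0,2,0,2,0,2,0,1,0,1,0,1,0,2,0,1,0,1,0,1,0,1,0,1,0,2,0,1,0,1,0,2,0,1,0,2,0,2,0,2,0,1,0,1,0,1,0,2,0,1,0,1,0,1,0,1,0,1,0,2,0,1,0,2,0,1,0,1,0,1,0,2,0,1,0,2,0,1,0,1,0,1,0,2,0,1,0,2,0,1,0,1,0,1,0,2,0,1,0,2,0,1,0,1,0,1,0,2,0,1,0,1,0,2,0,1,0,2,0,2,0,2,0,1,0,1,0,1,0,2,0,1,0,1,0,1,0,1,0,1,0,2,0,1,0,2,0,1,0,1,0,1,0,2,0,1,0,2,0,1,0,1,0,1,0,2,0,1,0,1,0,2,0,2,0,1]),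
  (0,8,0,[]),
  (0,7,0,[]),
  (2,4,2,[0,1,0,1,0,1,0,1,0,1,0,1,0,1,0,2,0,1,0,1,0,2,0,1,0,2,0,2,0,2,0,1,0,1,0,1,0,2,0,1,0,1,0,1,0,1,0,1,0,2,0,1,0,2,0,1,0,1,0,1,0,2,0,1,0,1,0,2,0,1,0,2,0,2,0,2,0,1,0,1,0,1,0,2,0,1,0,1,0,1,0,1,0,1,0,2,0,1,0,2,0,1,0,1,0,1,0,2,0,1,0,1,0,2,0,1,0,2,0,2,0,2,0,1,0,1,0,1,0,2,0,1,0,1,0,1,0,1,0,1,0,2,0,1,0,1,0,2,0,2,0,1]),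
  (0,7,0,[]),
  (0,6,0,[]),
  (2,7,3,[0,2,0,2,0,2,0,2,0,2,0,1,0,1,0,1,0,2,0,2,0,1,0,1,0,1,0,1,0,1,0,1,0,2,0,1,0,2,0,1,0,1,0,1,0,2,0,1,0,2,0,1,0,1,0,1,0,2,0,1,0,1,0,2,0,1,0,2,0,2,0,2,0,1,0,1,0,1,0,2,0,1,0,1,0,1,0,1,0,1,0,2,0,1,0,1,0,2,0,1,0,2,0,2,0,2,0,1,0,1,0,1,0,2,0,1,0,1,0,1,0,1,0,1,0,2,0,1,0,2,0,1,0,1,0,1,0,2,0,1,0,2,0,1,0,1,0,1,0,2,0,1,0,2,0,1,0,1,0,1,0,2,0,1,0,2,0,1,0,1,0,1,0,2,0,1,0,2,0,1,0,1,0,1,0,2,0,1,0,1,0,2,0,2,0,2,0]),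
  (0,10,0,[]),
  (0,9,0,[]),
  (2,6,3,[0,2,0,2,0,2,0,2,0,2,0,1,0,1,0,1,0,2,0,2,0,2,0,2,0,2,0,2,0,1,0,1,0,1,0,2,0,1,0,1,0,1,0,1,0,1,0,2,0,1,0,2,0,1,0,1,0,1,0,2,0,1,0,2,0,1,0,1,0,1,0,2,0,1,0,2,0,1,0,1,0,1,0,2,0,1,0,2,0,1,0,1,0,1,0,2,0,1,0,2,0,1,0,1,0,1,0,2,0,1,0,2,0,1,0,1,0,1,0,2,0,1,0,2,0,1,0,1,0,1,0,2,0,1,0,2,0,1,0,1,0,1,0,2,0,1,0,1,0,2,0,1,0,2,0,2,0,2,0,1,0,1,0,1,0,2,0,1,0,1,0,1,0,1,0,1,0,2,0,1,0,1,0,2,0,1,0,2,0,2,0,2,0,1,0,1,0,1,0,1,0,2,0]),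
  (0,9,0,[]),
  (0,8,0,[]),
  (2,5,3,[0,2,0,2,0,2,0,2,0,2,0,1,0,1,0,1,0,2,0,2,0,1,0,1,0,1,0,1,0,1,0,1,0,2,0,1,0,1,0,2,0,1,0,2,0,2,0,2,0,1,0,1,0,1,0,2,0,1,0,1,0,1,0,1,0,1,0,2,0,1,0,2,0,1,0,1,0,1,0,2,0,1,0,2,0,1,0,1,0,1,0,2,0,1,0,2,0,1,0,1,0,1,0,2,0,1,0,2,0,1,0,1,0,1,0,2,0,1,0,2,0,1,0,1,0,1,0,2,0,1,0,1,0,2,0,1,0,2,0,2,0,2,0,1,0,1,0,1,0,2,0,1,0,1,0,1,0,1,0,1,0,2,0,1,0,2,0,1,0,1,0,1,0,2,0,1,0,2,0,1,0,1,0,1,0,2,0,1,0,1,0,2,0,1,0,2,0,2,0,2,0,1,0,1,0,1,0,1,0,2,0]),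
  (0,8,0,[]),
  (0,7,0,[]),
  (2,4,3,[0,2,0,2,0,2,0,2,0,2,0,1,0,1,0,1,0,2,0,2,0,2,0,2,0,2,0,2,0,1,0,1,0,1,0,2,0,1,0,1,0,1,0,1,0,1,0,2,0,1,0,1,0,2,0,1,0,2,0,2,0,2,0,1,0,1,0,1,0,2,0,1,0,1,0,1,0,1,0,1,0,2,0,1,0,1,0,2,0,1,0,2,0,2,0,2,0,1,0,1,0,1,0,2,0,1,0,1,0,1,0,1,0,1,0,2,0,1,0,2,0,1,0,1,0,1,0,2,0,1,0,1,0,2,0,1,0,2,0,2,0,2,0,1,0,1,0,1,0,2,0,1,0,1,0,1,0,1,0,1,0,2,0,1,0,2,0,1,0,1,0,1,0,2,0,1,0,2,0,1,0,1,0,1,0,2,0,1,0,1,0,2,0,1,0,2,0,2,0,2,0,1,0,1,0,1,0,2,0,1,0,1,0,1,0,1,0,1,0,2,0,1,0,2,0,1,0,1,0,1,0,2,0,1,0,2,0,1,0,1,0,1,0,2,0,1,0,1,0,2,0,2,0,2,0]),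
  (0,7,0,[]),
  (0,6,0,[]),
  (2,9,4,[2,0,1,0,1,0,2,0,1,0,1,0,1,0,1,0,2,0,2,0,1,0,1,0,1,0,2,0,1,0,1,0,1,0,1,0,1,0,2,0,1,0,2,0,1,0,1,0,1,0,2,0,1,0,2,0,1,0,1,0,1,0,2,0,1,0,2,0,1,0,1,0,1,0,2,0,1,0,2,0,1,0,1,0,1,0,2,0,1,0,1,0,2,0,1,0]),
  (2,8,3,[0,2,0,2,0,2,0,2,0,2,0,1,0,1,0,1,0,2,0,2,0,1,0,1,0,1,0,1,0,1,0,1,0,2,0,1,0,2,0,1,0,1,0,1,0,2,0,1,0,1,0,2,0,1,0,2,0,2,0,2,0,1,0,1,0,1,0,2,0,1,0,1,0,1,0,1,0,1,0,2,0,1,0,2,0,1,0,1,0,1,0,2,0,1,0,2,0,1,0,1,0,1,0,2,0,1,0,1,0,2,0,1,0,2,0,2,0,2,0,1,0,1,0,1,0,2,0,1,0,1,0,1,0,1,0,1,0,2,0,1,0,2,0,1,0,1,0,1,0,2,0,1,0,1,0,2,0,1,0,2,0,2,0,2,0,1,0,1,0,1,0,2,0,1,0,1,0,1,0,1,0,1,0,2,0,1,0,2,0,1,0,1,0,1,0,2,0,1,0,1,0,2,0,1,0,2,0,2,0,2,0,1,0,1,0,1,0,2,0,1,0,1,0,1,0,1,0,1,0,2,0,1,0,2,0,1,0,1,0,1,0,2,0,1,0,1,0,2,0,1,0]),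
  (0,11,0,[]),
  (0,10,0,[]),
  (2,7,3,[0,2,0,2,0,2,0,2,0,2,0,1,0,1,0,1,0,2,0,2,0,1,0,1,0,1,0,1,0,1,0,1,0,2,0,1,0,1,0,2,0,1,0,2,0,2,0,2,0,1,0,1,0,1,0,2,0,1,0,1,0,1,0,1,0,1,0,2,0,1,0,2,0,1,0,1,0,1,0,2,0,1,0,1,0,2,0,1,0,2,0,2,0,2,0,1,0,1,0,1,0,2,0,1,0,1,0,1,0,1,0,1,0,2,0,1,0,2,0,1,0,1,0,1,0,2,0,1,0,1,0,2,0,1,0,2,0,2,0,2,0,1,0,1,0,1,0,2,0,1,0,1,0,1,0,1,0,1,0,2,0,1,0,2,0,1,0,1,0,1,0,2,0,1,0,1,0,2,0,1,0,2,0,2,0,2,0,1,0,1,0,1,0,2,0,1,0,1,0,1,0,1,0,1,0,2,0,1,0,2,0,1,0,1,0,1,0,2,0,1,0,2,0,1,0,1,0,1,0,2,0,1,0,1,0,2,0,1,0,2,0,2,0,2,0,1,0,1,0,1]),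
  (0,10,0,[]),
  (0,9,0,[]),
  (2,6,2,[0,1,0,1,0,1,0,1,0,1,0,1,0,1,0,2,0,1,0,2,0,1,0,1,0,1,0,2,0,1,0,2,0,1,0,1,0,1,0,2,0,1,0,1,0,2,0,1,0,2,0,2,0,2,0,1,0,1,0,1,0,2,0,1,0,1,0,1,0,1,0,1,0,2,0,1,0,1,0,2,0,1,0]),
  (0,9,0,[]),
  (0,8,0,[]),
  (2,5,2,[0,1,0,2,0,2,0,2,0,2,0,1,0,1,0,1,0,2,0,1,0,1,0,1,0,1,0,1,0,2,0,1,0,1,0,2,0,1,0,2,0,2,0,2,0,1,0,1,0,1,0,2,0,1,0,1,0,1,0,1,0,1,0,2,0,1,0,2,0,1,0,1,0,1,0,2,0,1,0,2,0,1,0,1,0,1,0,2,0,1,0,2,0,1,0,1,0,1,0,2,0,1,0,1,0,2,0,1,0]),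
  (0,8,0,[]),
  (0,7,0,[]),
  (2,4,3,[0,2,0,2,0,2,0,2,0,2,0,1,0,1,0,1,0,2,0,2,0,1,0,1,0,1,0,1,0,1,0,1,0,2,0,1,0,1,0,2,0,1,0,2,0,2,0,2,0,1,0,1,0,1,0,2,0,1,0,1,0,1,0,1,0,1,0,2,0,1,0,1,0,2,0,1,0,2,0,2,0,2,0,1,0,1,0,1,0,2,0,1,0,1,0,1,0,1,0,1,0,2,0,1,0,2,0,1,0,1,0,1,0,2,0,1,0,2,0,1,0,1,0,1,0,2,0,1,0,2,0,1,0,1,0,1,0,2,0,1,0,2,0,1,0,1,0,1,0,2,0,1,0,1,0,2,0,1,0,2,0,2,0,2,0,1,0,1,0,1,0,2,0,1,0,1,0,1,0,1,0,1,0,2,0,1,0,2,0,1,0,1,0,1,0,2,0,1,0,2,0,1,0,1,0,1,0,2,0,1,0,1,0,2,0,1,0]),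
  (0,7,0,[]),
  (0,6,0,[]),
  (2,3,3,[0,2,0,2,0,2,0,2,0,2,0,1,0,1,0,1,0,2,0,2,0,2,0,2,0,2,0,2,0,1,0,1,0,1,0,2,0,1,0,1,0,1,0,1,0,1,0,2,0,1,0,2,0,1,0,1,0,1,0,2,0,1,0,2,0,1,0,1,0,1,0,2,0,1,0,1,0,2,0,1,0,2,0,2,0,2,0,1,0,1,0,1,0,2,0,1,0,1,0,1,0,1,0,1,0,2,0,1,0,2,0,1,0,1,0,1,0,2,0,1,0,2,0,1,0,1,0,1,0,2,0,1,0,2,0,1,0,1,0,1,0,2,0,1,0,2,0,1,0,1,0,1,0,2,0,1,0,2,0,1,0,1,0,1,0,2,0,1,0,2,0,1,0,1,0,1,0,2,0,1,0,1,0,2,0,1,0,2,0,2,0,2,0,1,0,1,0,1,0,2,0,1,0,1,0,1,0,1,0,1,0,2,0,1,0,2,0,1,0,1,0,1,0,2,0,1,0,1,0,2,0,1,0]),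
  (0,6,0,[]),
  (0,5,0,[]),
  (0,2,0,[]),
  (2,7,3,[0,2,0,2,0,2,0,2,0,2,0,1,0,1,0,1,0,2,0,2,0,1,0,1,0,1,0,1,0,1,0,1,0,2,0,1,0,1,0,2,0,1,0,2,0,2,0,2,0,1,0,1,0,1,0,2,0,1,0,1,0,1,0,1,0,1,0,2,0,1,0,2,0,1,0,1,0,1,0,2,0,1,0,1,0,2,0,1,0,2,0,2,0,2,0,1,0,1,0,1,0,2,0,1,0,1,0,1,0,1,0,1,0,2,0,1,0,1,0,2,0,1,0,2,0,2,0,2,0,1,0,1,0,1,0,2,0,1,0,1,0,1,0,1,0,1,0,2,0,1,0,1,0,2,0,1,0,2,0,2,0,2,0,1,0,1,0,1,0,2,0,1,0,1,0,1,0,1,0,1,0,2,0,1,0,2,0,1,0,1,0,1,0,2,0,1,0,2,0,1,0,1,0,1,0,2,0,1,0,2,0,1,0,1,0,1,0,2,0,1,0,1,0,2,0,1,0,1]),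
  (0,10,0,[]),
  (0,9,0,[]),
  (2,6,2,[0,1,0,1,0,1,0,1,0,1,0,1,0,1,0,2,0,1,0,2,0,1,0,1,0,1,0,2,0,1,0,2,0,1,0,1,0,1,0,2,0,1,0,1,0,2,0,1,0,2,0,2,0,2,0,1,0,1,0,1,0,2,0,1,0,1,0,1,0,1,0,1,0,2,0,1,0,1,0,2,0,1,0,1]),
  (0,9,0,[]),
  (0,8,0,[]),
  (2,5,3,[0,2,0,2,0,2,0,2,0,2,0,1,0,1,0,1,0,2,0,2,0,1,0,1,0,1,0,1,0,1,0,1,0,2,0,1,0,2,0,1,0,1,0,1,0,2,0,1,0,2,0,1,0,1,0,1,0,2,0,1,0,1,0,2,0,1,0,2,0,2,0,2,0,1,0,1,0,1,0,2,0,1,0,1,0,1,0,1,0,1,0,2,0,1,0,2,0,1,0,1,0,1,0,2,0,1,0,2,0,1,0,1,0,1,0,2,0,1,0,2,0,1,0,1,0,1,0,2,0,1,0,1,0,2,0,1,0,2,0,2,0,2,0,1,0,1,0,1,0,2,0,1,0,1,0,1,0,1,0,1,0,2,0,1,0,2,0,1,0,1,0,1,0,2,0,1,0,1,0,2,0,1,0,1]),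
  (0,8,0,[]),
  (0,7,0,[]),
  (2,4,3,[0,2,0,2,0,2,0,2,0,2,0,1,0,1,0,1,0,2,0,2,0,1,0,1,0,1,0,1,0,1,0,1,0,2,0,1,0,2,0,1,0,1,0,1,0,2,0,1,0,1,0,2,0,1,0,2,0,2,0,2,0,1,0,1,0,1,0,2,0,1,0,1,0,1,0,1,0,1,0,2,0,1,0,2,0,1,0,1,0,1,0,2,0,1,0,2,0,1,0,1,0,1,0,2,0,1,0,1,0,2,0,1,0,2,0,2,0,2,0,1,0,1,0,1,0,2,0,1,0,1,0,1,0,1,0,1,0,2,0,1,0,2,0,1,0,1,0,1,0,2,0,1,0,1,0,2,0,1,0,2,0,2,0,2,0,1,0,1,0,1,0,2,0,1,0,1,0,1,0,1,0,1,0,2,0,1,0,2,0,1,0,1,0,1,0,2,0,1,0,1,0,2,0,1,0,2,0,2,0,2,0,1,0,1,0,1,0,2,0,1,0,1,0,1,0,1,0,1,0,2,0,1,0,2,0,1,0,1,0,1,0,2,0,1,0,1,0,2,0,1,0,1]),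
  (0,7,0,[]),
  (0,6,0,[]),
  (2,3,3,[0,2,0,2,0,2,0,2,0,2,0,1,0,1,0,1,0,2,0,2,0,1,0,1,0,1,0,1,0,1,0,1,0,2,0,1,0,1,0,2,0,1,0,2,0,2,0,2,0,1,0,1,0,1,0,2,0,1,0,1,0,1,0,1,0,1,0,2,0,1,0,1,0,2,0,1,0,2,0,2,0,2,0,1,0,1,0,1,0,2,0,1,0,1,0,1,0,1,0,1,0,2,0,1,0,2,0,1,0,1,0,1,0,2,0,1,0,2,0,1,0,1,0,1,0,2,0,1,0,2,0,1,0,1,0,1,0,2,0,1,0,2,0,1,0,1,0,1,0,2,0,1,0,1,0,2,0,1,0,2,0,2,0,2,0,1,0,1,0,1,0,2,0,1,0,1,0,1,0,1,0,1,0,2,0,1,0,2,0,1,0,1,0,1,0,2,0,1,0,2,0,1,0,1,0,1,0,2,0,1,0,1,0,2,0,1,0,1]),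
  (0,6,0,[]),
  (0,5,0,[]),
  (0,2,0,[]),
  (2,6,3,[0,2,0,2,0,2,0,2,0,2,0,1,0,1,0,1,0,2,0,2,0,1,0,1,0,1,0,1,0,1,0,1,0,2,0,1,0,1,0,2,0,1,0,2,0,2,0,2,0,1,0,1,0,1,0,2,0,1,0,1,0,1,0,1,0,1,0,2,0,1,0,2,0,1,0,1,0,1,0,2,0,1,0,1,0,2,0,1,0,2,0,2,0,2,0,1,0,1,0,1,0,2,0,1,0,1,0,1,0,1,0,1,0,2,0,1,0,2,0,1,0,1,0,1,0,2,0,1,0,1,0,2,0,1,0,2,0,2,0,2,0,1,0,1,0,1,0,2,0,1,0,1,0,1,0,1,0,1,0,2,0,1,0,2,0,1,0,1,0,1,0,2,0,1,0,1,0,2,0,1,0,2,0,2,0,2,0,1,0,1,0,1,0,2,0,1,0,1,0,1,0,1,0,1,0,2,0,1,0,2,0,1,0,1,0,1,0,2,0,1,0,2,0,1,0,1,0,1,0,2,0,1,0,1,0,2,0,2,0,1,0,1,0,1,0,2,0,1,0,1,0,2,0,2,0]),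
  (0,9,0,[]),
  (0,8,0,[]),
  (2,5,3,[0,2,0,2,0,2,0,2,0,2,0,1,0,1,0,1,0,2,0,2,0,2,0,2,0,2,0,2,0,1,0,1,0,1,0,2,0,1,0,1,0,1,0,1,0,1,0,2,0,1,0,1,0,2,0,1,0,2,0,2,0,2,0,1,0,1,0,1,0,2,0,1,0,1,0,1,0,1,0,1,0,2,0,1,0,2,0,1,0,1,0,1,0,2,0,1,0,2,0,1,0,1,0,1,0,2,0,1,0,2,0,1,0,1,0,1,0,2,0,1,0,1,0,2,0,2,0,1,0,1,0,1,0,2,0,1,0,1,0,2,0,2,0]),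
  (0,8,0,[]),
  (0,7,0,[]),
  (2,4,3,[0,2,0,2,0,2,0,2,0,2,0,1,0,1,0,1,0,2,0,2,0,2,0,2,0,2,0,2,0,1,0,1,0,1,0,2,0,1,0,1,0,1,0,1,0,1,0,2,0,1,0,2,0,1,0,1,0,1,0,2,0,1,0,2,0,1,0,1,0,1,0,2,0,1,0,2,0,1,0,1,0,1,0,2,0,1,0,2,0,1,0,1,0,1,0,2,0,1,0,2,0,1,0,1,0,1,0,2,0,1,0,2,0,1,0,1,0,1,0,2,0,1,0,2,0,1,0,1,0,1,0,2,0,1,0,2,0,1,0,1,0,1,0,2,0,1,0,2,0,1,0,1,0,1,0,2,0,1,0,2,0,1,0,1,0,1,0,2,0,1,0,2,0,1,0,1,0,1,0,2,0,1,0,1,0,2,0,1,0,2,0,2,0,2,0,1,0,1,0,1,0,1,0,1,0,1,0,1,0,2,0,1,0,1,0,2,0,2,0]),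
  (0,7,0,[]),
  (0,6,0,[]),
  (2,8,4,[2,0,1,0,1,0,2,0,1,0,1,0,1,0,2,0,2,0,1,0,1,0,1,0,1,0,1,0,2,0,1,0,1,0,2,0,1,0,2,0,2,0,2,0,1,0,1,0,1,0,2,0,1,0,1,0,1,0,1,0,1,0,2,0,1,0,2,0,1,0,1,0,1,0,2,0,1,0,1,0,2,0,1,0,2,0,2,0,2,0,1,0,1,0,1,0,2,0,1,0,1,0,1,0,1,0,1,0,2,0,1,0,2,0,1,0,1,0,1,0,2,0,1,0,2,0,1,0,1,0,1,0,2,0,1,0,1,0,2,0,1,0,2,0,2,0,2,0,1,0,1,0,1,0,2,0,1,0,1,0,1,0,1,0,1,0,2,0,1,0,1,0,2,0,1,0,2,0,2,0,2,0,1,0,1,0,1,0,2,0,1,0,2,0,2,0,2]),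
  (2,7,3,[0,2,0,2,0,2,0,2,0,2,0,1,0,1,0,1,0,2,0,2,0,1,0,1,0,1,0,1,0,1,0,1,0,2,0,1,0,2,0,1,0,1,0,1,0,2,0,1,0,2,0,1,0,1,0,1,0,2,0,1,0,2,0,1,0,1,0,1,0,2,0,1,0,2,0,1,0,1,0,1,0,2,0,1,0,2,0,1,0,1,0,1,0,2,0,1,0,2,0,1,0,1,0,1,0,2,0,1,0,2,0,1,0,1,0,1,0,2,0,1,0,2,0,1,0,1,0,1,0,2,0,1,0,2,0,1,0,1,0,1,0,2,0,1,0,1,0,2,0,1,0,2,0,2,0,2,0,1,0,1,0,1,0,2,0,1,0,1,0,1,0,1,0,1,0,2,0,1,0,1,0,2,0,1,0,2,0,2,0,2,0,1,0,1,0,1,0,2,0,1,0,1,0,1,0,1,0,1,0,1]),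
  (0,10,0,[]),
  (0,9,0,[]),
  (2,6,3,[0,2,0,2,0,2,0,2,0,2,0,1,0,1,0,1,0,2,0,2,0,2,0,2,0,2,0,2,0,1,0,1,0,1,0,2,0,1,0,1,0,1,0,1,0,1,0,2,0,1,0,1,0,2,0,1,0,2,0,2,0,2,0,1,0,1,0,1,0,2,0,1,0,1,0,1,0,1,0,1,0,2,0,1,0,2,0,1,0,1,0,1,0,2,0,1,0,2,0,1,0,1,0,1,0,2,0,1,0,2,0,1,0,1,0,1,0,2,0,1,0,2,0,1,0,1,0,1,0,2,0,1,0,1,0,2,0,1,0,2,0,2,0,2,0,1,0,1,0,1,0,2,0,1,0,1,0,1,0,1,0,1,0,2,0,1,0,1,0,2,0,1,0,2,0,2,0,2,0,1,0,1,0,1,0,2,0,1,0,1,0,1,0,1,0,1,0,2,0,1,0,2,0,1,0,1,0,1,0,1]),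
  (0,9,0,[]),
  (0,8,0,[]),
  (2,5,3,[0,2,0,2,0,2,0,2,0,2,0,1,0,1,0,1,0,2,0,2,0,1,0,1,0,1,0,1,0,1,0,1,0,2,0,1,0,2,0,1,0,1,0,1,0,2,0,1,0,1,0,2,0,1,0,2,0,2,0,2,0,1,0,1,0,1,0,2,0,1,0,1,0,1,0,1,0,1,0,2,0,1,0,2,0,1,0,1,0,1,0,2,0,1,0,1,0,2,0,1,0,2,0,2,0,2,0,1,0,1,0,1,0,2,0,1,0,1,0,1,0,1,0,1,0,2,0,1,0,1,0,2,0,1,0,2,0,2,0,2,0,1,0,1,0,1,0,2,0,1,0,1,0,1,0,1,0,1,0,2,0,1,0,1,0,2,0,1,0,2,0,2,0,2,0,1,0,1,0,1,0,2,0,1,0,1,0,1,0,1,0,1,0,2,0,1,0,2,0,1,0,1,0,1,0,1]),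
  (0,8,0,[]),
  (0,7,0,[]),
  (2,4,3,[0,2,0,2,0,2,0,2,0,2,0,1,0,1,0,1,0,2,0,2,0,2,0,2,0,2,0,2,0,1,0,1,0,1,0,2,0,1,0,1,0,1,0,1,0,1,0,2,0,1,0,2,0,1,0,1,0,1,0,2,0,1,0,2,0,1,0,1,0,1,0,2,0,1,0,1,0,2,0,1,0,2,0,2,0,2,0,1,0,1,0,1,0,2,0,1,0,1,0,1,0,1,0,1,0,2,0,1,0,1,0,2,0,1,0,2,0,2,0,2,0,1,0,1,0,1,0,2,0,1,0,1,0,1,0,1,0,1,0,2,0,1,0,1,0,2,0,1,0,2,0,2,0,2,0,1,0,1,0,1,0,2,0,1,0,1,0,1,0,1,0,1,0,2,0,1,0,2,0,1,0,1,0,1,0,2,0,1,0,1,0,2,0,1,0,2,0,2,0,2,0,1,0,1,0,1,0,2,0,1,0,1,0,1,0,1,0,1,0,2,0,1,0,2,0,1,0,1,0,1,0,2,0,1,0,1,0,2,0,1,0,2,0,2,0,2,0,1,0,1,0,1,0,2,0,1,0,2,0,2,0,2]),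
  (0,7,0,[]),
  (0,6,0,[]),
  (2,3,3,[0,2,0,2,0,2,0,2,0,2,0,1,0,1,0,1,0,2,0,2,0,1,0,1,0,1,0,1,0,1,0,1,0,2,0,1,0,2,0,1,0,1,0,1,0,2,0,1,0,2,0,1,0,1,0,1,0,2,0,1,0,2,0,1,0,1,0,1,0,2,0,1,0,1,0,2,0,1,0,2,0,2,0,2,0,1,0,1,0,1,0,2,0,1,0,1,0,1,0,1,0,1,0,2,0,1,0,2,0,1,0,1,0,1,0,2,0,1,0,2,0,1,0,1,0,1,0,1]),
  (0,6,0,[]),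
  (0,5,0,[]),
  (2,2,3,[0,2,0,2,0,2,0,2,0,2,0,1,0,1,0,1,0,2,0,2,0,1,0,1,0,1,0,1,0,1,0,1,0,2,0,1,0,1,0,2,0,1,0,2,0,2,0,2,0,1,0,1,0,1,0,2,0,1,0,1,0,1,0,1,0,1,0,2,0,1,0,2,0,1,0,1,0,1,0,2,0,1,0,1,0,2,0,1,0,2,0,2,0,2,0,1,0,1,0,1,0,2,0,1,0,1,0,1,0,1,0,1,0,2,0,1,0,2,0,1,0,1,0,1,0,2,0,1,0,2,0,1,0,1,0,1,0,2,0,1,0,2,0,1,0,1,0,1,0,2,0,1,0,2,0,1,0,1,0,1,0,2,0,1,0,2,0,1,0,1,0,1,0,2,0,1,0,2,0,1,0,1,0,1,0,2,0,1,0,1,0,2,0,1,0,2,0,2,0,2,0,1,0,1,0,1,0,2,0,1,0,1,0,1,0,1,0,1,0,1]),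
  (0,5,0,[]),
  (0,4,0,[]),
  (2,1,3,[0,2,0,2,0,2,0,2,0,2,0,1,0,1,0,1,0,2,0,2,0,1,0,1,0,1,0,1,0,1,0,1,0,2,0,1,0,2,0,1,0,1,0,1,0,2,0,1,0,1,0,2,0,1,0,2,0,2,0,2,0,1,0,1,0,1,0,2,0,1,0,1,0,1,0,1,0,1,0,2,0,1,0,2,0,1,0,1,0,1,0,2,0,1,0,1,0,2,0,1,0,2,0,2,0,2,0,1,0,1,0,1,0,2,0,1,0,1,0,1,0,1,0,1,0,2,0,1,0,1,0,2,0,1,0,2,0,2,0,2,0,1,0,1,0,1,0,2,0,1,0,1,0,1,0,1,0,1,0,2,0,1,0,2,0,1,0,1,0,1,0,2,0,1,0,1,0,2,0,1,0,2,0,2,0,2,0,1,0,1,0,1,0,2,0,1,0,1,0,1,0,1,0,1,0,2,0,1,0,1,0,2,0,1,0,2,0,2,0,2,0,1,0,1,0,1,0,2,0,1,0,2,0,2,0,2]),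
  (0,4,0,[]),
  (0,3,0,[]),
  (0,0,0,[]),
  (2,6,3,[0,2,0,2,0,2,0,2,0,2,0,1,0,1,0,1,0,2,0,2,0,1,0,1,0,1,0,1,0,1,0,1,0,2,0,1,0,2,0,1,0,1,0,1,0,2,0,1,0,1,0,2,0,1,0,2,0,2,0,2,0,1,0,1,0,1,0,2,0,1,0,1,0,1,0,1,0,1,0,2,0,1,0,1,0,2,0,1,0,2,0,2,0,2,0,1,0,1,0,1,0,2,0,1,0,1,0,1,0,1,0,1,0,2,0,1,0,1,0,2,0,1,0,2,0,2,0,2,0,1,0,1,0,1,0,2]),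
  (0,9,0,[]),
  (0,8,0,[]),
  (0,5,0,[]),
  (2,5,3,[0,2,0,2,0,2,0,2,0,2,0,1,0,1,0,1,0,2,0,2,0,1,0,1,0,1,0,1,0,1,0,1,0,2,0,1,0,2,0,1,0,1,0,1,0,2,0,1,0,2,0,1,0,1,0,1,0,2,0,1,0,1,0,2,0,1,0,2,0,2,0,2,0,1,0,1,0,1,0,2,0,1,0,1,0,1,0,1,0,1,0,2,0,1,0,1,0,2,0,1,0,2,0,2,0,2,0,1,0,1,0,1,0,2,0,1,0,1,0,1,0,1,0,1,0,2,0,1,0,2,0,1,0,1,0,1,0,2,0,1,0,1,0,2,0,1,0,2,0,2,0,2,0,1,0,1,0,1,0,2,0,1,0,1,0,1,0,1,0,1,0,2,0,1,0,2,0,1,0,1,0,1,0,2,0,1,0,2,0,1,0,1,0,1,0,2,0,1,0,1,0,2,0,1,0,2,0,2,0,2,0,1,0,1,0,2,0,2,0,1,0,1,0]),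
  (0,8,0,[]),
  (0,7,0,[]),
  (2,7,4,[2,0,1,0,1,0,2,0,1,0,1,0,1,0,1,0,2,0,2,0,1,0,1,0,1,0,2,0,1,0,1,0,1,0,1,0,1,0,2,0,1,0,1,0,2,0,1,0,2,0,2,0,2,0,1,0,1,0,1,0,2,0,1,0,1,0,1,0,1,0,1,0,2,0,1,0,2,0,1,0,1,0,1,0,2,0,1,0,1,0,2,0,1,0,2,0,2,0,2,0,1,0,1,0,1,0,2,0,1,0,1,0,1,0,1,0,1,0,2,0,1,0,1,0,2,0,1,0,1,0,2,0,1,0,1,0]),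
  (2,6,3,[0,2,0,2,0,2,0,2,0,2,0,1,0,1,0,1,0,2,0,2,0,1,0,1,0,1,0,1,0,1,0,1,0,2,0,1,0,2,0,1,0,1,0,1,0,2,0,1,0,2,0,1,0,1,0,1,0,2,0,1,0,1,0,2,0,1,0,2,0,2,0,2,0,1,0,1,0,1,0,2,0,1,0,1,0,1,0,1,0,1,0,2,0,1,0,1,0,2,0,1,0,2,0,2,0,2,0,1,0,1,0,1,0,2,0,1,0,1,0,1,0,1,0,1,0,2,0,1,0,2,0,1,0,1,0,1,0,2,0,1,0,1,0,2,0,1,0,2,0,2,0,2,0,1,0,1,0,1,0,2,0,1,0,1,0,1,0,1,0,1,0,2,0,1,0,2,0,1,0,1,0,1,0,2,0,1,0,2,0,1,0,1,0,1,0,2,0,1,0,1,0,2,0,1,0,2,0,2,0,2,0,1,0,1,0,2,0,2,0,1,0,1,0]),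
  (0,9,0,[]),
  (0,8,0,[]),
  (0,5,0,[]),
  (2,5,3,[0,2,0,2,0,2,0,2,0,2,0,1,0,1,0,1,0,2,0,2,0,1,0,1,0,1,0,1,0,1,0,1,0,2,0,1,0,2,0,1,0,1,0,1,0,2,0,1,0,2,0,1,0,1,0,1,0,2,0,1,0,2,0,1,0,1,0,1,0,2,0,1,0,2,0,1,0,1,0,1,0,2,0,1,0,1,0,2,0,1,0,2,0,2,0,2,0,1,0,1,0,1,0,2,0,1,0,1,0,1,0,1,0,1,0,2,0,1,0,2,0,1,0,1,0,1,0,2,0,1,0,1,0,2,0,1,0,2,0,2,0,2,0,1,0,1,0,1,0,2,0,1,0,1,0,1,0,1,0,1,0,2,0,1,0,1,0,2,0,1,0,2,0,2,0,2,0,1,0,1,0,1,0,2,0,1,0,1,0,1,0,1,0,1,0,2,0,1,0,1,0,2,0,1,0,2,0,2,0,2,0,1,0,1,0,1,0,1,0,1,0,1,0,1,0,1,0,1,0,2]),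
  (0,8,0,[]),
  (0,7,0,[]),
  (0,6,0,[]),
  (2,6,4,[2,0,1,0,1,0,2,0,1,0,1,0,1,0,1,0,2,0,2,0,1,0,1,0,1,0,2,0,1,0,1,0,1,0,1,0,1,0,2,0,1,0,2,0,1,0,1,0,1,0,2,0,1,0,2,0,1,0,1,0,1,0,2,0,1,0,2,0,1,0,1,0,1,0,2,0,1,0,2,0,1,0,1,0,1,0,2,0,1,0,2,0,1,0,1,0,1,0,2,0,1,0,1,0,2,0,1,0,2,0,2,0,2,0,1,0,1,0,1,0,2,0,1,0,1,0,1,0,1,0,1,0,2,0,1,0,2,0,1,0,1,0,1,0,2,0,1,0,2,0,1,0,1,0,1,0,2,0,1,0,1,0,2]),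
  (2,5,3,[0,2,0,2,0,2,0,2,0,2,0,1,0,1,0,1,0,2,0,2,0,2,0,2,0,2,0,2,0,1,0,1,0,1,0,2,0,1,0,1,0,1,0,1,0,1,0,2,0,1,0,2,0,1,0,1,0,1,0,2,0,1,0,2,0,1,0,1,0,1,0,2,0,1,0,2,0,1,0,1,0,1,0,2,0,1,0,2,0,1,0,1,0,1,0,2,0,1,0,2,0,1,0,1,0,1,0,2,0,1,0,2,0,1,0,1,0,1,0,2,0,1,0,2,0,1,0,1,0,1,0,2,0,1,0,2,0,1,0,1,0,1,0,2,0,1,0,2,0,1,0,1,0,1,0,2,0,1,0,1,0,2,0,1,0,2,0,2,0,2,0,1,0,1,0,1,0,2,0]),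
  (0,8,0,[]),
  (0,7,0,[]),
  (2,4,3,[0,2,0,2,0,2,0,2,0,2,0,1,0,1,0,1,0,2,0,2,0,1,0,1,0,1,0,1,0,1,0,1,0,2,0,1,0,2,0,1,0,1,0,1,0,2,0,1,0,1,0,2,0,1,0,2,0,2,0,2,0,1,0,1,0,1,0,2,0,1,0,1,0,1,0,1,0,1,0,2,0,1,0,1,0,2,0,1,0,2,0,2,0,2,0,1,0,1,0,1,0,2,0,1,0,1,0,1,0,1,0,1,0,2,0,1,0,1,0,2,0,1,0,2,0,2,0,2,0,1,0,1,0,1,0,2,0]),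
  (0,7,0,[]),
  (0,6,0,[]),
  (2,3,3,[0,2,0,2,0,2,0,2,0,2,0,1,0,1,0,1,0,2,0,2,0,1,0,1,0,1,0,1,0,1,0,1,0,2,0,1,0,2,0,1,0,1,0,1,0,2,0,1,0,1,0,2,0,1,0,2,0,2,0,2,0,1,0,1,0,1,0,2,0,1,0,1,0,1,0,1,0,1,0,2,0,1,0,2,0,1,0,1,0,1,0,2,0,1,0,1,0,2,0,1,0,2,0,2,0,2,0,1,0,1,0,1,0,2,0,1,0,1,0,1,0,1,0,1,0,2,0,1,0,2,0,1,0,1,0,1,0,2,0,1,0,1,0,2,0,1,0,2,0,2,0,2,0,1,0,1,0,1,0,2,0,1,0,1,0,1,0,1,0,1,0,2,0,1,0,2,0,1,0,1,0,1,0,2,0,1,0,2,0,1,0,1,0,1,0,2,0,1,0,1,0,2]),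
  (0,6,0,[]),
  (0,5,0,[]),
  (2,2,3,[0,2,0,2,0,2,0,2,0,2,0,1,0,1,0,1,0,2,0,2,0,1,0,1,0,1,0,1,0,1,0,1,0,2,0,1,0,1,0,2,0,1,0,2,0,2,0,2,0,1,0,1,0,1,0,2,0,1,0,1,0,1,0,1,0,1,0,2,0,1,0,2,0,1,0,1,0,1,0,2,0,1,0,2,0,1,0,1,0,1,0,2,0,1,0,2,0,1,0,1,0,1,0,2,0,1,0,1,0,2,0,1,0,2,0,2,0,2,0,1,0,1,0,1,0,2,0,1,0,1,0,1,0,1,0,1,0,2,0,1,0,2,0,1,0,1,0,1,0,2,0,1,0,2,0,1,0,1,0,1,0,2,0,1,0,2,0,1,0,1,0,1,0,2,0,1,0,2,0,1,0,1,0,1,0,2,0,1,0,1,0,2,0,1,0,2,0,2,0,2,0,1,0,1,0,1,0,2,0]),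
  (0,5,0,[]),
  (0,4,0,[]),
  (2,1,2,[0,1,0,1,0,1,0,1,0,1,0,1,0,1,0,2,0,1,0,2,0,1,0,1,0,1,0,2,0,1,0,2,0,1,0,1,0,1,0,2,0,1,0,1,0,2,0,1,0,2,0,2,0,2,0,1,0,1,0,1,0,2,0,1,0,1,0,1,0,1,0,1,0,2,0,1,0,1,0,2]),
  (0,4,0,[]),
  (0,3,0,[]),
  (0,0,0,[]),
  (2,4,2,[0,1,0,2,0,2,0,2,0,2,0,1,0,1,0,1,0,2,0,1,0,1,0,1,0,1,0,1,0,2,0,1,0,1,0,2,0,1,0,2,0,2,0,2,0,1,0,1,0,1,0,2,0,1,0,1,0,1,0,1,0,1,0,2,0,1,0,2,0,1,0,1,0,1,0,2,0,1,0,2,0,1,0,1,0,1,0,2,0,1,0,1,0,2,0,1,0,2,0,2,0,2,0,1,0,1,0,1,0,2,0,1,0,1,0,1,0,1,0,1,0,2,0,1,0,2,0,1,0,1,0,1,0,2,0,1,0,1,0,2,0,1,0,2,0,2,0,2,0,1,0,1,0,1,0,2,0,1,0,1,0,1,0,1,0,1,0,2,0,1,0,2,0,1,0,1,0,1,0,2,0,1,0,1,0,2,0,2,0,1]),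
  (0,7,0,[]),
  (0,6,0,[]),
  (2,3,2,[0,1,0,1,0,1,0,1,0,1,0,1,0,1,0,2,0,1,0,1,0,2,0,1,0,2,0,2,0,2,0,1,0,1,0,1,0,2,0,1,0,1,0,1,0,1,0,1,0,2,0,1,0,2,0,1,0,1,0,1,0,2,0,1,0,1,0,2,0,1,0,2,0,2,0,2,0,1,0,1,0,1,0,2,0,1,0,1,0,1,0,1,0,1,0,2,0,1,0,2,0,1,0,1,0,1,0,2,0,1,0,1,0,2,0,1,0,2,0,2,0,2,0,1,0,1,0,1,0,2,0,1,0,1,0,1,0,1,0,1,0,2,0,1,0,1,0,2,0,2,0,1]),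
  (0,6,0,[]),
  (0,5,0,[]),
  (2,2,2,[0,1,0,1,0,1,0,1,0,1,0,1,0,1,0,2,0,1,0,2,0,1,0,1,0,1,0,2,0,1,0,2,0,1,0,1,0,1,0,2,0,1,0,2,0,1,0,1,0,1,0,2,0,1,0,2,0,1,0,1,0,1,0,2,0,1,0,2,0,1,0,1,0,1,0,2,0,1,0,2,0,1,0,1,0,1,0,2,0,1,0,2,0,1,0,1,0,1,0,2,0,1,0,2,0,1,0,1,0,1,0,2,0,1,0,1,0,2,0,1,0,2,0,2,0,2,0,1,0,1,0,1,0,2,0,1,0,1,0,1,0,1,0,1,0,2,0,1,0,1,0,2,0,2,0,1]),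
  (0,5,0,[]),
  (0,4,0,[]),
  (0,1,0,[]),
  (2,3,3,[0,2,0,2,0,2,0,2,0,2,0,1,0,1,0,1,0,2,0,2,0,1,0,1,0,1,0,1,0,1,0,1,0,2,0,1,0,1,0,2,0,1,0,2,0,2,0,2,0,1,0,1,0,1,0,2,0,1,0,1,0,1,0,1,0,1,0,2,0,1,0,2,0,1,0,1,0,1,0,2,0,1,0,1,0,2,0,1,0,2,0,2,0,2,0,1,0,1,0,1,0,2,0,1,0,1,0,1,0,1,0,1,0,2,0,1,0,2,0,1,0,1,0,1,0,2,0,1,0,2,0,1,0,1,0,1,0,2,0,1,0,2,0,1,0,1,0,1,0,2,0,1,0,2,0,1,0,1,0,1,0,2,0,1,0,1,0,2,0,2,0,1,0,1,0,2,0,1,0,1,0,2,0,2,0,1,0,2,0,2,0,1,0,2,0]),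
  (0,6,0,[]),
  (0,5,0,[]),
  (2,5,4,[2,0,1,0,1,0,2,0,1,0,1,0,1,0,2,0,2,0,1,0,1,0,1,0,1,0,1,0,2,0,1,0,1,0,2,0,1,0,2,0,2,0,2,0,1,0,1,0,1,0,2,0,1,0,1,0,1,0,1,0,1,0,2,0,1,0,2,0,1,0,1,0,1,0,2,0,1,0,2,0,1,0,1,0,1,0,2,0,1,0,2,0,1,0,1,0,1,0,2,0,1,0,2,0,1,0,1,0,1,0,2,0,1,0,1,0,2,0,2]),
  (2,4,3,[0,2,0,2,0,2,0,2,0,2,0,1,0,1,0,1,0,2,0,2,0,1,0,1,0,1,0,1,0,1,0,1,0,2,0,1,0,1,0,2,0,1,0,2,0,2,0,2,0,1,0,1,0,1,0,2,0,1,0,1,0,1,0,1,0,1,0,2,0,1,0,1,0,2,0,1,0,2,0,2,0,2,0,1,0,1,0,1,0,2,0,1,0,1,0,1,0,1,0,1,0,2,0,1,0,2,0,1,0,1,0,1,0,2,0,1,0,1,0,2,0,1,0,2,0,2,0,2,0,1,0,1,0,1,0,2,0,1,0,1,0,1,0,1,0,1,0,2,0,1,0,1,0,2,0,1,0,2,0,2,0,2,0,1,0,1,0,1,0,2,0,1,0,1,0,1,0,1,0,1,0,2,0,1,0,1,0,2,0,1,0,2,0,2,0,2,0,1,0,1,0,1,0,2,0,1,0,1,0,1,0,1,0,1,0,2,0,1,0,2,0,1,0,1,0,1,0,2,0,1,0,1,0,2,0,2]),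
  (0,7,0,[]),
  (0,6,0,[]),
  (2,3,3,[0,2,0,2,0,2,0,2,0,2,0,1,0,1,0,1,0,2,0,2,0,2,0,2,0,2,0,2,0,1,0,1,0,1,0,2,0,1,0,1,0,1,0,1,0,1,0,2,0,1,0,1,0,2,0,2]),
  (0,6,0,[]),
  (0,5,0,[]),
  (0,2,0,[]),
  (2,3,3,[0,2,0,2,0,2,0,2,0,2,0,1,0,1,0,1,0,2,0,2,0,2,0,2,0,2,0,2,0,1,0,1,0,1,0,2,0,1,0,1,0,1,0,1,0,1,0,2,0,1,0,1,0,2,0,1,0,2,0,2,0,2,0,1,0,1,0,1,0,2,0,1,0,1,0,1,0,1,0,1,0,2,0,1,0,1,0,2,0,1,0,2,0,2,0,2,0,1,0,1,0,1,0,2,0,1,0,1,0,1,0,1,0,1,0,2,0,1,0,2,0,1,0,1,0,1,0,2,0,1,0,1,0,2,0,1,0,2,0,2,0,2,0,1,0,1,0,1,0,2,0,1,0,1,0,1,0,1,0,1,0,2,0,1,0,2,0,1,0,1,0,1,0,2,0,1,0,2,0,1,0,1,0,1,0,2,0,1,0,2,0,1,0,1,0,1,0,2,0,1,0,1,0,2,0,1,0,2,0,2,0,2,0,1,0,1,0,1,0,2,0,1,0,1,0,1,0,1,0,1,0,2,0,1,0,1,0,2,0,1,0,2,0,2,0,2,0,1,0,1,0,1,0,2,0,1,0,1,0,1,0,1,0,1,0,2,0,1,0,2,0,1,0,1,0,1,0,2,0,1,0,1,0,1,0,1,0,1,0,2,0,1,0,1,0,1,0,2,0,2,0]),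
  (0,6,0,[]),
  (0,5,0,[]),
  (0,4,0,[]),
  (2,4,4,[2,0,1,0,1,0,2,0,1,0,1,0,1,0,2,0,2,0,1,0,1,0,1,0,1,0,1,0,2,0,1,0,2,0,1,0,1,0,1,0,2,0,1,0,2,0,1,0,1,0,1,0,2,0,1,0,2,0,1,0,1,0,1,0,2,0,1,0,1,0,2,0,2,0,1,0,1,0,1,0,2,0,1,0,1,0,2,0,2,0]),
  (2,3,3,[0,2,0,2,0,2,0,2,0,2,0,1,0,1,0,1,0,2,0,2,0,1,0,1,0,1,0,1,0,1,0,1,0,2,0,1,0,1,0,2,0,1,0,2,0,2,0,2,0,1,0,1,0,1,0,2,0,1,0,1,0,1,0,1,0,1,0,2,0,1,0,1,0,2,0,1,0,2,0,2,0,2,0,1,0,1,0,1,0,2,0,1,0,1,0,1,0,1,0,1,0,2,0,1,0,2,0,1,0,1,0,1,0,2,0,1,0,2,0,1,0,1,0,1,0,2,0,1,0,2,0,1,0,1,0,1,0,2,0,1,0,1,0,2,0,1,0,2,0,2,0,2,0,1,0,1,0,1,0,2,0,1,0,1,0,1,0,1,0,1,0,2,0,1,0,2,0,1,0,1,0,1,0,2,0,1,0,2,0,1,0,1,0,1,0,2,0,1,0,2,0,1,0,1,0,1,0,2,0,1,0,2,0,1,0,1,0,1,0,2,0,1,0,2,0,1,0,1,0,1,0,2,0,1,0,1,0,2,0,1,0,2,0,2,0,2,0,1,0,1,0,1,0,1,0,1,0,1,0,1,0,2,0,1,0,1,0,2,0,2,0]),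
  (0,6,0,[]),
  (0,5,0,[]),
  (2,2,3,[0,2,0,2,0,2,0,2,0,2,0,1,0,1,0,1,0,2,0,2,0,1,0,1,0,1,0,1,0,1,0,1,0,2,0,1,0,1,0,2,0,1,0,2,0,2,0,2,0,1,0,1,0,1,0,2,0,1,0,1,0,1,0,1,0,1,0,2,0,1,0,2,0,1,0,1,0,1,0,2,0,1,0,1,0,2,0,1,0,2,0,2,0,2,0,1,0,1,0,1,0,2,0,1,0,1,0,1,0,1,0,1,0,2,0,1,0,1,0,2,0,2,0,1,0,1,0,1,0,2,0,1,0,1,0,2,0,2,0]),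
  (0,5,0,[]),
  (0,4,0,[]),
  (0,1,0,[]),
  (0,2,0,[]),
  (2,3,4,[2,0,1,0,1,0,2,0,1,0,1,0,1,0,1,0,2,0,2,0,1,0,1,0,1,0,2,0,1,0,1,0,1,0,1,0,1,0,2,0,1,0,1,0,2,0,1,0,2,0,2,0,2,0,1,0,1,0,1,0,2,0,1,0,1,0,1,0,1,0,1,0,2,0,1,0,1,0,2,0,1,0,2,0,2,0,2,0,1,0,1,0,1,0,2,0,1,0,1,0,1,0,1,0,1,0,2,0,1,0,2,0,1,0,1,0,1,0,2,0,1,0,1,0,2,0,1,0,2,0,2,0,2,0,1,0,1,0,1,0,2,0,1,0,1,0,1,0,1,0,1,0,2,0,1,0,2,0,1,0,1,0,1,0,2,0,1,0,2,0,1,0,1,0,1,0,2,0,1,0,2,0,1,0,1,0,1,0,2,0,1,0,2,0,1,0,1,0,1,0,2,0,1,0,1,0,2,0,1,0,2,0,2,0,2,0,1,0,1,0,1,0,2,0,1,0,1,0,1,0,1,0,1,0,2,0,1,0,1,0,2,0,2,0,2,0]),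
  (2,2,3,[0,2,0,2,0,2,0,2,0,2,0,1,0,1,0,1,0,2,0,2,0,2,0,2,0,2,0,2,0,1,0,1,0,1,0,2,0,1,0,1,0,1,0,1,0,1,0,2,0,1,0,2,0,1,0,1,0,1,0,2,0,1,0,2,0,1,0,1,0,1,0,2,0,1,0,2,0,1,0,1,0,1,0,2,0,1,0,1,0,2,0,1,0,2,0,2,0,2,0,1,0,1,0,1,0,2,0,1,0,1,0,1,0,1,0,1,0,2,0,1,0,1,0,2,0,1,0,2,0,2,0,2,0,1,0,1,0,1,0,2,0,1,0,1,0,1,0,1,0,1,0,2,0,1,0,2,0,1,0,1,0,1,0,2,0,1,0,1,0,2,0,1,0,2,0,2,0,2,0,1,0,1,0,1,0,2,0,1,0,1,0,1,0,1,0,1,0,2,0,1,0,1,0,2,0,1,0,2,0,2,0,2,0,1,0,1,0,1,0,2,0,1,0,1,0,1,0,1,0,1,0,2,0,1,0,1,0,2,0,2,0,2,0]),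
  (0,5,0,[]),
  (0,4,0,[]),
  (2,1,3,[0,2,0,2,0,2,0,2,0,2,0,1,0,1,0,1,0,2,0,2,0,1,0,1,0,1,0,1,0,1,0,1,0,2,0,1,0,2,0,1,0,1,0,1,0,2,0,1,0,2,0,1,0,1,0,1,0,2,0,1,0,1,0,2,0,1,0,2,0,2,0,2,0,1,0,1,0,1,0,2,0,1,0,1,0,1,0,1,0,1,0,2,0,1,0,2,0,1,0,1,0,1,0,2,0,1,0,2,0,1,0,1,0,1,0,2,0,1,0,1,0,2,0,1,0,2,0,2,0,2,0,1,0,1,0,1,0,2,0,1,0,1,0,1,0,1,0,1,0,2,0,1,0,2,0,1,0,1,0,1,0,2,0,1,0,2,0,1,0,1,0,1,0,2,0,1,0,1,0,2,0,2,0,2,0]),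
  (0,4,0,[]),
  (0,3,0,[]),
  (0,0,0,[]),
  (2,1,3,[0,2,0,2,0,2,0,2,0,2,0,1,0,1,0,1,0,2,0,2,0,1,0,1,0,1,0,1,0,1,0,1,0,2,0,1,0,2,0,1,0,1,0,1,0,2,0,1,0,2,0,1,0,1,0,1,0,2,0,1,0,1,0,2,0,1,0,2,0,2,0,2,0,1,0,1,0,1,0,2,0,1,0,1,0,1,0,1,0,1,0,2,0,1,0,1,0,2,0,1,0,2,0,2,0,2,0,1,0,1,0,1,0,2,0,1,0,1,0,1,0,1,0,1,0,2,0,1,0,1,0,2,0,1,0,2,0,2,0,2,0,1,0,1,0,1,0,2,0,1,0,1,0,1,0,1,0,1,0,2,0,1,0,2,0,1,0,1,0,1,0,2,0,1,0,2,0,1,0,1,0,1,0,2,0,1,0,1,0,2,0,2,0,1,0,1,0,2,0,1,0,1,0,2,0,2,0,1,0,2,0,2,0,1,0,2,0]),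
  (0,4,0,[]),
  (0,3,0,[]),
  (0,0,0,[]),
  (0,0,0,[])],
[
  (1,1,0,[0,1,0,2,0,1]),
  (1,2,0,[0,1,0,2,0]),
  (1,3,0,[0,1,0,2]),
  (1,4,0,[0,1,0,1]),
  (1,5,0,[0]),
  (1,6,0,[]),
  (2,1,3,[0,2,0,2,0,2,0,2,0,2,0,1,0,1,0,1,0,2,0,2,0,2,0,2,0,2,0,2,0,1,0,1,0,1,0,2,0,1,0,1,0,1,0,1,0,1,0,2,0,1,0,2,0,1,0,1,0,1,0,2,0,1,0,2,0,1,0,1,0,1,0,2,0,1,0,1,0,2,0,1,0,2,0,2,0,2,0,1,0,1,0,1,0,2,0,1,0,1,0,1,0,1,0,1,0,2,0,1,0,2,0,1,0,1,0,1,0,2,0,1,0,2,0,1,0,1,0,1,0,2,0,1,0,2,0,1,0,1,0,1,0,2,0,1,0,2,0,1,0,1,0,1,0,2,0,1,0,2,0,1,0,1,0,1,0,2,0,1,0,2,0,1,0,1,0,1,0,2,0,1,0,1,0,2,0,1,0,2,0,2,0,2,0,1,0,1,0,1,0,2,0,1,0,1,0,1,0,1,0,1,0,2,0,1,0,2,0,1,0,1,0,1,0,2,0,1,0,1,0,2,0,1,0]),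
  (0,4,0,[]),
  (0,3,0,[]),
  (2,3,3,[0,2,0,2,0,2,0,2,0,2,0,1,0,1,0,1,0,2,0,2,0,1,0,1,0,1,0,1,0,1,0,1,0,2,0,1,0,2,0,1,0,1,0,1,0,2,0,1,0,1,0,2,0,1,0,2,0,2,0,2,0,1,0,1,0,1,0,2,0,1,0,1,0,1,0,1,0,1,0,2,0,1,0,2,0,1,0,1,0,1,0,2,0,1,0,2,0,1,0,1,0,1,0,2,0,1,0,1,0,2,0,1,0,2,0,2,0,2,0,1,0,1,0,1,0,2,0,1,0,1,0,1,0,1,0,1,0,2,0,1,0,2,0,1,0,1,0,1,0,2,0,1,0,1,0,2,0,1,0,2,0,2,0,2,0,1,0,1,0,1,0,2,0,1,0,1,0,1,0,1,0,1,0,2,0,1,0,2,0,1,0,1,0,1,0,2,0,1,0,1,0,2,0,1,0,2,0,2,0,2,0,1,0,1,0,1,0,2,0,1,0,1,0,1,0,1,0,1,0,2,0,1,0,2,0,1,0,1,0,1,0,2,0,1,0,1,0,2,0]),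
  (0,6,0,[]),
  (0,5,0,[]),
  (2,4,3,[0,2,0,2,0,2,0,2,0,2,0,1,0,1,0,1,0,2,0,2,0,1,0,1,0,1,0,1,0,1,0,1,0,2,0,1,0,1,0,2,0,1,0,2,0,2,0,2,0,1,0,1,0,1,0,2,0,1,0,1,0,1,0,1,0,1,0,2,0,1,0,1,0,2,0,1,0,2,0,2,0,2,0,1,0,1,0,1,0,2,0,1,0,1,0,1,0,1,0,1,0,2,0,1,0,2,0,1,0,1,0,1,0,2,0,1,0,2,0,1,0,1,0,1,0,2,0,1,0,2,0,1,0,1,0,1,0,2,0,1,0,2,0,1,0,1,0,1,0,2,0,1,0,1,0,2,0,1,0,2,0,2,0,2,0,1,0,1,0,1,0,2,0,1,0,1,0,1,0,1,0,1,0,2,0,1,0,2,0,1,0,1,0,1,0,2,0,1,0,2,0,1,0,1,0,1,0,2,0,1,0,1,0,2,0,2,0,2]),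
  (0,7,0,[]),
  (0,6,0,[]),
  (2,3,2,[0,1,0,1,0,1,0,1,0,1,0,1,0,1,0,2,0,1,0,1,0,2,0,1,0,2,0,2,0,2,0,1,0,1,0,1,0,2,0,1,0,1,0,1,0,1,0,1,0,2,0,1,0,2,0,1,0,1,0,1,0,2,0,1,0,1,0,2,0,1,0,2,0,2,0,2,0,1,0,1,0,1,0,2,0,1,0,1,0,1,0,1,0,1,0,2,0,1,0,2,0,1,0,1,0,1,0,2,0,1,0,1,0,2,0,1,0,2,0,2,0,2,0,1,0,1,0,1,0,2,0,1,0,1,0,1,0,1,0,1,0,2,0,1,0,1,0,2,0,2,0,2]),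
  (0,6,0,[]),
  (0,5,0,[]),
  (2,5,3,[0,2,0,2,0,2,0,2,0,2,0,1,0,1,0,1,0,2,0,2,0,2,0,2,0,2,0,2,0,1,0,1,0,1,0,2,0,1,0,1,0,1,0,1,0,1,0,2,0,1,0,2,0,1,0,1,0,1,0,2,0,1,0,2,0,1,0,1,0,1,0,2,0,1,0,1,0,2,0,1,0,2,0,2,0,2,0,1,0,1,0,1,0,2,0,1,0,1,0,1,0,1,0,1,0,2,0,1,0,1,0,2,0,1,0,2,0,2,0,2,0,1,0,1,0,1,0,2,0,1,0,1,0,1,0,1,0,1,0,2,0,1,0,1,0,2,0,1,0,2,0,2,0,2,0,1,0,1,0,1,0,2,0,1,0,1,0,1,0,1,0,1,0,2,0,1,0,1,0,2,0,2,0,2,0]),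
  (0,8,0,[]),
  (0,7,0,[]),
  (2,4,3,[0,2,0,2,0,2,0,2,0,2,0,1,0,1,0,1,0,2,0,2,0,2,0,2,0,2,0,2,0,1,0,1,0,1,0,2,0,1,0,1,0,1,0,1,0,1,0,2,0,1,0,2,0,1,0,1,0,1,0,2,0,1,0,2,0,1,0,1,0,1,0,2,0,1,0,2,0,1,0,1,0,1,0,2,0,1,0,2,0,1,0,1,0,1,0,2,0,1,0,2,0,1,0,1,0,1,0,2,0,1,0,2,0,1,0,1,0,1,0,2,0,1,0,2,0,1,0,1,0,1,0,2,0,1,0,2,0,1,0,1,0,1,0,2,0,1,0,1,0,2,0,1,0,2,0,2,0,2,0,1,0,1,0,1,0,2,0,1,0,1,0,1,0,1,0,1,0,2,0,1,0,1,0,2,0,1,0,2,0,2,0,2,0,1,0,1,0,1,0,1,0,2,0]),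
  (0,7,0,[]),
  (0,6,0,[]),
  (2,3,3,[0,2,0,2,0,2,0,2,0,2,0,1,0,1,0,1,0,2,0,2,0,1,0,1,0,1,0,1,0,1,0,1,0,2,0,1,0,2,0,1,0,1,0,1,0,2,0,1,0,1,0,2,0,1,0,2,0,2,0,2,0,1,0,1,0,1,0,2,0,1,0,1,0,1,0,1,0,1,0,2,0,1,0,1,0,2,0,1,0,2,0,2,0,2,0,1,0,1,0,1,0,2,0,1,0,1,0,1,0,1,0,1,0,2,0,1,0,1,0,2,0,1,0,2,0,2,0,2,0,1,0,1,0,1,0,1,0,2,0]),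
  (0,6,0,[]),
  (0,5,0,[]),
  (2,7,4,[2,0,1,0,1,0,2,0,1,0,1,0,1,0,2,0,2,0,1,0,1,0,1,0,1,0,1,0,2,0,1,0,2,0,1,0,1,0,1,0,2,0,1,0,1,0,2,0,1,0,2,0,2,0,2,0,1,0,1,0,1,0,2,0,1,0,1,0,1,0,1,0,1,0,2,0,1,0,1,0,2,0,1,0,2,0,2,0,2,0,1,0,1,0,1,0,2,0,1,0,1,0,1,0,1,0,1,0,2,0,1,0,2,0,1,0,1,0,1,0,2,0,1,0,2,0,1,0,1,0,1,0,2,0,1,0,1,0,2,0,1,0,2,0,2,0,2,0,1,0,1,0,1,0,2,0,1,0,1,0,1,0,1,0,1,0,2,0,1,0,1,0,2,0,1,0,2,0,2,0,2,0,1,0,1,0,1,0,2,0,1,0,1,0,1,0,1,0,1,0,2,0,1,0,1,0,2,0,2,0,2,0]),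
  (2,6,3,[0,2,0,2,0,2,0,2,0,2,0,1,0,1,0,1,0,2,0,2,0,2,0,2,0,2,0,2,0,1,0,1,0,1,0,2,0,1,0,1,0,1,0,1,0,1,0,2,0,1,0,2,0,1,0,1,0,1,0,2,0,1,0,2,0,1,0,1,0,1,0,2,0,1,0,1,0,2,0,1,0,2,0,2,0,2,0,1,0,1,0,1,0,2,0,1,0,1,0,1,0,1,0,1,0,2,0,1,0,1,0,2,0,1,0,2,0,2,0,2,0,1,0,1,0,1,0,2,0,1,0,1,0,1,0,1,0,1,0,2,0,1,0,1,0,2,0,1,0,2,0,2,0,2,0,1,0,1,0,1,0,2,0,1,0,1,0,1,0,1,0,1,0,2,0,1,0,1,0,2,0,2,0,2,0]),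
  (0,9,0,[]),
  (0,8,0,[]),
  (2,5,3,[0,2,0,2,0,2,0,2,0,2,0,1,0,1,0,1,0,2,0,2,0,2,0,2,0,2,0,2,0,1,0,1,0,1,0,2,0,1,0,1,0,1,0,1,0,1,0,2,0,1,0,2,0,1,0,1,0,1,0,2,0,1,0,2,0,1,0,1,0,1,0,2,0,1,0,2,0,1,0,1,0,1,0,2,0,1,0,2,0,1,0,1,0,1,0,2,0,1,0,2,0,1,0,1,0,1,0,2,0,1,0,2,0,1,0,1,0,1,0,2,0,1,0,2,0,1,0,1,0,1,0,2,0,1,0,2,0,1,0,1,0,1,0,2,0,1,0,1,0,2,0,1,0,2,0,2,0,2,0,1,0,1,0,1,0,2,0,1,0,1,0,1,0,1,0,1,0,2,0,1,0,1,0,2,0,1,0,2,0,2,0,2,0,1,0,1,0,1,0,1,0,2,0]),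
  (0,8,0,[]),
  (0,7,0,[]),
  (2,4,3,[0,2,0,2,0,2,0,2,0,2,0,1,0,1,0,1,0,2,0,2,0,1,0,1,0,1,0,1,0,1,0,1,0,2,0,1,0,2,0,1,0,1,0,1,0,2,0,1,0,1,0,2,0,1,0,2,0,2,0,2,0,1,0,1,0,1,0,2,0,1,0,1,0,1,0,1,0,1,0,2,0,1,0,1,0,2,0,1,0,2,0,2,0,2,0,1,0,1,0,1,0,2,0,1,0,1,0,1,0,1,0,1,0,2,0,1,0,1,0,2,0,1,0,2,0,2,0,2,0,1,0,1,0,1,0,1,0,2,0]),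
  (0,7,0,[]),
  (0,6,0,[]),
  (0,3,0,[]),
  (2,5,3,[0,2,0,2,0,2,0,2,0,2,0,1,0,1,0,1,0,2,0,2,0,2,0,2,0,2,0,2,0,1,0,1,0,1,0,2,0,1,0,1,0,1,0,1,0,1,0,2,0,1,0,2,0,1,0,1,0,1,0,2,0,1,0,2,0,1,0,1,0,1,0,2,0,1,0,2,0,1,0,1,0,1,0,2,0,1,0,1,0,2,0,1,0,2,0,2,0,2,0,1,0,1,0,1,0,2,0,1,0,1,0,1,0,1,0,1,0,2,0,1,0,2,0,1,0,1,0,1,0,2,0,1,0,2,0,1,0,1,0,1,0,2,0,1,0,2,0,1,0,1,0,1,0,2,0,1,0,2,0,1,0,1,0,1,0,2,0,1,0,2,0,1,0,1,0,1,0,2,0,1,0,2,0,1,0,1,0,1,0,2,0,1,0,2,0,1,0,1,0,1,0,2,0,1,0,1,0,2,0,2,0,1,0,1,0,2,0,2,0,2,0,2,0,1,0,2,0,2,0,1,0,2,0,2]),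
  (0,8,0,[]),
  (0,7,0,[]),
  (2,4,3,[0,2,0,2,0,2,0,2,0,2,0,1,0,1,0,1,0,2,0,2,0,2,0,2,0,2,0,2,0,1,0,1,0,1,0,2,0,1,0,1,0,1,0,1,0,1,0,2,0,1,0,1,0,2,0,1,0,2,0,2,0,2,0,1,0,1,0,1,0,2,0,1,0,1,0,1,0,1,0,1,0,2,0,1,0,1,0,2,0,1,0,2,0,2,0,2,0,1,0,1,0,1,0,2,0,1,0,1,0,1,0,1,0,1,0,2,0,1,0,2,0,1,0,1,0,1,0,2,0,1,0,2,0,1,0,1,0,1,0,2,0,1,0,2,0,1,0,1,0,1,0,2,0,1,0,2,0,1,0,1,0,1,0,2,0,1,0,1,0,2,0,1,0,2,0,2,0,2,0,1,0,1,0,1,0,2,0,1,0,1,0,1,0,1,0,1,0,2,0,1,0,1,0,2,0,2,0,1,0,1,0,2,0,2,0,2,0,2,0,1,0,2,0,2,0,1,0,2,0,2]),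
  (0,7,0,[]),
  (0,6,0,[]),
  (2,3,3,[0,2,0,2,0,2,0,2,0,2,0,1,0,1,0,1,0,2,0,2,0,2,0,2,0,2,0,2,0,1,0,1,0,1,0,2,0,1,0,1,0,1,0,1,0,1,0,2,0,1,0,2,0,1,0,1,0,1,0,2,0,1,0,1,0,2,0,1,0,2,0,2,0,2,0,1,0,1,0,1,0,2,0,1,0,1,0,1,0,1,0,1,0,2,0,1,0,1,0,2,0,1,0,2,0,2,0,2,0,1,0,1,0,1,0,2,0,1,0,1,0,1,0,1,0,1,0,2,0,1,0,2,0,1,0,1,0,1,0,2,0,1,0,2,0,1,0,1,0,1,0,2,0,1,0,2,0,1,0,1,0,1,0,2,0,1,0,1,0,2,0,1,0,2,0,2,0,2,0,1,0,1,0,1,0,1,0,1,0,1,0,2,0,2,0,2,0,2,0,1,0,2,0,2,0,1,0,2,0,2]),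
  (0,6,0,[]),
  (0,5,0,[]),
  (2,6,3,[0,2,0,2,0,2,0,2,0,2,0,1,0,1,0,1,0,2,0,2,0,1,0,1,0,1,0,1,0,1,0,1,0,2,0,1,0,2,0,1,0,1,0,1,0,2,0,1,0,1,0,2,0,1,0,2,0,2,0,2,0,1,0,1,0,1,0,2,0,1,0,1,0,1,0,1,0,1,0,2,0,1,0,2,0,1,0,1,0,1,0,2,0,1,0,2,0,1,0,1,0,1,0,2,0,1,0,1,0,2,0,1,0,2,0,2,0,2,0,1,0,1,0,1,0,2,0,1,0,1,0,1,0,1,0,1,0,2,0,1,0,2,0,1,0,1,0,1,0,2,0,1,0,1,0,2,0,1,0,2,0,2,0,2,0,1,0,1,0,1,0,2,0,1,0,1,0,1,0,1,0,1,0,2,0,1,0,2,0,1,0,1,0,1,0,2,0,1,0,1,0,2,0,1,0,2,0,2,0,2,0,1,0,1,0,1,0,2,0,1,0,1,0,1,0,1,0,1,0,2,0,1,0,2,0,1,0,1,0,1,0,2,0,1,0,1,0,2,0]),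
  (0,9,0,[]),
  (0,8,0,[]),
  (0,5,0,[]),
  (2,6,4,[2,0,1,0,1,0,2,0,1,0,1,0,1,0,1,0,2,0,2,0,1,0,1,0,1,0,2,0,1,0,1,0,1,0,1,0,1,0,2,0,1,0,2,0,1,0,1,0,1,0,2,0,1,0,1,0,2,0,1,0,2,0,2,0,2,0,1,0,1,0,1,0,2,0,1,0,1,0,1,0,1,0,1,0,2,0,1,0,2,0,1,0,1,0,1,0,2,0,1,0,2,0,1,0,1,0,1,0,2,0,1,0,1,0,2,0,1,0,2,0,2,0,2,0,1,0,1,0,1,0,2,0,1,0,1,0,1,0,1,0,1,0,2,0,1,0,1,0,2,0,1,0,2,0,2,0,2,0,1,0,1,0,1,0,2,0,1,0,1,0,1,0,1,0,1,0,2,0,1,0,2,0,1,0,1,0,1,0,2,0,1,0,1,0,2,0,1,0,2,0,2,0,2,0,1,0,1,0,1,0,2,0,1,0,1,0,1,0,1,0,1,0,2,0,1,0,2,0,1,0,1,0,1,0,2,0,1,0,2,0,1,0,1,0,1,0,2,0,1,0,1,0,2,0,1,0,2,0,2,0,2,0,1,0,1,0,2,0,1,0,1,0,1,0,1,0,1,0,2,0,1,0,1,0,2]),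
  (2,5,2,[0,1,0,1,0,1,0,1,0,1,0,1,0,1,0,2,0,1,0,2,0,1,0,1,0,1,0,2,0,1,0,2,0,1,0,1,0,1,0,2,0,1,0,1,0,2,0,1,0,2,0,2,0,2,0,1,0,1,0,1,0,2,0,1,0,1,0,1,0,1,0,1,0,2,0,1,0,1,0,2,0,1,0,2,0,2,0,2,0,1,0,1,0,2,0,1,0,1,0,1,0,1,0,1,0,2,0,1,0,1,0,2]),
  (0,8,0,[]),
  (0,7,0,[]),
  (2,4,2,[0,1,0,1,0,1,0,1,0,1,0,1,0,1,0,2,0,1,0,2,0,1,0,1,0,1,0,2,0,1,0,1,0,2,0,1,0,2,0,2,0,2,0,1,0,1,0,1,0,2,0,1,0,1,0,1,0,1,0,1,0,2,0,1,0,1,0,2,0,1,0,2,0,2,0,2,0,1,0,1,0,1,0,2,0,1,0,1,0,1,0,1,0,1,0,2,0,1,0,2,0,1,0,1,0,1,0,2,0,1,0,1,0,2,0,1,0,2,0,2,0,2,0,1,0,1,0,1,0,2,0,1,0,1,0,1,0,1,0,1,0,2,0,1,0,2,0,1,0,1,0,1,0,2,0,1,0,2,0,1,0,1,0,1,0,2,0,1,0,1,0,2,0,1,0,2,0,2,0,2,0,1,0,1,0,2,0,1,0,1,0,1,0,1,0,1,0,2,0,1,0,1,0,2]),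
  (0,7,0,[]),
  (0,6,0,[]),
  (2,3,3,[0,2,0,2,0,2,0,2,0,2,0,1,0,1,0,1,0,2,0,2,0,1,0,1,0,1,0,1,0,1,0,1,0,2,0,1,0,2,0,1,0,1,0,1,0,2,0,1,0,2,0,1,0,1,0,1,0,2,0,1,0,1,0,2,0,1,0,2,0,2,0,2,0,1,0,1,0,1,0,2,0,1,0,1,0,1,0,1,0,1,0,2,0,1,0,2,0,1,0,1,0,1,0,2,0,1,0,2,0,1,0,1,0,1,0,2,0,1,0,1,0,2,0,1,0,2,0,2,0,2,0,1,0,1,0,1,0,2,0,1,0,1,0,1,0,1,0,1,0,2,0,1,0,1,0,2,0,1,0,2,0,2,0,2,0,1,0,1,0,1,0,2,0,1,0,1,0,1,0,1,0,1,0,2,0,1,0,2,0,1,0,1,0,1,0,2,0,1,0,2,0,1,0,1,0,1,0,2,0,1,0,1,0,2,0,1,0,2,0,2,0,2,0,1,0,1,0,1,0,2,0,1,0,1,0,1,0,1,0,1,0,2,0,1,0,1,0,2,0,1,0,1,0,1,0,1,0,1,0,1,0,1,0,2,0,1,0,1,0,2]),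
  (0,6,0,[]),
  (0,5,0,[]),
  (2,2,3,[0,2,0,2,0,2,0,2,0,2,0,1,0,1,0,1,0,2,0,2,0,1,0,1,0,1,0,1,0,1,0,1,0,2,0,1,0,2,0,1,0,1,0,1,0,2,0,1,0,1,0,2,0,1,0,2,0,2,0,2,0,1,0,1,0,1,0,2,0,1,0,1,0,1,0,1,0,1,0,2,0,1,0,2,0,1,0,1,0,1,0,2,0,1,0,2,0,1,0,1,0,1,0,2,0,1,0,1,0,2,0,1,0,2,0,2,0,2,0,1,0,1,0,1,0,2,0,1,0,1,0,1,0,1,0,1,0,2,0,1,0,2,0,1,0,1,0,1,0,2,0,1,0,1,0,2,0,1,0,2,0,2,0,2,0,1,0,1,0,1,0,2,0,1,0,1,0,1,0,1,0,1,0,2,0,1,0,2,0,1,0,1,0,1,0,2,0,1,0,1,0,2,0,1,0,1,0,1,0,1,0,1,0,1,0,1,0,2,0,1,0,1,0,2]),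
  (0,5,0,[]),
  (0,4,0,[]),
  (2,1,2,[0,1,0,2,0,2,0,2,0,2,0,1,0,1,0,1,0,2,0,1,0,1,0,1,0,1,0,1,0,2,0,1,0,2,0,1,0,1,0,1,0,2,0,1,0,1,0,2,0,1,0,2,0,2,0,2,0,1,0,1,0,1,0,2,0,1,0,1,0,1,0,1,0,1,0,2,0,1,0,1,0,2,0,1,0,2,0,2,0,2,0,1,0,1,0,1,0,2,0,1,0,1,0,1,0,1,0,1,0,2,0,1,0,2,0,1,0,1,0,1,0,2,0,1,0,2,0,1,0,1,0,1,0,2,0,1,0,1,0,2,0,1,0,1,0,1,0,1,0,1,0,1,0,1,0,2,0,1,0,1,0,2]),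
  (0,4,0,[]),
  (0,3,0,[]),
  (0,0,0,[]),
  (2,4,3,[0,2,0,2,0,2,0,2,0,2,0,1,0,1,0,1,0,2,0,2,0,1,0,1,0,1,0,1,0,1,0,1,0,2,0,1,0,1,0,2,0,1,0,2,0,2,0,2,0,1,0,1,0,1,0,2,0,1,0,1,0,1,0,1,0,1,0,2,0,1,0,2,0,1,0,1,0,1,0,2,0,1,0,1,0,2,0,1,0,2,0,2,0,2,0,1,0,1,0,1,0,2,0,1,0,1,0,1,0,1,0,1,0,2,0,1,0,2,0,1,0,1,0,1,0,2,0,1,0,1,0,2,0,1,0,2,0,2,0,2,0,1,0,1,0,1,0,2,0,1,0,1,0,1,0,1,0,1,0,2,0,1,0,2,0,1,0,1,0,1,0,2,0,1,0,1,0,2,0,1,0,2,0,2,0,2,0,1,0,1,0,1,0,2,0,1,0,1,0,1,0,1,0,1,0,2,0,1,0,2,0,1,0,1,0,1,0,2,0,1,0,2,0,1,0,1,0,1,0,2,0,1,0,1,0,2,0,1,0,2,0,2,0,2,0,1,0,1,0,2]),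
  (0,7,0,[]),
  (0,6,0,[]),
  (2,3,2,[0,1,0,2,0,2,0,2,0,2,0,1,0,1,0,1,0,2,0,1,0,1,0,1,0,1,0,1,0,2,0,1,0,1,0,2,0,1,0,2,0,2,0,2,0,1,0,1,0,1,0,2,0,1,0,1,0,1,0,1,0,1,0,2,0,1,0,2,0,1,0,1,0,1,0,2,0,1,0,2,0,1,0,1,0,1,0,2,0,1,0,2,0,1,0,1,0,1,0,2,0,1,0,1,0,2,0,1,0,1]),
  (0,6,0,[]),
  (0,5,0,[]),
  (2,2,3,[0,2,0,2,0,2,0,2,0,2,0,1,0,1,0,1,0,2,0,2,0,2,0,2,0,2,0,2,0,1,0,1,0,1,0,2,0,1,0,1,0,1,0,1,0,1,0,2,0,1,0,2,0,1,0,1,0,1,0,2,0,1,0,2,0,1,0,1,0,1,0,2,0,1,0,1,0,2,0,1,0,2,0,2,0,2,0,1,0,1,0,1,0,2,0,1,0,1,0,1,0,1,0,1,0,2,0,1,0,2,0,1,0,1,0,1,0,2,0,1,0,2,0,1,0,1,0,1,0,2,0,1,0,2,0,1,0,1,0,1,0,2,0,1,0,2,0,1,0,1,0,1,0,2,0,1,0,1,0,2,0,1,0,2,0,2,0,2,0,1,0,1,0,1,0,2,0,1,0,1,0,1,0,1,0,1,0,2,0,1,0,1,0,2,0,1,0,2,0,2,0,2,0,1,0,1,0,1,0,2,0,1,0,1,0,1,0,1,0,1,0,2,0,1,0,1,0,2,0,1,0,1]),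
  (0,5,0,[]),
  (0,4,0,[]),
  (0,1,0,[]),
  (2,3,3,[0,2,0,2,0,2,0,2,0,2,0,1,0,1,0,1,0,2,0,2,0,1,0,1,0,1,0,1,0,1,0,1,0,2,0,1,0,1,0,2,0,1,0,2,0,2,0,2,0,1,0,1,0,1,0,2,0,1,0,1,0,1,0,1,0,1,0,2,0,1,0,2,0,1,0,1,0,1,0,2,0,1,0,2,0,1,0,1,0,1,0,2,0,1,0,2,0,1,0,1,0,1,0,2,0,1,0,2,0,1,0,1,0,1,0,2,0,1,0,2,0,1,0,1,0,1,0,2,0,1,0,2,0,1,0,1,0,1,0,2,0,1,0,2,0,1,0,1,0,1,0,2,0,1,0,1,0,2,0,1,0,2,0,2,0,2,0,1,0,1,0,1,0,2,0,1,0,1,0,1,0,1,0,1,0,2,0,1,0,2,0,1,0,1,0,1,0,2,0,1,0,1,0,2,0,1,0,2,0,2,0,2,0,1,0,1,0,1,0,1,0,1,0,1,0,2,0,1,0,2,0,1,0,2,0,1,0]),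
  (0,6,0,[]),
  (0,5,0,[]),
  (2,2,3,[0,2,0,2,0,2,0,2,0,2,0,1,0,1,0,1,0,2,0,2,0,2,0,2,0,2,0,2,0,1,0,1,0,1,0,2,0,1,0,1,0,1,0,1,0,1,0,2,0,1,0,1,0,2,0,1,0,2,0,2,0,2,0,1,0,1,0,1,0,2,0,1,0,1,0,1,0,1,0,1,0,2,0,1,0,2,0,1,0,1,0,1,0,2,0,1,0,2,0,1,0,1,0,1,0,2,0,1,0,2,0,1,0,1,0,1,0,2,0,1,0,2,0,1,0,1,0,1,0,2,0,1,0,1,0,2,0,1,0,2,0,2,0,2,0,1,0,1,0,1,0,1,0,1,0,1,0,2,0,1,0,2,0,1,0,2,0,1,0]),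
  (0,5,0,[]),
  (0,4,0,[]),
  (2,5,4,[2,0,1,0,1,0,2,0,1,0,1,0,1,0,1,0,2,0,2,0,1,0,1,0,1,0,2,0,1,0,1,0,1,0,1,0,1,0,2,0,1,0,2,0,1,0,1,0,1,0,2,0,1,0,2,0,1,0,1,0,1,0,2,0,1,0,2,0,1,0,1,0,1,0,2,0,1,0,2,0,1,0,1,0,1,0,2,0,1,0,1,0,2,0,1,0,2,0,2,0,2,0,1,0,1,0,1,0,2,0,1,0,1,0,1,0,1,0,1,0,2,0,1,0,1,0,2,0,1,0,2,0,2,0,2,0,1,0,1,0,1,0,2,0,1,0,1,0,1,0,1,0,1,0,2,0,1,0,2,0,1,0,1,0,1,0,2,0,1,0,1,0,2,0,1,0,2,0,2,0,2,0,1,0,1,0,1,0,2,0,1,0,1,0,1,0,1,0,1,0,2,0,1,0,2,0,1,0,1,0,1,0,2,0,1,0,1,0,2,0,1,0,2,0,2,0,2,0,1,0,1,0,1]),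
  (2,4,3,[0,2,0,2,0,2,0,2,0,2,0,1,0,1,0,1,0,2,0,2,0,1,0,1,0,1,0,1,0,1,0,1,0,2,0,1,0,2,0,1,0,1,0,1,0,2,0,1,0,2,0,1,0,1,0,1,0,2,0,1,0,1,0,2,0,1,0,2,0,2,0,2,0,1,0,1,0,1,0,2,0,1,0,1,0,1,0,1,0,1,0,2,0,1,0,2,0,1,0,1,0,1,0,2,0,1,0,2,0,1,0,1,0,1,0,2,0,1,0,2,0,1,0,1,0,1,0,2,0,1,0,1,0,2,0,1,0,2,0,2,0,2,0,1,0,1,0,1,0,2,0,1,0,1,0,1,0,1,0,1,0,2,0,1,0,2,0,1,0,1,0,1,0,2,0,1,0,1,0,2,0,1,0]),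
  (0,7,0,[]),
  (0,6,0,[]),
  (2,3,3,[0,2,0,2,0,2,0,2,0,2,0,1,0,1,0,1,0,2,0,2,0,1,0,1,0,1,0,1,0,1,0,1,0,2,0,1,0,1,0,2,0,1,0,2,0,2,0,2,0,1,0,1,0,1,0,2,0,1,0,1,0,1,0,1,0,1,0,2,0,1,0,2,0,1,0,1,0,1,0,2,0,1,0,1,0,2,0,1,0,2,0,2,0,2,0,1,0,1,0,1,0,2,0,1,0,1,0,1,0,1,0,1,0,2,0,1,0,1,0,2,0,1,0,2,0,2,0,2,0,1,0,1,0,1,0,2,0,1,0,1,0,1,0,1,0,1,0,2,0,1,0,1,0,2,0,1,0,2,0,2,0,2,0,1,0,1,0,1,0,2,0,1,0,1,0,1,0,1,0,1,0,2,0,1,0,2,0,1,0,1,0,1,0,2,0,1,0,2,0,1,0,1,0,1,0,2,0,1,0,2,0,1,0,1,0,1,0,2,0,1,0,1,0,2,0,1,0]),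
  (0,6,0,[]),
  (0,5,0,[]),
  (2,2,3,[0,2,0,2,0,2,0,2,0,2,0,1,0,1,0,1,0,2,0,2,0,2,0,2,0,2,0,2,0,1,0,1,0,1,0,2,0,1,0,1,0,1,0,1,0,1,0,2,0,1,0,1,0,2,0,1,0,2,0,2,0,2,0,1,0,1,0,1,0,2,0,1,0,1,0,1,0,1,0,1,0,2,0,1,0,1,0,2,0,1,0,2,0,2,0,2,0,1,0,1,0,1,0,2,0,1,0,1,0,1,0,1,0,1,0,2,0,1,0,1,0,2,0,1,0,2,0,2,0,2,0,1,0,1,0,1,0,2,0,1,0,1,0,1,0,1,0,1,0,2,0,1,0,1,0,2,0,1,0,2,0,2,0,2,0,1,0,1,0,1,0,2,0,1,0,1,0,1,0,1,0,1,0,2,0,1,0,2,0,1,0,1,0,1,0,2,0,1,0,2,0,1,0,1,0,1,0,2,0,1,0,2,0,1,0,1,0,1,0,2,0,1,0,1,0,2,0,1,0,2,0,2,0,2,0,1,0,1,0,1]),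
  (0,5,0,[]),
  (0,4,0,[]),
  (2,1,3,[0,2,0,2,0,2,0,2,0,2,0,1,0,1,0,1,0,2,0,2,0,2,0,2,0,2,0,2,0,1,0,1,0,1,0,2,0,1,0,1,0,1,0,1,0,1,0,2,0,1,0,1,0,2,0,1,0]),
  (0,4,0,[]),
  (0,3,0,[]),
  (0,0,0,[]),
  (2,3,3,[0,2,0,2,0,2,0,2,0,2,0,1,0,1,0,1,0,2,0,2,0,1,0,1,0,1,0,1,0,1,0,1,0,2,0,1,0,1,0,2,0,1,0,2,0,2,0,2,0,1,0,1,0,1,0,2,0,1,0,1,0,1,0,1,0,1,0,2,0,1,0,1,0,2,0,1,0,2,0,2,0,2,0,1,0,1,0,1,0,2,0,1,0,1,0,1,0,1,0,1,0,2,0,1,0,2,0,1,0,1,0,1,0,2,0,1,0,2,0,1,0,1,0,1,0,2,0,1,0,2,0,1,0,1,0,1,0,2,0,1,0,2,0,1,0,1,0,1,0,2,0,1,0,1,0,2,0,1,0,2,0,2,0,2,0,1,0,1,0,1,0,2,0,1,0,1,0,1,0,1,0,1,0,2,0,1,0,2,0,1,0,1,0,1,0,2,0,1,0,2,0,1,0,1,0,1,0,2,0,1,0,1,0,2,0,2,0,2]),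
  (0,6,0,[]),
  (0,5,0,[]),
  (0,2,0,[]),
  (2,2,2,[0,1,0,2,0,2,0,2,0,2,0,1,0,1,0,1,0,2,0,1,0,1,0,1,0,1,0,1,0,2,0,1,0,2,0,1,0,1,0,1,0,2,0,1,0,2,0,1,0,1,0,1,0,2,0,1,0,2,0,1,0,1,0,1,0,2,0,1,0,2,0,1,0,1,0,1,0,2,0,1,0,1,0,2,0,1,0,2,0,2,0,2,0,1,0,1,0,1,0,2,0,1,0,1,0,1,0,1,0,1,0,2,0,1,0,1,0,2,0,1,0,2,0,2,0,2,0,1,0,1,0,1,0,2,0,1,0,1,0,1,0,1,0,1,0,2,0,1,0,1,0,2,0,1,0,2,0,2,0,2,0,1,0,1,0,1,0,1,0,1,0,1,0,2,0,2,0,2,0,2,0,1,0,2,0,2,0,1,0,2]),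
  (0,5,0,[]),
  (0,4,0,[]),
  (2,4,4,[2,0,1,0,1,0,2,0,1,0,1,0,1,0,1,0,2,0,2,0,1,0,1,0,1,0,2,0,1,0,1,0,1,0,1,0,1,0,2,0,1,0,2,0,1,0,1,0,1,0,2,0,1,0,2,0,1,0,1,0,1,0,2,0,1,0,2,0,1,0,1,0,1,0,2,0,1,0,2,0,1,0,1,0,1,0,2,0,1,0,2,0,1,0,1,0,1,0,2,0,1,0,2,0,1,0,1,0,1,0,2,0,1,0,2,0,1,0,1,0,1,0,2,0,1,0,2,0,1,0,1,0,1,0,2,0,1,0,1,0,2,0,1,0,2,0,2,0,2,0,1,0,1,0,1,0,2,0,1,0,1,0,1,0,1,0,1,0,2,0,1,0,1,0,2,0,1,0,2,0,2,0,2,0,1,0,1,0,1,0,2,0,1,0,1,0,1,0,1,0,1,0,2,0,1,0,2,0,1,0,1,0,1,0,2,0,1,0,1,0,1,0,1]),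
  (2,3,3,[0,2,0,2,0,2,0,2,0,2,0,1,0,1,0,1,0,2,0,2,0,1,0,1,0,1,0,1,0,1,0,1,0,2,0,1,0,2,0,1,0,1,0,1,0,2,0,1,0,2,0,1,0,1,0,1,0,2,0,1,0,1,0,2,0,1,0,2,0,2,0,2,0,1,0,1,0,1,0,2,0,1,0,1,0,1,0,1,0,1,0,2,0,1,0,1,0,2,0,1,0,2,0,2,0,2,0,1,0,1,0,1,0,2,0,1,0,1,0,1,0,1,0,1,0,2,0,1,0,2,0,1,0,1,0,1,0,2,0,1,0,1,0,2,0,1,0,2,0,2,0,2,0,1,0,1,0,1,0,2,0,1,0,1,0,1,0,1,0,1,0,2,0,1,0,2,0,1,0,1,0,1,0,2,0,1,0,2,0,1,0,1,0,1,0,2,0,1,0,1,0,1,0,1]),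
  (0,6,0,[]),
  (0,5,0,[]),
  (2,2,3,[0,2,0,2,0,2,0,2,0,2,0,1,0,1,0,1,0,2,0,2,0,2,0,2,0,2,0,2,0,1,0,1,0,1,0,2,0,1,0,1,0,1,0,1,0,1,0,2,0,1,0,2,0,1,0,1,0,1,0,2,0,1,0,1,0,2,0,1,0,2,0,2,0,2,0,1,0,1,0,1,0,2,0,1,0,1,0,1,0,1,0,1,0,2,0,1,0,2,0,1,0,1,0,1,0,2,0,1,0,2,0,1,0,1,0,1,0,2,0,1,0,2,0,1,0,1,0,1,0,2,0,1,0,1,0,2,0,1,0,2,0,2,0,2,0,1,0,1,0,1,0,2,0,2,0,1]),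
  (0,5,0,[]),
  (0,4,0,[]),
  (2,1,3,[0,2,0,2,0,2,0,2,0,2,0,1,0,1,0,1,0,2,0,2,0,1,0,1,0,1,0,1,0,1,0,1,0,2,0,1,0,2,0,1,0,1,0,1,0,2,0,1,0,2,0,1,0,1,0,1,0,2,0,1,0,2,0,1,0,1,0,1,0,2,0,1,0,2,0,1,0,1,0,1,0,2,0,1,0,1,0,2,0,1,0,2,0,2,0,2,0,1,0,1,0,1,0,2,0,1,0,1,0,1,0,1,0,1,0,2,0,1,0,2,0,1,0,1,0,1,0,2,0,1,0,2,0,1,0,1,0,1,0,2,0,1,0,1,0,2,0,1,0,2,0,2,0,2,0,1,0,1,0,1,0,2,0,1,0,1,0,1,0,1,0,1,0,2,0,1,0,1,0,1,0,1]),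
  (0,4,0,[]),
  (0,3,0,[]),
  (2,0,3,[0,2,0,2,0,2,0,2,0,2,0,1,0,1,0,1,0,2,0,2,0,1,0,1,0,1,0,1,0,1,0,1,0,2,0,1,0,1,0,2,0,1,0,2,0,2,0,2,0,1,0,1,0,1,0,2,0,1,0,1,0,1,0,1,0,1,0,2,0,1,0,1,0,2,0,1,0,2,0,2,0,2,0,1,0,1,0,1,0,2,0,1,0,1,0,1,0,1,0,1,0,2,0,1,0,2,0,1,0,1,0,1,0,2,0,1,0,2,0,1,0,1,0,1,0,2,0,1,0,2,0,1,0,1,0,1,0,2,0,1,0,2,0,1,0,1,0,1,0,2,0,1,0,1,0,2,0,1,0,2,0,2,0,2,0,1,0,1,0,1,0,2,0,1,0,1,0,1,0,1,0,1,0,2,0,1,0,1,0,1,0,1]),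
  (0,3,0,[]),
  (0,2,0,[]),
  (2,4,3,[0,2,0,2,0,2,0,2,0,2,0,1,0,1,0,1,0,2,0,2,0,1,0,1,0,1,0,1,0,1,0,1,0,2,0,1,0,1,0,2,0,1,0,2,0,2,0,2,0,1,0,1,0,1,0,2,0,1,0,1,0,1,0,1,0,1,0,2,0,1,0,2,0,1,0,1,0,1,0,2,0,1,0,2,0,1,0,1,0,1,0,2,0,1,0,2,0,1,0,1,0,1,0,2,0,1,0,2,0,1,0,1,0,1,0,2,0,1,0,2,0,1,0,1,0,1,0,2,0,1,0,2,0,1,0,1,0,1,0,2,0,1,0,2,0,1,0,1,0,1,0,2,0,1,0,1,0,2,0,1,0,2,0,2,0,2,0,1,0,1,0,1,0,2,0,1,0,1,0,1,0,1,0,1,0,2,0,1,0,2,0,1,0,1,0,1,0,2,0,1,0,1,0,2,0,1,0,2,0,2,0,2,0,1,0,1,0,1,0,1,0,1,0,1,0,2,0,1,0,2,0,1,0,2,0,1,0]),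
  (0,7,0,[]),
  (0,6,0,[]),
  (2,3,3,[0,2,0,2,0,2,0,2,0,2,0,1,0,1,0,1,0,2,0,2,0,1,0,1,0,1,0,1,0,1,0,1,0,2,0,1,0,1,0,2,0,1,0,2,0,2,0,2,0,1,0,1,0,1,0,2,0,1,0,1,0,1,0,1,0,1,0,2,0,1,0,2,0,1,0,1,0,1,0,2,0,1,0,2,0,1,0,1,0,1,0,2,0,1,0,1,0,2,0,1,0,2,0,2,0,2,0,1,0,1,0,1,0,2,0,1,0,1,0,1,0,1,0,1,0,2,0,1,0,2,0,1,0,1,0,1,0,2,0,1,0,1,0,2,0,1,0,2,0,2,0,2,0,1,0,1,0,1,0,2,0,1,0,1,0,1,0,1,0,1,0,2,0,1,0,1,0,2,0,1,0,2,0,2,0,2,0,1,0,1,0,1,0,1,0,1,0,1,0,2,0,1,0,2,0,1,0,2,0,1,0]),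
  (0,6,0,[]),
  (0,5,0,[]),
  (0,2,0,[]),
  (2,3,2,[0,1,0,2,0,2,0,2,0,2,0,1,0,1,0,1,0,2,0,1,0,1,0,1,0,1,0,1,0,2,0,1,0,2,0,1,0,1,0,1,0,2,0,1,0,2,0,1,0,1,0,1,0,2,0,1,0,2,0,1,0,1,0,1,0,2,0,1,0,2,0,1,0,1,0,1,0,2,0,1,0,1,0,2,0,1,0,2,0,2,0,2,0,1,0,1,0,1,0,2,0,1,0,1,0,1,0,1,0,1,0,2,0,1,0,1,0,2,0,1,0,2,0,2,0,2,0,1,0,1,0,1,0,2,0,1,0,1,0,1,0,1,0,1,0,2,0,1,0,1,0,2,0,1,0,2,0,2,0,2,0,1,0,1,0,1,0,1,0,1,0,1,0,2,0,2,0,2,0,2,0,1,0,2,0,2,0,1,0,2]),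
  (0,6,0,[]),
  (0,5,0,[]),
  (0,2,0,[]),
  (2,3,4,[2,0,1,0,1,0,2,0,1,0,1,0,1,0,1,0,2,0,2,0,1,0,1,0,1,0,2,0,1,0,1,0,1,0,1,0,1,0,2,0,1,0,1,0,2,0,1,0,2,0,2,0,2,0,1,0,1,0,1,0,2,0,1,0,1,0,1,0,1,0,1,0,2,0,1,0,2,0,1,0,1,0,1,0,2,0,1,0,1,0,2,0,1,0,2,0,2,0,2,0,1,0,1,0,1,0,2,0,1,0,1,0,1,0,1,0,1,0,2,0,1,0,1,0,2,0,1,0,2,0,2,0,2,0,1,0,1,0,1,0,2,0,2,0,1]),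
  (2,2,3,[0,2,0,2,0,2,0,2,0,2,0,1,0,1,0,1,0,2,0,2,0,1,0,1,0,1,0,1,0,1,0,1,0,2,0,1,0,2,0,1,0,1,0,1,0,2,0,1,0,2,0,1,0,1,0,1,0,2,0,1,0,1,0,2,0,1,0,2,0,2,0,2,0,1,0,1,0,1,0,2,0,1,0,1,0,1,0,1,0,1,0,2,0,1,0,1,0,2,0,1,0,2,0,2,0,2,0,1,0,1,0,1,0,2,0,1,0,1,0,1,0,1,0,1,0,2,0,1,0,2,0,1,0,1,0,1,0,2,0,1,0,1,0,2,0,1,0,2,0,2,0,2,0,1,0,1,0,1,0,2,0,1,0,1,0,1,0,1,0,1,0,2,0,1,0,2,0,1,0,1,0,1,0,2,0,1,0,2,0,1,0,1,0,1,0,2,0,1,0,1,0,1,0,1]),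
  (0,5,0,[]),
  (0,4,0,[]),
  (2,1,3,[0,2,0,2,0,2,0,2,0,2,0,1,0,1,0,1,0,2,0,2,0,1,0,1,0,1,0,1,0,1,0,1,0,2,0,1,0,1,0,2,0,1,0,2,0,2,0,2,0,1,0,1,0,1,0,2,0,1,0,1,0,1,0,1,0,1,0,2,0,1,0,1,0,2,0,1,0,2,0,2,0,2,0,1,0,1,0,1,0,2,0,1,0,1,0,1,0,1,0,1,0,2,0,1,0,2,0,1,0,1,0,1,0,2,0,1,0,2,0,1,0,1,0,1,0,2,0,1,0,2,0,1,0,1,0,1,0,2,0,1,0,2,0,1,0,1,0,1,0,2,0,1,0,1,0,2,0,1,0,2,0,2,0,2,0,1,0,1,0,1,0,2,0,1,0,1,0,1,0,1,0,1,0,2,0,1,0,1,0,1,0,1]),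
  (0,4,0,[]),
  (0,3,0,[]),
  (0,0,0,[]),
  (2,1,3,[0,2,0,2,0,2,0,2,0,2,0,1,0,1,0,1,0,2,0,2,0,2,0,2,0,2,0,2,0,1,0,1,0,1,0,2,0,1,0,1,0,1,0,1,0,1,0,2,0,1,0,2,0,1,0,1,0,1,0,2,0,1,0,2,0,1,0,1,0,1,0,2,0,1,0,2,0,1,0,1,0,1,0,2,0,1,0,1,0,2,0,1,0,2,0,2,0,2,0,1,0,1,0,1,0,2,0,1,0,1,0,1,0,1,0,1,0,2,0,1,0,2,0,1,0,1,0,1,0,2,0,1,0,2,0,1,0,1,0,1,0,2,0,1,0,2,0,1,0,1,0,1,0,2,0,1,0,2,0,1,0,1,0,1,0,2,0,1,0,2,0,1,0,1,0,1,0,2,0,1,0,2,0,1,0,1,0,1,0,2,0,1,0,2,0,1,0,1,0,1,0,2,0,1,0,1,0,2,0,2,0,1,0,1,0,2,0,2,0,2,0,2,0,1,0,2,0,2,0,1,0,2,0,2]),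
  (0,4,0,[]),
  (0,3,0,[]),
  (0,0,0,[]),
  (0,0,0,[])],
[
  (1,1,0,[0,1,0,2,0,1]),
  (1,2,0,[0,1,0,1,0]),
  (1,3,0,[0,2,0]),
  (1,4,0,[0,2]),
  (2,0,3,[0,2,0,2,0,2,0,2,0,2,0,1,0,1,0,1,0,2,0,2,0,1,0,1,0,1,0,1,0,1,0,1,0,2,0,1,0,2,0,1,0,1,0,1,0,2,0,1,0,2,0,1,0,1,0,1,0,2,0,1,0,2,0,1,0,1,0,1,0,2,0,1,0,2,0,1,0,1,0,1,0,2,0,1,0,1,0,2,0,1,0,2,0,2,0,2,0,1,0,1,0,1,0,2,0,1,0,1,0,1,0,1,0,1,0,2,0,1,0,2,0,1,0,1,0,1,0,2,0,1,0,2,0,1,0,1,0,1,0,2,0,1,0,2,0,1,0,1,0,1,0,2,0,1,0,2,0,1,0,1,0,1,0,2,0,1,0,2,0,1,0,1,0,1,0,2,0,1,0,2,0,1,0,1,0,1,0,2,0,1,0,1,0,2,0,1,0,2,0,2,0,2,0,1,0,1,0,2]),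
  (0,3,0,[]),
  (0,2,0,[]),
  (2,1,3,[0,2,0,2,0,2,0,2,0,2,0,1,0,1,0,1,0,2,0,2,0,2,0,2,0,2,0,2,0,1,0,1,0,1,0,2,0,1,0,1,0,1,0,1,0,1,0,2,0,1,0,1,0,2,0,1,0,2,0,2,0,2,0,1,0,1,0,1,0,2,0,1,0,1,0,1,0,1,0,1,0,2,0,1,0,1,0,2,0,1,0,2,0,2,0,2,0,1,0,1,0,1,0,2,0,1,0,1,0,1,0,1,0,1,0,2,0,1,0,1,0,2,0,1,0,2,0,2,0,2,0,1,0,1,0,1,0,2,0,1,0,1,0,1,0,1,0,1,0,2,0,1,0,2,0,1,0,1,0,1,0,2,0,1,0,2,0,1,0,1,0,1,0,2,0,1,0,2,0,1,0,1,0,1,0,2,0,1,0,1,0,2]),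
  (0,4,0,[]),
  (0,3,0,[]),
  (2,0,2,[0,1,0,1,0,1,0,1,0,1,0,1,0,1,0,2,0,1,0,2,0,1,0,1,0,1,0,2,0,1,0,2,0,1,0,1,0,1,0,2,0,1,0,1,0,2,0,1,0,2,0,2,0,2,0,1,0,1,0,1,0,2,0,1,0,1,0,1,0,1,0,1,0,2,0,1,0,1,0,2,0,1,0,2,0,2,0,2,0,1,0,1,0,1,0,2,0,1,0,1,0,1,0,1,0,1,0,2,0,1,0,2,0,1,0,1,0,1,0,2,0,1,0,2,0,1,0,1,0,1,0,2,0,1,0,1,0,2]),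
  (0,3,0,[]),
  (0,2,0,[]),
  (2,3,3,[0,2,0,2,0,2,0,2,0,2,0,1,0,1,0,1,0,2,0,2,0,1,0,1,0,1,0,1,0,1,0,1,0,2,0,1,0,1,0,2,0,1,0,2,0,2,0,2,0,1,0,1,0,1,0,2,0,1,0,1,0,1,0,1,0,1,0,2,0,1,0,1,0,2,0,1,0,2,0,2,0,2,0,1,0,1,0,1,0,2,0,1,0,1,0,1,0,1,0,1,0,2,0,1,0,2,0,1,0,1,0,1,0,2,0,1,0,2,0,1,0,1,0,1,0,2,0,1,0,2,0,1,0,1,0,1,0,2,0,1,0,1,0,2,0,1,0,2,0,2,0,2,0,1,0,1,0,1,0,2,0,1,0,1,0,1,0,1,0,1,0,2,0,1,0,2,0,1,0,1,0,1,0,2,0,1,0,2,0,1,0,1,0,1,0,2,0,1,0,2,0,1,0,1,0,1,0,2,0,1,0,1,0,2,0,2,0,1]),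
  (0,6,0,[]),
  (0,5,0,[]),
  (2,2,3,[0,2,0,2,0,2,0,2,0,2,0,1,0,1,0,1,0,2,0,2,0,2,0,2,0,2,0,2,0,1,0,1,0,1,0,2,0,1,0,1,0,1,0,1,0,1,0,2,0,1,0,1,0,2,0,1,0,2,0,2,0,2,0,1,0,1,0,1,0,2,0,1,0,1,0,1,0,1,0,1,0,2,0,1,0,1,0,2,0,1,0,2,0,2,0,2,0,1,0,1,0,1,0,2,0,1,0,1,0,1,0,1,0,1,0,2,0,1,0,1,0,2,0,1,0,2,0,2,0,2,0,1,0,1,0,1,0,2,0,1,0,1,0,1,0,1,0,1,0,2,0,1,0,2,0,1,0,1,0,1,0,2,0,1,0,2,0,1,0,1,0,1,0,2,0,1,0,2,0,1,0,1,0,1,0,2,0,1,0,1,0,2,0,2,0,1]),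
  (0,5,0,[]),
  (0,4,0,[]),
  (2,5,4,[2,0,1,0,1,0,2,0,1,0,1,0,1,0,1,0,2,0,2,0,1,0,1,0,1,0,2,0,1,0,1,0,1,0,1,0,1,0,2,0,1,0,2,0,1,0,1,0,1,0,2,0,1,0,2,0,1,0,1,0,1,0,2,0,1,0,2,0,1,0,1,0,1,0,2,0,1,0,2,0,1,0,1,0,1,0,2,0,1,0,2,0,1,0,1,0,1,0,2,0,1,0,1,0,2,0,1,0,2,0,2,0,2,0,1,0,1,0,1,0,2,0,1,0,1,0,1,0,1,0,1,0,2,0,1,0,2,0,1,0,1,0,1,0,2,0,1,0,2,0,1,0,1,0,1,0,2,0,1,0,1,0,2]),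
  (2,4,3,[0,2,0,2,0,2,0,2,0,2,0,1,0,1,0,1,0,2,0,2,0,1,0,1,0,1,0,1,0,1,0,1,0,2,0,1,0,1,0,2,0,1,0,2,0,2,0,2,0,1,0,1,0,1,0,2,0,1,0,1,0,1,0,1,0,1,0,2,0,1,0,1,0,2,0,1,0,2,0,2,0,2,0,1,0,1,0,1,0,2,0,1,0,1,0,1,0,1,0,1,0,2,0,1,0,2,0,1,0,1,0,1,0,2,0,1,0,2,0,1,0,1,0,1,0,2,0,1,0,2,0,1,0,1,0,1,0,2,0,1,0,2,0,1,0,1,0,1,0,2,0,1,0,1,0,2,0,1,0,2,0,2,0,2,0,1,0,1,0,1,0,2,0,1,0,1,0,1,0,1,0,1,0,2,0,1,0,2,0,1,0,1,0,1,0,2,0,1,0,2,0,1,0,1,0,1,0,2,0,1,0,1,0,2]),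
  (0,7,0,[]),
  (0,6,0,[]),
  (2,3,3,[0,2,0,2,0,2,0,2,0,2,0,1,0,1,0,1,0,2,0,2,0,2,0,2,0,2,0,2,0,1,0,1,0,1,0,2,0,1,0,1,0,1,0,1,0,1,0,2,0,1,0,1,0,2,0,1,0,2,0,2,0,2,0,1,0,1,0,1,0,2,0,1,0,1,0,1,0,1,0,1,0,2,0,1,0,1,0,2,0,1,0,2,0,2,0,2,0,1,0,1,0,1,0,2,0,1,0,1,0,1,0,1,0,1,0,2,0,1,0,1,0,2,0,1,0,2,0,2,0,2,0,1,0,1,0,1,0,2,0,1,0,1,0,1,0,1,0,1,0,2,0,1,0,2,0,1,0,1,0,1,0,2,0,1,0,2,0,1,0,1,0,1,0,2,0,1,0,2,0,1,0,1,0,1,0,2,0,1,0,1,0,2]),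
  (0,6,0,[]),
  (0,5,0,[]),
  (2,2,3,[0,2,0,2,0,2,0,2,0,2,0,1,0,1,0,1,0,2,0,2,0,1,0,1,0,1,0,1,0,1,0,1,0,2,0,1,0,1,0,2,0,1,0,2,0,2,0,2,0,1,0,1,0,1,0,2,0,1,0,1,0,1,0,1,0,1,0,2,0,1,0,2,0,1,0,1,0,1,0,2,0,1,0,2,0,1,0,1,0,1,0,2,0,1,0,2,0,1,0,1,0,1,0,2,0,1,0,1,0,2,0,1,0,2,0,2,0,2,0,1,0,1,0,1,0,2,0,1,0,1,0,1,0,1,0,1,0,2,0,1,0,2,0,1,0,1,0,1,0,2,0,1,0,2,0,1,0,1,0,1,0,2,0,1,0,2,0,1,0,1,0,1,0,2,0,1,0,2,0,1,0,1,0,1,0,2,0,1,0,1,0,2,0,1,0,2,0,2,0,2,0,1,0,1,0,1,0,2,0]),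
  (0,5,0,[]),
  (0,4,0,[]),
  (2,1,2,[0,1,0,1,0,1,0,1,0,1,0,1,0,1,0,2,0,1,0,2,0,1,0,1,0,1,0,2,0,1,0,2,0,1,0,1,0,1,0,2,0,1,0,1,0,2,0,1,0,2,0,2,0,2,0,1,0,1,0,1,0,2,0,1,0,1,0,1,0,1,0,1,0,2,0,1,0,1,0,2,0,1,0,2,0,2,0,2,0,1,0,1,0,1,0,2,0,1,0,1,0,1,0,1,0,1,0,2,0,1,0,2,0,1,0,1,0,1,0,2,0,1,0,2,0,1,0,1,0,1,0,2,0,1,0,1,0,2]),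
  (0,4,0,[]),
  (0,3,0,[]),
  (0,0,0,[]),
  (2,3,3,[0,2,0,2,0,2,0,2,0,2,0,1,0,1,0,1,0,2,0,2,0,1,0,1,0,1,0,1,0,1,0,1,0,2,0,1,0,1,0,2,0,1,0,2,0,2,0,2,0,1,0,1,0,1,0,2,0,1,0,1,0,1,0,1,0,1,0,2,0,1,0,1,0,2,0,1,0,2,0,2,0,2,0,1,0,1,0,1,0,2,0,1,0,1,0,1,0,1,0,1,0,2,0,1,0,2,0,1,0,1,0,1,0,2,0,1,0,2,0,1,0,1,0,1,0,2,0,1,0,2,0,1,0,1,0,1,0,2,0,1,0,1,0,2,0,1,0,2,0,2,0,2,0,1,0,1,0,1,0,2,0,1,0,1,0,1,0,1,0,1,0,2,0,1,0,2,0,1,0,1,0,1,0,2,0,1,0,2,0,1,0,1,0,1,0,2,0,1,0,2,0,1,0,1,0,1,0,2,0,1,0,1,0,2,0,2,0,1]),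
  (0,6,0,[]),
  (0,5,0,[]),
  (2,2,3,[0,2,0,2,0,2,0,2,0,2,0,1,0,1,0,1,0,2,0,2,0,2,0,2,0,2,0,2,0,1,0,1,0,1,0,2,0,1,0,1,0,1,0,1,0,1,0,2,0,1,0,1,0,2,0,1,0,2,0,2,0,2,0,1,0,1,0,1,0,2,0,1,0,1,0,1,0,1,0,1,0,2,0,1,0,1,0,2,0,1,0,2,0,2,0,2,0,1,0,1,0,1,0,2,0,1,0,1,0,1,0,1,0,1,0,2,0,1,0,1,0,2,0,1,0,2,0,2,0,2,0,1,0,1,0,1,0,2,0,1,0,1,0,1,0,1,0,1,0,2,0,1,0,2,0,1,0,1,0,1,0,2,0,1,0,2,0,1,0,1,0,1,0,2,0,1,0,2,0,1,0,1,0,1,0,2,0,1,0,1,0,2,0,2,0,1]),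
  (0,5,0,[]),
  (0,4,0,[]),
  (0,1,0,[]),
  (2,2,3,[0,2,0,2,0,2,0,2,0,2,0,1,0,1,0,1,0,2,0,2,0,2,0,2,0,2,0,2,0,1,0,1,0,1,0,2,0,1,0,1,0,1,0,1,0,1,0,2,0,1,0,2,0,1,0,1,0,1,0,2,0,1,0,2,0,1,0,1,0,1,0,2,0,1,0,2,0,1,0,1,0,1,0,2,0,1,0,2,0,1,0,1,0,1,0,2,0,1,0,1,0,2,0,1,0,2,0,2,0,2,0,1,0,1,0,1,0,2,0,1,0,1,0,1,0,1,0,1,0,2,0,1,0,2,0,1,0,1,0,1,0,2,0,1,0,2,0,1,0,1,0,1,0,2,0,1,0,1,0,2,0,1,0,2,0,2,0,2,0,1,0,1,0,1,0,1,0,1,0,1,0,2,0,1,0,1,0,2,0,2,0,1,0,2,0,2,0,1,0,2,0]),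
  (0,5,0,[]),
  (0,4,0,[]),
  (2,4,4,[2,0,1,0,1,0,2,0,1,0,1,0,1,0,2,0,2,0,1,0,1,0,1,0,1,0,1,0,2,0,1,0,2,0,1,0,1,0,1,0,2,0,1,0,2,0,1,0,1,0,1,0,2,0,1,0,1,0,2,0,1,0,2,0,2,0,2,0,1,0,1,0,1,0,2,0,1,0,1,0,1,0,1,0,1,0,2,0,1,0,2,0,1,0,1,0,1,0,2,0,1,0,2,0,1,0,1,0,1,0,2,0,1,0,1,0,2,0,1,0,2,0,2,0,2,0,1,0,1,0,1,0,2,0,1,0,1,0,1,0,1,0,1,0,2,0,1,0,2,0,1,0,1,0,1,0,2,0,1,0,2,0,1,0,1,0,1,0,2,0,1,0,1,0,2,0,1,0,2,0,2,0,2,0,1,0,1,0,1,0,2,0,1,0,1,0,1,0,1,0,1,0,2,0,1,0,1,0,2,0,1,0,2,0,2,0,2,0,1,0,1,0,2]),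
  (2,3,2,[0,1,0,1,0,1,0,1,0,1,0,1,0,1,0,2,0,1,0,2,0,1,0,1,0,1,0,2,0,1,0,1,0,2,0,1,0,2,0,2,0,2,0,1,0,1,0,1,0,2,0,1,0,1,0,1,0,1,0,1,0,2,0,1,0,1,0,2,0,1,0,2,0,2,0,2,0,1,0,1,0,1,0,2,0,1,0,1,0,1,0,1,0,1,0,2,0,1,0,2,0,1,0,1,0,1,0,2,0,1,0,2,0,1,0,1,0,1,0,2,0,1,0,2,0,1,0,1,0,1,0,2,0,1,0,1,0,2,0,1,0,2,0,2,0,2,0,1,0,1,0,2]),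
  (0,6,0,[]),
  (0,5,0,[]),
  (2,2,3,[0,2,0,2,0,2,0,2,0,2,0,1,0,1,0,1,0,2,0,2,0,1,0,1,0,1,0,1,0,1,0,1,0,2,0,1,0,2,0,1,0,1,0,1,0,2,0,1,0,1,0,2,0,1,0,2,0,2,0,2,0,1,0,1,0,1,0,2,0,1,0,1,0,1,0,1,0,1,0,2,0,1,0,2,0,1,0,1,0,1,0,2,0,1,0,1,0,2,0,1,0,2,0,2,0,2,0,1,0,1,0,1,0,2,0,1,0,1,0,1,0,1,0,1,0,2,0,1,0,2,0,1,0,1,0,1,0,2,0,1,0,1,0,2,0,1,0,2,0,2,0,2,0,1,0,1,0,1,0,2,0,1,0,1,0,1,0,1,0,1,0,2,0,1,0,2,0,1,0,1,0,1,0,2,0,1,0,2,0,1,0,1,0,1,0,2,0,1,0,2,0,1,0,1,0,1,0,2,0,1,0,1,0,2,0,1,0,1]),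
  (0,5,0,[]),
  (0,4,0,[]),
  (2,1,3,[0,2,0,2,0,2,0,2,0,2,0,1,0,1,0,1,0,2,0,2,0,1,0,1,0,1,0,1,0,1,0,1,0,2,0,1,0,2,0,1,0,1,0,1,0,2,0,1,0,2,0,1,0,1,0,1,0,2,0,1,0,2,0,1,0,1,0,1,0,2,0,1,0,2,0,1,0,1,0,1,0,2,0,1,0,1,0,2,0,1,0,2,0,2,0,2,0,1,0,1,0,1,0,2,0,1,0,1,0,1,0,1,0,1,0,2,0,1,0,2,0,1,0,1,0,1,0,2,0,1,0,2,0,1,0,1,0,1,0,2,0,1,0,2,0,1,0,1,0,1,0,2,0,1,0,2,0,1,0,1,0,1,0,2,0,1,0,2,0,1,0,1,0,1,0,2,0,1,0,2,0,1,0,1,0,1,0,2,0,1,0,1,0,2,0,1,0,2,0,2,0,2,0,1,0,1,0,2]),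
  (0,4,0,[]),
  (0,3,0,[]),
  (0,0,0,[]),
  (2,2,3,[0,2,0,2,0,2,0,2,0,2,0,1,0,1,0,1,0,2,0,2,0,2,0,2,0,2,0,2,0,1,0,1,0,1,0,2,0,1,0,1,0,1,0,1,0,1,0,2,0,1,0,1,0,2,0,1,0,2,0,2,0,2,0,1,0,1,0,1,0,2,0,1,0,1,0,1,0,1,0,1,0,2,0,1,0,2,0,1,0,1,0,1,0,2,0,1,0,2,0,1,0,1,0,1,0,2,0,1,0,1,0,2,0,1,0,2,0,2,0,2,0,1,0,1,0,1,0,2,0,1,0,1,0,1,0,1,0,1,0,2,0,1,0,1,0,2,0,1,0,2,0,2,0,2,0,1,0,1,0,1,0,2,0,1,0,1,0,1,0,1,0,1,0,2,0,1,0,2,0,1,0,1,0,1,0,2,0,1,0,1,0,2,0,1,0,2,0,2,0,2,0,1,0,1,0,1,0,2,0,1,0,1,0,1,0,1,0,1,0,2,0,1,0,1,0,1,0,1,0,1]),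
  (0,5,0,[]),
  (0,4,0,[]),
  (2,1,3,[0,2,0,2,0,2,0,2,0,2,0,1,0,1,0,1,0,2,0,2,0,1,0,1,0,1,0,1,0,1,0,1,0,2,0,1,0,1,0,2,0,1,0,2,0,2,0,2,0,1,0,1,0,1,0,2,0,1,0,1,0,1,0,1,0,1,0,2,0,1,0,1,0,2,0,1,0,2,0,2,0,2,0,1,0,1,0,1,0,2,0,1,0,1,0,1,0,1,0,1,0,2,0,1,0,2,0,1,0,1,0,1,0,2,0,1,0,2,0,1,0,1,0,1,0,2,0,1,0,2,0,1,0,1,0,1,0,2,0,1,0,2,0,1,0,1,0,1,0,2,0,1,0,1,0,2,0,1,0,2,0,2,0,2,0,1,0,1,0,1,0,2,0,1,0,1,0,1,0,1,0,1,0,2,0,1,0,1,0,1,0,1,0,1]),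
  (0,4,0,[]),
  (0,3,0,[]),
  (2,0,3,[0,2,0,2,0,2,0,2,0,2,0,1,0,1,0,1,0,2,0,2,0,1,0,1,0,1,0,1,0,1,0,1,0,2,0,1,0,2,0,1,0,1,0,1,0,2,0,1,0,2,0,1,0,1,0,1,0,2,0,1,0,1,0,2,0,1,0,2,0,2,0,2,0,1,0,1,0,1,0,2,0,1,0,1,0,1,0,1,0,1,0,2,0,1,0,2,0,1,0,1,0,1,0,2,0,1,0,2,0,1,0,1,0,1,0,2,0,1,0,2,0,1,0,1,0,1,0,2,0,1,0,1,0,2,0,1,0,2,0,2,0,2,0,1,0,1,0,1,0,2,0,1,0,1,0,1,0,1,0,1,0,2,0,1,0,2,0,1,0,1,0,1,0,2,0,1,0,1,0,1,0,1,0,1]),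
  (0,3,0,[]),
  (0,2,0,[]),
  (2,3,3,[0,2,0,2,0,2,0,2,0,2,0,1,0,1,0,1,0,2,0,2,0,2,0,2,0,2,0,2,0,1,0,1,0,1,0,2,0,1,0,1,0,1,0,1,0,1,0,2,0,1,0,2,0,1,0,1,0,1,0,2,0,1,0,2,0,1,0,1,0,1,0,2,0,1,0,2,0,1,0,1,0,1,0,2,0,1,0,2,0,1,0,1,0,1,0,2,0,1,0,1,0,2,0,1,0,2,0,2,0,2,0,1,0,1,0,1,0,2,0,1,0,1,0,1,0,1,0,1,0,2,0,1,0,2,0,1,0,1,0,1,0,2,0,1,0,2,0,1,0,1,0,1,0,2,0,1,0,1,0,2,0,1,0,2,0,2,0,2,0,1,0,1,0,1,0,1,0,1,0,1,0,2,0,1,0,1,0,2,0,2,0,1,0,2,0,2,0,1,0,2,0]),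
  (0,6,0,[]),
  (0,5,0,[]),
  (0,2,0,[]),
  (2,3,4,[2,0,1,0,1,0,2,0,1,0,1,0,1,0,2,0,2,0,1,0,1,0,1,0,1,0,1,0,2,0,1,0,1,0,2,0,1,0,2,0,2,0,2,0,1,0,1,0,1,0,2,0,1,0,1,0,1,0,1,0,1,0,2,0,1,0,2,0,1,0,1,0,1,0,2,0,1,0,1,0,2,0,1,0,2,0,2,0,2,0,1,0,1,0,1,0,2,0,1,0,1,0,1,0,1,0,1,0,2,0,1,0,2,0,1,0,1,0,1,0,2,0,1,0,1,0,2,0,1,0,2,0,2,0,2,0,1,0,1,0,1,0,2,0,1,0,1,0,1,0,1,0,1,0,2,0,1,0,2,0,1,0,1,0,1,0,2,0,1,0,2,0,1,0,1,0,1,0,2,0,1,0,2,0,1,0,1,0,1,0,2,0,1,0,2,0,1,0,1,0,1,0,2,0,1,0,1,0,2,0,1,0,2,0,2,0,2,0,1,0,1,0,1,0,2,0,2,0,1,0,1]),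
  (2,2,3,[0,2,0,2,0,2,0,2,0,2,0,1,0,1,0,1,0,2,0,2,0,2,0,2,0,2,0,2,0,1,0,1,0,1,0,2,0,1,0,1,0,1,0,1,0,1,0,2,0,1,0,1,0,2,0,1,0,2,0,2,0,2,0,1,0,1,0,1,0,2,0,1,0,1,0,1,0,1,0,1,0,2,0,1,0,2,0,1,0,1,0,1,0,2,0,1,0,2,0,1,0,1,0,1,0,2,0,1,0,1,0,2,0,1,0,2,0,2,0,2,0,1,0,1,0,1,0,2,0,1,0,1,0,1,0,1,0,1,0,2,0,1,0,1,0,2,0,1,0,2,0,2,0,2,0,1,0,1,0,1,0,2,0,1,0,1,0,1,0,1,0,1,0,2,0,1,0,2,0,1,0,1,0,1,0,2,0,1,0,1,0,2,0,1,0,2,0,2,0,2,0,1,0,1,0,1,0,2,0,1,0,1,0,1,0,1,0,1,0,2,0,1,0,1,0,1,0,1,0,1]),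
  (0,5,0,[]),
  (0,4,0,[]),
  (2,1,3,[0,2,0,2,0,2,0,2,0,2,0,1,0,1,0,1,0,2,0,2,0,1,0,1,0,1,0,1,0,1,0,1,0,2,0,1,0,2,0,1,0,1,0,1,0,2,0,1,0,2,0,1,0,1,0,1,0,2,0,1,0,1,0,2,0,1,0,2,0,2,0,2,0,1,0,1,0,1,0,2,0,1,0,1,0,1,0,1,0,1,0,2,0,1,0,2,0,1,0,1,0,1,0,2,0,1,0,2,0,1,0,1,0,1,0,2,0,1,0,2,0,1,0,1,0,1,0,2,0,1,0,1,0,2,0,1,0,2,0,2,0,2,0,1,0,1,0,1,0,2,0,1,0,1,0,1,0,1,0,1,0,2,0,1,0,2,0,1,0,1,0,1,0,2,0,1,0,1,0,1,0,1,0,1]),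
  (0,4,0,[]),
  (0,3,0,[]),
  (0,0,0,[]),
  (2,1,3,[0,2,0,2,0,2,0,2,0,2,0,1,0,1,0,1,0,2,0,2,0,1,0,1,0,1,0,1,0,1,0,1,0,2,0,1,0,2,0,1,0,1,0,1,0,2,0,1,0,2,0,1,0,1,0,1,0,2,0,1,0,2,0,1,0,1,0,1,0,2,0,1,0,2,0,1,0,1,0,1,0,2,0,1,0,2,0,1,0,1,0,1,0,2,0,1,0,2,0,1,0,1,0,1,0,2,0,1,0,2,0,1,0,1,0,1,0,2,0,1,0,1,0,2,0,1,0,2,0,2,0,2,0,1,0,1,0,1,0,2,0,1,0,1,0,1,0,1,0,1,0,2,0,1,0,1,0,2,0,1,0,2,0,2,0,2,0,1,0,1,0,1,0,2,0,1,0,1,0,1,0,1,0,1,0,2,0,1,0,2,0,1,0,1,0,1,0,2,0,1,0,1,0,2,0,1,0,2,0,2,0,2,0,1,0,1,0,1,0,2,0,1,0,1,0,1,0,1,0,1,0,2,0,1,0,1,0,2,0,1,0,2,0,2,0,2]),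
  (0,4,0,[]),
  (0,3,0,[]),
  (0,0,0,[]),
  (0,0,0,[])],
[
  (1,1,0,[0,1,0,2,0]),
  (1,2,0,[0,1,0,2]),
  (1,3,0,[0,2,0]),
  (1,4,0,[0,2]),
  (2,0,3,[0,2,0,2,0,2,0,2,0,2,0,1,0,1,0,1,0,2,0,2,0,2,0,2,0,2,0,2,0,1,0,1,0,1,0,2,0,1,0,1,0,1,0,1,0,1,0,2,0,1,0,2,0,1,0,1,0,1,0,2,0,1,0,2,0,1,0,1,0,1,0,2,0,1,0,1,0,2,0,1,0,2,0,2,0,2,0,1,0,1,0,1,0,2,0,1,0,1,0,1,0,1,0,1,0,2,0,1,0,2,0,1,0,1,0,1,0,2,0,1,0,1,0,2,0,1,0,2,0,2,0,2,0,1,0,1,0,1,0,2,0,1,0,1,0,1,0,1,0,1,0,2,0,1,0,2,0,1,0,1,0,1,0,2,0,1,0,2,0,1,0,1,0,1,0,2,0,1,0,1,0,2,0,1,0,2,0,2,0,2,0,1,0,1,0,1,0,2,0,1,0,1,0,1,0,1,0,1,0,2,0,1,0,1,0,2,0,1,0,2,0,2,0,2,0,1,0,1,0,1]),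
  (0,3,0,[]),
  (0,2,0,[]),
  (2,2,2,[0,1,0,1,0,1,0,1,0,1,0,1,0,1,0,2,0,1,0,2,0,1,0,1,0,1,0,2,0,1,0,2,0,1,0,1,0,1,0,2,0,1,0,1,0,2,0,1,0,2,0,2,0,2,0,1,0,1,0,1,0,2,0,1,0,1,0,1,0,1,0,1,0,2,0,1,0,1,0,2,0,1,0,2,0,2,0,2,0,1,0,1,0,1,0,1,0,1,0]),
  (0,5,0,[]),
  (0,4,0,[]),
  (2,3,3,[0,2,0,2,0,2,0,2,0,2,0,1,0,1,0,1,0,2,0,2,0,1,0,1,0,1,0,1,0,1,0,1,0,2,0,1,0,2,0,1,0,1,0,1,0,2,0,1,0,2,0,1,0,1,0,1,0,2,0,1,0,1,0,2,0,1,0,2,0,2,0,2,0,1,0,1,0,1,0,2,0,1,0,1,0,1,0,1,0,1,0,2,0,1,0,1,0,2,0,1,0,2,0,2,0,2,0,1,0,1,0,1,0,2,0,1,0,1,0,1,0,1,0,1,0,2,0,1,0,2,0,1,0,1,0,1,0,2,0,1,0,2,0,1,0,1,0,1,0,2,0,1,0,2,0,1,0,1,0,1,0,2,0,1,0,2,0,1,0,1,0,1,0,2,0,1,0,2,0,1,0,1,0,1,0,2,0,1,0,1,0,2,0,2,0,1]),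
  (0,6,0,[]),
  (0,5,0,[]),
  (2,2,3,[0,2,0,2,0,2,0,2,0,2,0,1,0,1,0,1,0,2,0,2,0,1,0,1,0,1,0,1,0,1,0,1,0,2,0,1,0,1,0,2,0,1,0,2,0,2,0,2,0,1,0,1,0,1,0,2,0,1,0,1,0,1,0,1,0,1,0,2,0,1,0,1,0,2,0,1,0,2,0,2,0,2,0,1,0,1,0,1,0,2,0,1,0,1,0,1,0,1,0,1,0,2,0,1,0,2,0,1,0,1,0,1,0,2,0,1,0,2,0,1,0,1,0,1,0,2,0,1,0,2,0,1,0,1,0,1,0,2,0,1,0,1,0,2,0,1,0,2,0,2,0,2,0,1,0,1,0,1,0,2,0,1,0,1,0,1,0,1,0,1,0,2,0,1,0,2,0,1,0,1,0,1,0,2,0,1,0,2,0,1,0,1,0,1,0,2,0,1,0,2,0,1,0,1,0,1,0,2,0,1,0,1,0,2,0,2,0,1]),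
  (0,5,0,[]),
  (0,4,0,[]),
  (2,5,4,[2,0,1,0,1,0,2,0,1,0,1,0,1,0,1,0,2,0,2,0,1,0,1,0,1,0,2,0,1,0,1,0,1,0,1,0,1,0,2,0,1,0,2,0,1,0,1,0,1,0,2,0,1,0,1,0,2,0,1,0,2,0,2,0,2,0,1,0,1,0,1,0,2,0,1,0,1,0,1,0,1,0,1,0,2,0,1,0,2,0,1,0,1,0,1,0,2,0,1,0,2,0,1,0,1,0,1,0,2,0,1,0,1,0,2,0,1,0,2,0,2,0,2,0,1,0,1,0,1,0,2,0,1,0,1,0,1,0,1,0,1,0,2,0,1,0,2,0,1,0,1,0,1,0,2,0,1,0,1,0,2,0,1,0,2,0,2,0,2,0,1,0,1,0,1]),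
  (2,4,3,[0,2,0,2,0,2,0,2,0,2,0,1,0,1,0,1,0,2,0,2,0,1,0,1,0,1,0,1,0,1,0,1,0,2,0,1,0,2,0,1,0,1,0,1,0,2,0,1,0,2,0,1,0,1,0,1,0,2,0,1,0,1,0,2,0,1,0,2,0,2,0,2,0,1,0,1,0,1,0,2,0,1,0,1,0,1,0,1,0,1,0,2,0,1,0,2,0,1,0,1,0,1,0,2,0,1,0,2,0,1,0,1,0,1,0,2,0,1,0,2,0,1,0,1,0,1,0,2,0,1,0,1,0,2,0,1,0,2,0,2,0,2,0,1,0,1,0,1,0,2,0,1,0,1,0,1,0,1,0,1,0,2,0,1,0,2,0,1,0,1,0,1,0,2,0,1,0,1,0,2,0,1,0]),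
  (0,7,0,[]),
  (0,6,0,[]),
  (2,3,3,[0,2,0,2,0,2,0,2,0,2,0,1,0,1,0,1,0,2,0,2,0,1,0,1,0,1,0,1,0,1,0,1,0,2,0,1,0,2,0,1,0,1,0,1,0,2,0,1,0,1,0,2,0,1,0,2,0,2,0,2,0,1,0,1,0,1,0,2,0,1,0,1,0,1,0,1,0,1,0,2,0,1,0,1,0,2,0,1,0,2,0,2,0,2,0,1,0,1,0,1,0,2,0,1,0,1,0,1,0,1,0,1,0,2,0,1,0,1,0,2,0,1,0,2,0,2,0,2,0,1,0,1,0,1]),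
  (0,6,0,[]),
  (0,5,0,[]),
  (2,2,2,[0,1,0,2,0,2,0,2,0,2,0,1,0,1,0,1,0,2,0,1,0,1,0,1,0,1,0,1,0,2,0,1,0,1,0,2,0,1,0,2,0,2,0,2,0,1,0,1,0,1,0,2,0,1,0,1,0,1,0,1,0,1,0,2,0,1,0,2,0,1,0,1,0,1,0,2,0,1,0,2,0,1,0,1,0,1,0,2,0,1,0,2,0,1,0,1,0,1,0,2,0,1,0,1,0,2,0,1,0]),
  (0,5,0,[]),
  (0,4,0,[]),
  (2,1,3,[0,2,0,2,0,2,0,2,0,2,0,1,0,1,0,1,0,2,0,2,0,2,0,2,0,2,0,2,0,1,0,1,0,1,0,2,0,1,0,1,0,1,0,1,0,1,0,2,0,1,0,2,0,1,0,1,0,1,0,2,0,1,0,2,0,1,0,1,0,1,0,2,0,1,0,1,0,2,0,1,0,2,0,2,0,2,0,1,0,1,0,1,0,2,0,1,0,1,0,1,0,1,0,1,0,2,0,1,0,2,0,1,0,1,0,1,0,2,0,1,0,1,0,2,0,1,0,2,0,2,0,2,0,1,0,1,0,1,0,2,0,1,0,1,0,1,0,1,0,1,0,2,0,1,0,2,0,1,0,1,0,1,0,2,0,1,0,2,0,1,0,1,0,1,0,2,0,1,0,1,0,2,0,1,0,2,0,2,0,2,0,1,0,1,0,1,0,2,0,1,0,1,0,1,0,1,0,1,0,2,0,1,0,1,0,2,0,1,0,2,0,2,0,2,0,1,0,1,0,1]),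
  (0,4,0,[]),
  (0,3,0,[]),
  (0,0,0,[]),
  (2,3,3,[0,2,0,2,0,2,0,2,0,2,0,1,0,1,0,1,0,2,0,2,0,1,0,1,0,1,0,1,0,1,0,1,0,2,0,1,0,1,0,2,0,1,0,2,0,2,0,2,0,1,0,1,0,1,0,2,0,1,0,1,0,1,0,1,0,1,0,2,0,1,0,2,0,1,0,1,0,1,0,2,0,1,0,1,0,2,0,1,0,2,0,2,0,2,0,1,0,1,0,1,0,2,0,1,0,1,0,1,0,1,0,1,0,2,0,1,0,2,0,1,0,1,0,1,0,2,0,1,0,2,0,1,0,1,0,1,0,2,0,1,0,2,0,1,0,1,0,1,0,2,0,1,0,2,0,1,0,1,0,1,0,2,0,1,0,2,0,1,0,1,0,1,0,2,0,1,0,2,0,1,0,1,0,1,0,2,0,1,0,1,0,2,0,1,0,2,0,2,0,2,0,1,0,1,0,1,0,2,0,1,0,1,0,1,0,1,0,2,0,2]),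
  (0,6,0,[]),
  (0,5,0,[]),
  (2,2,3,[0,2,0,2,0,2,0,2,0,2,0,1,0,1,0,1,0,2,0,2,0,2,0,2,0,2,0,2,0,1,0,1,0,1,0,2,0,1,0,1,0,1,0,1,0,1,0,2,0,1,0,2,0,1,0,1,0,1,0,2,0,1,0,2,0,1,0,1,0,1,0,2,0,1,0,2,0,1,0,1,0,1,0,2,0,1,0,2,0,1,0,1,0,1,0,2,0,1,0,2,0,1,0,1,0,1,0,2,0,1,0,2,0,1,0,1,0,1,0,2,0,1,0,2,0,1,0,1,0,1,0,2,0,1,0,1,0,2,0,1,0,2,0,2,0,2,0,1,0,1,0,1,0,2,0,1,0,1,0,1,0,1,0,1,0,2,0,1,0,2,0,1,0,1,0,1,0,2,0,1,0,2,0,1,0,1,0,1,0,2,0,1,0,1,0,2,0,1,0,2,0,2,0,2,0,1,0,1,0,1,0,2,0,1,0,1,0,1,0,1,0,1,0,2,0,1,0,2,0,1,0,1,0,2,0,2]),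
  (0,5,0,[]),
  (0,4,0,[]),
  (2,1,3,[0,2,0,2,0,2,0,2,0,2,0,1,0,1,0,1,0,2,0,2,0,1,0,1,0,1,0,1,0,1,0,1,0,2,0,1,0,2,0,1,0,1,0,1,0,2,0,1,0,2,0,1,0,1,0,1,0,2,0,1,0,2,0,1,0,1,0,1,0,2,0,1,0,2,0,1,0,1,0,1,0,2,0,1,0,2,0,1,0,1,0,1,0,2,0,1,0,2,0,1,0,1,0,1,0,2,0,1,0,2,0,1,0,1,0,1,0,2,0,1,0,2,0,1,0,1,0,1,0,2,0,1,0,2,0,1,0,1,0,1,0,2,0,1,0,1,0,2,0,1,0,2,0,2,0,2,0,1,0,1,0,1,0,2,0,1,0,1,0,1,0,1,0,1,0,2,0,1,0,1,0,2,0,1,0,2,0,2,0,2,0,1,0,1,0,1,0,2,0,1,0,1,0,1,0,1,0,2,0,2]),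
  (0,4,0,[]),
  (0,3,0,[]),
  (0,0,0,[]),
  (2,2,3,[0,2,0,2,0,2,0,2,0,2,0,1,0,1,0,1,0,2,0,2,0,2,0,2,0,2,0,2,0,1,0,1,0,1,0,2,0,1,0,1,0,1,0,1,0,1,0,2,0,1,0,2,0,1,0,1,0,1,0,2,0,1,0,1,0,2,0,1,0,2,0,2,0,2,0,1,0,1,0,1,0,2,0,1,0,1,0,1,0,1,0,1,0,2,0,1,0,1,0,2,0,1,0,2,0,2,0,2,0,1,0,1,0,1,0,2,0,1,0,1,0,1,0,1,0,1,0,2,0,1,0,1,0,2,0,1,0,2,0,2,0,2,0,1,0,1,0,1,0,2,0,1,0,1,0,1,0,1,0,1,0,2,0,1,0,2,0,1,0,1,0,1,0,2,0,1,0,1,0,2,0,1,0,2,0,2,0,2,0,1,0,1,0,1,0,2,0,1,0,1,0,1,0,1,0,1,0,2,0,1,0,2,0,1,0,1,0,1,0,2,0,1,0,1,0,2,0,1,0,1,0,1,0,1,0,1,0,1,0,1,0,2,0,1,0,2]),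
  (0,5,0,[]),
  (0,4,0,[]),
  (2,1,3,[0,2,0,2,0,2,0,2,0,2,0,1,0,1,0,1,0,2,0,2,0,2,0,2,0,2,0,2,0,1,0,1,0,1,0,2,0,1,0,1,0,1,0,1,0,1,0,2,0,1,0,2,0,1,0,1,0,1,0,2,0,1,0,2,0,1,0,1,0,1,0,2,0,1,0,2,0,1,0,1,0,1,0,2,0,1,0,1,0,2,0,1,0,2,0,2,0,2,0,1,0,1,0,1,0,2,0,1,0,1,0,1,0,1,0,1,0,2,0,1,0,2,0,1,0,1,0,1,0,2,0,1,0,2,0,1,0,1,0,1,0,2,0,1,0,2,0,1,0,1,0,1,0,2,0,1,0,2,0,1,0,1,0,1,0,2,0,1,0,2,0,1,0,1,0,1,0,2,0,1,0,1,0,2,0,1,0,1,0,1,0,1,0,1,0,1,0,1,0,2,0,1,0,2]),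
  (0,4,0,[]),
  (0,3,0,[]),
  (2,0,2,[0,1,0,1,0,1,0,1,0,1,0,1,0,1,0,2,0,1,0,2,0,1,0,1,0,1,0,2,0,1,0,2,0,1,0,1,0,1,0,2,0,1,0,1,0,2,0,1,0,2,0,2,0,2,0,1,0,1,0,1,0,2,0,1,0,1,0,1,0,1,0,1,0,2,0,1,0,1,0,2,0,1,0,2,0,2,0,2,0,1,0,1,0,2,0,1,0,1,0,1,0,1,0,1,0,2,0,1,0,2]),
  (0,3,0,[]),
  (0,2,0,[]),
  (2,4,4,[2,0,1,0,1,0,2,0,1,0,1,0,1,0,2,0,2,0,1,0,1,0,1,0,1,0,1,0,2,0,1,0,2,0,1,0,1,0,1,0,2,0,1,0,2,0,1,0,1,0,1,0,2,0,1,0,2,0,1,0,1,0,1,0,2,0,1,0,1,0,2,0,1,0,2,0,2,0,2,0,1,0,1,0,1,0,2,0,1,0,1,0,1,0,1,0,1,0,2,0,1,0,1,0,2,0,1,0,2,0,2,0,2,0,1,0,1,0,1,0,2,0,1,0,1,0,1,0,1,0,1,0,2,0,1,0,2,0,1,0,1,0,1,0,2,0,1,0,2,0,1,0,1,0,1,0,2,0,1,0,2,0,1,0,1,0,1,0,2,0,1,0,1,0,2,0,1,0,2,0,2,0,2,0,1,0,1,0,1,0,2,0,1,0,1,0,1,0,1,0,1,0,2,0,1,0,1,0,2,0,1,0,2,0,2,0,2,0,1,0,1,0,1,0,2,0,1,0,1,0,1,0,1,0,1,0,2,0,1,0,1,0,2,0,1,0,2,0,2,0,2,0,1,0,1,0,2,0,1,0,1,0,1,0,1,0,1,0,2,0,1,0,2]),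
  (2,3,3,[0,2,0,2,0,2,0,2,0,2,0,1,0,1,0,1,0,2,0,2,0,2,0,2,0,2,0,2,0,1,0,1,0,1,0,2,0,1,0,1,0,1,0,1,0,1,0,2,0,1,0,2,0,1,0,1,0,1,0,2,0,1,0,1,0,2,0,1,0,2,0,2,0,2,0,1,0,1,0,1,0,2,0,1,0,1,0,1,0,1,0,1,0,2,0,1,0,1,0,2,0,1,0,2,0,2,0,2,0,1,0,1,0,1,0,2,0,1,0,1,0,1,0,1,0,1,0,2,0,1,0,1,0,2,0,1,0,2,0,2,0,2,0,1,0,1,0,1,0,2,0,1,0,1,0,1,0,1,0,1,0,2,0,1,0,2,0,1,0,1,0,1,0,2,0,1,0,1,0,2,0,1,0,2,0,2,0,2,0,1,0,1,0,1,0,2,0,1,0,1,0,1,0,1,0,1,0,2,0,1,0,2,0,1,0,1,0,1,0,2,0,1,0,1,0,2,0,1,0,1,0,1,0,1,0,1,0,1,0,1,0,2,0,1,0,2]),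
  (0,6,0,[]),
  (0,5,0,[]),
  (2,2,3,[0,2,0,2,0,2,0,2,0,2,0,1,0,1,0,1,0,2,0,2,0,2,0,2,0,2,0,2,0,1,0,1,0,1,0,2,0,1,0,1,0,1,0,1,0,1,0,2,0,1,0,2,0,1,0,1,0,1,0,2,0,1,0,2,0,1,0,1,0,1,0,2,0,1,0,2,0,1,0,1,0,1,0,2,0,1,0,1,0,2,0,1,0,2,0,2,0,2,0,1,0,1,0,1,0,2,0,1,0,1,0,1,0,1,0,1,0,2,0,1,0,2,0,1,0,1,0,1,0,2,0,1,0,2,0,1,0,1,0,1,0,2,0,1,0,2,0,1,0,1,0,1,0,2,0,1,0,2,0,1,0,1,0,1,0,2,0,1,0,2,0,1,0,1,0,1,0,2,0,1,0,1,0,2,0,1,0,1,0,1,0,1,0,1,0,1,0,1,0,2,0,1,0,2]),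
  (0,5,0,[]),
  (0,4,0,[]),
  (2,1,2,[0,1,0,1,0,1,0,1,0,1,0,1,0,1,0,2,0,1,0,2,0,1,0,1,0,1,0,2,0,1,0,2,0,1,0,1,0,1,0,2,0,1,0,1,0,2,0,1,0,2,0,2,0,2,0,1,0,1,0,1,0,2,0,1,0,1,0,1,0,1,0,1,0,2,0,1,0,1,0,2,0,1,0,2,0,2,0,2,0,1,0,1,0,2,0,1,0,1,0,1,0,1,0,1,0,2,0,1,0,2]),
  (0,4,0,[]),
  (0,3,0,[]),
  (0,0,0,[]),
  (2,2,3,[0,2,0,2,0,2,0,2,0,2,0,1,0,1,0,1,0,2,0,2,0,1,0,1,0,1,0,1,0,1,0,1,0,2,0,1,0,2,0,1,0,1,0,1,0,2,0,1,0,2,0,1,0,1,0,1,0,2,0,1,0,1,0,2,0,1,0,2,0,2,0,2,0,1,0,1,0,1,0,2,0,1,0,1,0,1,0,1,0,1,0,2,0,1,0,1,0,2,0,1,0,2,0,2,0,2,0,1,0,1,0,1,0,2,0,1,0,1,0,1,0,1,0,1,0,2,0,1,0,2,0,1,0,1,0,1,0,2,0,1,0,1,0,2,0,1,0,2,0,2,0,2,0,1,0,1,0,1,0,2,0,1,0,1,0,1,0,1,0,1,0,2,0,1,0,2,0,1,0,1,0,1,0,2,0,1,0,2,0,1,0,1,0,1,0,2,0,1,0,1,0,2,0,2,0,1,0,1,0,1,0,2,0,2,0,2,0,1,0,2,0,1]),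
  (0,5,0,[]),
  (0,4,0,[]),
  (2,1,3,[0,2,0,2,0,2,0,2,0,2,0,1,0,1,0,1,0,2,0,2,0,2,0,2,0,2,0,2,0,1,0,1,0,1,0,2,0,1,0,1,0,1,0,1,0,1,0,2,0,1,0,2,0,1,0,1,0,1,0,2,0,1,0,2,0,1,0,1,0,1,0,2,0,1,0,2,0,1,0,1,0,1,0,2,0,1,0,2,0,1,0,1,0,1,0,2,0,1,0,2,0,1,0,1,0,1,0,2,0,1,0,1,0,2,0,1,0,2,0,2,0,2,0,1,0,1,0,1,0,2,0,1,0,1,0,1,0,1,0,1,0,2,0,1,0,2,0,1,0,1,0,1,0,2,0,1,0,1,0,2,0,1,0,2,0,2,0,2,0,1,0,1,0,1,0,2,0,1,0,1,0,1,0,1,0,1,0,2,0,1,0,2,0,1,0,1,0,1,0,2,0,1,0,1,0,2,0,2,0,1,0,1,0,1,0,2,0,2,0,2,0,1,0,2,0,1]),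
  (0,4,0,[]),
  (0,3,0,[]),
  (0,3,0,[]),
  (2,3,4,[2,0,1,0,1,0,2,0,1,0,1,0,1,0,1,0,2,0,2,0,1,0,1,0,1,0,2,0,1,0,1,0,1,0,1,0,1,0,2,0,1,0,1,0,2,0,1,0,2,0,2,0,2,0,1,0,1,0,1,0,2,0,1,0,1,0,1,0,1,0,1,0,2,0,1,0,1,0,2,0,1,0,2,0,2,0,2,0,1,0,1,0,1,0,2,0,1,0,1,0,1,0,1,0,1,0,2,0,1,0,1,0,2,0,1,0,2,0,2,0,2,0,1,0,1,0,1,0,2,0,1,0,1,0,1,0,1,0,1,0,2,0,1,0,2,0,1,0,1,0,1,0,2,0,1,0,2,0,1,0,1,0,1,0,2,0,1,0,2,0,1,0,1,0,1,0,2,0,1,0,2,0,1,0,1,0,1,0,2,0,1,0,1,0,2,0,2,0,1]),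
  (2,2,3,[0,2,0,2,0,2,0,2,0,2,0,1,0,1,0,1,0,2,0,2,0,1,0,1,0,1,0,1,0,1,0,1,0,2,0,1,0,1,0,2,0,1,0,2,0,2,0,2,0,1,0,1,0,1,0,2,0,1,0,1,0,1,0,1,0,1,0,2,0,1,0,1,0,2,0,1,0,2,0,2,0,2,0,1,0,1,0,1,0,2,0,1,0,1,0,1,0,1,0,1,0,2,0,1,0,2,0,1,0,1,0,1,0,2,0,1,0,2,0,1,0,1,0,1,0,2,0,1,0,2,0,1,0,1,0,1,0,2,0,1,0,1,0,2,0,1,0,2,0,2,0,2,0,1,0,1,0,1,0,2,0,1,0,1,0,1,0,1,0,1,0,2,0,1,0,2,0,1,0,1,0,1,0,2,0,1,0,2,0,1,0,1,0,1,0,2,0,1,0,2,0,1,0,1,0,1,0,2,0,1,0,1,0,2,0,2,0,1]),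
  (0,5,0,[]),
  (0,4,0,[]),
  (2,1,3,[0,2,0,2,0,2,0,2,0,2,0,1,0,1,0,1,0,2,0,2,0,1,0,1,0,1,0,1,0,1,0,1,0,2,0,1,0,1,0,2,0,1,0,2,0,2,0,2,0,1,0,1,0,1,0,2,0,1,0,1,0,1,0,1,0,1,0,2,0,1,0,2,0,1,0,1,0,1,0,2,0,1,0,2,0,1,0,1,0,1,0,2,0,1,0,1,0,2,0,1,0,2,0,2,0,2,0,1,0,1,0,1,0,1,0,1]),
  (0,4,0,[]),
  (0,3,0,[]),
  (0,0,0,[]),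
  (2,1,3,[0,2,0,2,0,2,0,2,0,2,0,1,0,1,0,1,0,2,0,2,0,2,0,2,0,2,0,2,0,1,0,1,0,1,0,2,0,1,0,1,0,1,0,1,0,1,0,2,0,1,0,2,0,1,0,1,0,1,0,2,0,1,0,2,0,1,0,1,0,1,0,2,0,1,0,2,0,1,0,1,0,1,0,2,0,1,0,2,0,1,0,1,0,1,0,2,0,1,0,2,0,1,0,1,0,1,0,2,0,1,0,1,0,2,0,1,0,2,0,2,0,2,0,1,0,1,0,1,0,2,0,1,0,1,0,1,0,1,0,1,0,2,0,1,0,2,0,1,0,1,0,1,0,2,0,1,0,1,0,2,0,1,0,2,0,2,0,2,0,1,0,1,0,1,0,2,0,1,0,1,0,1,0,1,0,1,0,2,0,1,0,2,0,1,0,1,0,1,0,2,0,1,0,1,0,2,0,2,0,1,0,1,0,1,0,2,0,2,0,2,0,1,0,2,0,1]),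
  (0,4,0,[]),
  (0,3,0,[]),
  (0,0,0,[]),
  (0,0,0,[])],
[
  (1,1,0,[0,1,0,2,0,1]),
  (1,2,0,[0,1,0,1,0]),
  (1,3,0,[0,1,0,1]),
  (1,4,0,[0,2,0]),
  (1,5,0,[0,2]),
  (1,6,0,[0]),
  (2,1,2,[0,1,0,1,0,1,0,1,0,1,0,1,0,1,0,2,0,1,0,2,0,1,0,1,0,1,0,2,0,1,0,2,0,1,0,1,0,1,0,2,0,1,0,1,0,2,0,1,0,2,0,2,0,2,0,1,0,1,0,1,0,2,0,1,0,1,0,1,0,1,0,1,0,2,0,1,0,1,0,2,0,1,0,2,0,2,0,2,0,1,0,1,0,1,0,2,0,1,0,1,0,1,0,1,0,1,0,2,0,1,0,2,0,1,0,1,0,1,0,2,0,1,0,2,0,1,0,1,0,1,0,2,0,1,0,1,0,2]),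
  (0,4,0,[]),
  (0,3,0,[]),
  (2,0,2,[0,1,0,1,0,1,0,1,0,1,0,1,0,1,0,2,0,1,0,2,0,1,0,1,0,1,0,2,0,1,0,2,0,1,0,1,0,1,0,2,0,1,0,1,0,2,0,1,0,2,0,2,0,2,0,1,0,1,0,1,0,2,0,1,0,1,0,1,0,1,0,1,0,2,0,1,0,1,0,2,0,1,0,2,0,2,0,2,0,1,0,1,0,1,0,2,0,1,0,1,0,1,0,1,0,1,0,2,0,1,0,1,0,2]),
  (0,3,0,[]),
  (0,2,0,[]),
  (2,4,3,[0,2,0,2,0,2,0,2,0,2,0,1,0,1,0,1,0,2,0,2,0,1,0,1,0,1,0,1,0,1,0,1,0,2,0,1,0,1,0,2,0,1,0,2,0,2,0,2,0,1,0,1,0,1,0,2,0,1,0,1,0,1,0,1,0,1,0,2,0,1,0,1,0,2,0,1,0,2,0,2,0,2,0,1,0,1,0,1,0,2,0,1,0,1,0,1,0,1,0,1,0,2,0,1,0,2,0,1,0,1,0,1,0,2,0,1,0,2,0,1,0,1,0,1,0,2,0,1,0,2,0,1,0,1,0,1,0,2,0,1,0,1,0,2,0,1,0,2,0,2,0,2,0,1,0,1,0,1,0,2,0,1,0,1,0,1,0,1,0,1,0,2,0,1,0,2,0,1,0,1,0,1,0,2,0,1,0,2,0,1,0,1,0,1,0,2,0,1,0,2,0,1,0,1,0,1,0,2,0,1,0,1,0,2,0,2,0,1]),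
  (0,7,0,[]),
  (0,6,0,[]),
  (2,3,3,[0,2,0,2,0,2,0,2,0,2,0,1,0,1,0,1,0,2,0,2,0,1,0,1,0,1,0,1,0,1,0,1,0,2,0,1,0,1,0,2,0,1,0,2,0,2,0,2,0,1,0,1,0,1,0,2,0,1,0,1,0,1,0,1,0,1,0,2,0,1,0,1,0,2,0,1,0,2,0,2,0,2,0,1,0,1,0,1,0,2,0,1,0,1,0,1,0,1,0,1,0,2,0,1,0,2,0,1,0,1,0,1,0,2,0,1,0,2,0,1,0,1,0,1,0,2,0,1,0,2,0,1,0,1,0,1,0,2,0,1,0,2,0,1,0,1,0,1,0,2,0,1,0,1,0,2,0,1,0,2,0,2,0,2,0,1,0,1,0,1,0,2,0,1,0,1,0,1,0,1,0,1,0,2,0,1,0,2,0,1,0,1,0,1,0,2,0,1,0,2,0,1,0,1,0,1,0,2,0,1,0,1,0,2,0,2,0,1]),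
  (0,6,0,[]),
  (0,5,0,[]),
  (2,5,3,[0,2,0,2,0,2,0,2,0,2,0,1,0,1,0,1,0,2,0,2,0,2,0,2,0,2,0,2,0,1,0,1,0,1,0,2,0,1,0,1,0,1,0,1,0,1,0,2,0,1,0,1,0,2,0,1,0,2,0,2,0,2,0,1,0,1,0,1,0,2,0,1,0,1,0,1,0,1,0,1,0,2,0,1,0,1,0,2,0,1,0,2,0,2,0,2,0,1,0,1,0,1,0,2,0,1,0,1,0,1,0,1,0,1,0,2,0,1,0,2,0,1,0,1,0,1,0,2,0,1,0,1,0,2,0,1,0,2,0,2,0,2,0,1,0,1,0,1,0,2,0,1,0,1,0,1,0,1,0,1,0,2,0,1,0,2,0,1,0,1,0,1,0,2,0,1,0,2,0,1,0,1,0,1,0,2,0,1,0,1,0,2,0,1,0,2,0,2,0,2,0,1,0,1,0,1,0,2,0,1,0,1,0,1,0,1,0,1,0,2,0,1,0,2,0,1,0,1,0,1,0,2,0,1,0,2,0,1,0,1,0,1,0,2,0,1,0,1,0,2,0,2,0,2]),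
  (0,8,0,[]),
  (0,7,0,[]),
  (2,4,2,[0,1,0,1,0,1,0,1,0,1,0,1,0,1,0,2,0,1,0,1,0,2,0,1,0,2,0,2,0,2,0,1,0,1,0,1,0,2,0,1,0,1,0,1,0,1,0,1,0,2,0,1,0,2,0,1,0,1,0,1,0,2,0,1,0,1,0,2,0,1,0,2,0,2,0,2,0,1,0,1,0,1,0,2,0,1,0,1,0,1,0,1,0,1,0,2,0,1,0,2,0,1,0,1,0,1,0,2,0,1,0,1,0,2,0,1,0,2,0,2,0,2,0,1,0,1,0,1,0,2,0,1,0,1,0,1,0,1,0,1,0,2,0,1,0,1,0,2,0,2,0,2]),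
  (0,7,0,[]),
  (0,6,0,[]),
  (2,7,4,[2,0,1,0,1,0,2,0,1,0,1,0,1,0,2,0,2,0,1,0,1,0,1,0,1,0,1,0,2,0,1,0,2,0,1,0,1,0,1,0,2,0,1,0,2,0,1,0,1,0,1,0,2,0,1,0,2,0,1,0,1,0,1,0,2,0,1,0,2,0,1,0,1,0,1,0,2,0,1,0,2,0,1,0,1,0,1,0,2,0,1,0,1,0,2,0,1,0,2,0,2,0,2,0,1,0,1,0,1,0,2,0,1,0,1,0,1,0,1,0,1,0,2,0,1,0,1,0,2,0,1,0,2,0,2,0,2,0,1,0,1,0,1,0,2,0,1,0,1,0,1,0,1,0,1,0,2,0,1,0,2,0,1,0,1,0,1,0,2,0,1,0,1,0,2,0]),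
  (2,6,3,[0,2,0,2,0,2,0,2,0,2,0,1,0,1,0,1,0,2,0,2,0,1,0,1,0,1,0,1,0,1,0,1,0,2,0,1,0,1,0,2,0,1,0,2,0,2,0,2,0,1,0,1,0,1,0,2,0,1,0,1,0,1,0,1,0,1,0,2,0,1,0,2,0,1,0,1,0,1,0,2,0,1,0,2,0,1,0,1,0,1,0,2,0,1,0,2,0,1,0,1,0,1,0,2,0,1,0,1,0,2,0,1,0,2,0,2,0,2,0,1,0,1,0,1,0,2,0,1,0,1,0,1,0,1,0,1,0,2,0,1,0,2,0,1,0,1,0,1,0,2,0,1,0,2,0,1,0,1,0,1,0,2,0,1,0,2,0,1,0,1,0,1,0,2,0,1,0,2,0,1,0,1,0,1,0,2,0,1,0,1,0,2,0,1,0,2,0,2,0,2,0,1,0,1,0,1,0,2]),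
  (0,9,0,[]),
  (0,8,0,[]),
  (0,5,0,[]),
  (2,5,3,[0,2,0,2,0,2,0,2,0,2,0,1,0,1,0,1,0,2,0,2,0,1,0,1,0,1,0,1,0,1,0,1,0,2,0,1,0,2,0,1,0,1,0,1,0,2,0,1,0,2,0,1,0,1,0,1,0,2,0,1,0,1,0,2,0,1,0,2,0,2,0,2,0,1,0,1,0,1,0,2,0,1,0,1,0,1,0,1,0,1,0,2,0,1,0,1,0,2,0,1,0,2,0,2,0,2,0,1,0,1,0,1,0,2,0,1,0,1,0,1,0,1,0,1,0,2,0,1,0,1,0,2,0,1,0,2,0,2,0,2,0,1,0,1,0,1,0,2,0,1,0,1,0,1,0,1,0,1,0,2,0,1,0,2,0,1,0,1,0,1,0,2,0,1,0,2,0,1,0,1,0,1,0,2,0,1,0,2,0,1,0,1,0,1,0,2,0,1,0,2,0,1,0,1,0,1,0,2,0,1,0,2,0,1,0,1,0,1,0,2,0,1,0,2,0,1,0,1,0,1,0,2,0,1,0,1,0,2,0,2,0,1,0,1,0,2,0,1,0,1,0,2,0,2,0,1,0,2,0,2,0,1,0,2]),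
  (0,8,0,[]),
  (0,7,0,[]),
  (0,6,0,[]),
  (2,6,4,[2,0,1,0,1,0,2,0,1,0,1,0,1,0,1,0,2,0,2,0,1,0,1,0,1,0,2,0,1,0,1,0,1,0,1,0,1,0,2,0,1,0,2,0,1,0,1,0,1,0,2,0,1,0,1,0,2,0,1,0,2,0,2,0,2,0,1,0,1,0,1,0,2,0,1,0,1,0,1,0,1,0,1,0,2,0,1,0,2,0,1,0,1,0,1,0,2,0,1,0,2,0,1,0,1,0,1,0,2,0,1,0,2,0,1,0,1,0,1,0,2,0,1,0,2,0,1,0,1,0,1,0,2,0,1,0,1,0,2,0,1,0,2,0,2,0,2,0,1,0,1,0,1,0,2,0,1,0,1,0,1,0,1,0,1,0,2,0,1,0,2,0,1,0,1,0,1,0,2,0,1,0,1,0,2,0,1,0,2,0,2,0,2,0,1,0,1,0,1,0,2,0,1,0,1,0,1,0,1,0,1,0,2,0,1,0,2,0,1,0,1,0,1,0,2,0,1,0,1,0,2,0,1,0,2,0,2,0,2,0,1,0,1,0,2]),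
  (2,5,3,[0,2,0,2,0,2,0,2,0,2,0,1,0,1,0,1,0,2,0,2,0,2,0,2,0,2,0,2,0,1,0,1,0,1,0,2,0,1,0,1,0,1,0,1,0,1,0,2,0,1,0,2,0,1,0,1,0,1,0,2,0,1,0,2,0,1,0,1,0,1,0,2,0,1,0,1,0,2,0,1,0,2,0,2,0,2,0,1,0,1,0,1,0,2,0,1,0,1,0,1,0,1,0,1,0,2,0,1,0,2,0,1,0,1,0,1,0,2,0,1,0,2,0,1,0,1,0,1,0,2,0,1,0,2,0,1,0,1,0,1,0,2,0,1,0,2,0,1,0,1,0,1,0,2,0,1,0,2,0,1,0,1,0,1,0,2,0,1,0,1,0,2,0,1,0,2,0,2,0,2,0,1,0,1,0,2]),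
  (0,8,0,[]),
  (0,7,0,[]),
  (2,4,2,[0,1,0,2,0,2,0,2,0,2,0,1,0,1,0,1,0,2,0,1,0,1,0,1,0,1,0,1,0,2,0,1,0,1,0,2,0,1,0,2,0,2,0,2,0,1,0,1,0,1,0,2,0,1,0,1,0,1,0,1,0,1,0,2,0,1,0,2,0,1,0,1,0,1,0,2,0,1,0,2,0,1,0,1,0,1,0,2,0,1,0,2,0,1,0,1,0,1,0,2,0,1,0,1,0,2,0,1,0,1]),
  (0,7,0,[]),
  (0,6,0,[]),
  (2,3,3,[0,2,0,2,0,2,0,2,0,2,0,1,0,1,0,1,0,2,0,2,0,1,0,1,0,1,0,1,0,1,0,1,0,2,0,1,0,2,0,1,0,1,0,1,0,2,0,1,0,1,0,2,0,1,0,2,0,2,0,2,0,1,0,1,0,1,0,2,0,1,0,1,0,1,0,1,0,1,0,2,0,1,0,2,0,1,0,1,0,1,0,2,0,1,0,2,0,1,0,1,0,1,0,2,0,1,0,1,0,2,0,1,0,2,0,2,0,2,0,1,0,1,0,1,0,2,0,1,0,1,0,1,0,1,0,1,0,2,0,1,0,2,0,1,0,1,0,1,0,2,0,1,0,1,0,2,0,1,0,2,0,2,0,2,0,1,0,1,0,1,0,2,0,1,0,1,0,1,0,1,0,1,0,2,0,1,0,2,0,1,0,1,0,1,0,2,0,1,0,1,0,2,0,1,0,2,0,2,0,2,0,1,0,1,0,1,0,2,0,1,0,1,0,1,0,1,0,1,0,2,0,1,0,2,0,1,0,1,0,1,0,2,0,1,0,1,0,2,0,1,0,1]),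
  (0,6,0,[]),
  (0,5,0,[]),
  (0,2,0,[]),
  (2,4,3,[0,2,0,2,0,2,0,2,0,2,0,1,0,1,0,1,0,2,0,2,0,1,0,1,0,1,0,1,0,1,0,1,0,2,0,1,0,2,0,1,0,1,0,1,0,2,0,1,0,2,0,1,0,1,0,1,0,2,0,1,0,2,0,1,0,1,0,1,0,2,0,1,0,1,0,2,0,1,0,2,0,2,0,2,0,1,0,1,0,1,0,2,0,1,0,1,0,1,0,1,0,1,0,2,0,1,0,1,0,2,0,1,0,2,0,2,0,2,0,1,0,1,0,1,0,2,0,1,0,1,0,1,0,1,0,1,0,2,0,1,0,1,0,2,0,1,0,2,0,2,0,2,0,1,0,1,0,1,0,2,0,1,0,1,0,1,0,1,0,1,0,2,0,1,0,2,0,1,0,1,0,1,0,2,0,1,0,1,0,2,0,1,0,2,0,2,0,2,0,1,0,1,0,1,0,2,0,1,0,1,0,1,0,1,0,1,0,2,0,1,0,2,0,1,0,1,0,1,0,2,0,1,0,2,0,1,0,1,0,1,0,2,0,1,0,1,0,2,0,2,0,1]),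
  (0,7,0,[]),
  (0,6,0,[]),
  (2,3,3,[0,2,0,2,0,2,0,2,0,2,0,1,0,1,0,1,0,2,0,2,0,1,0,1,0,1,0,1,0,1,0,1,0,2,0,1,0,1,0,2,0,1,0,2,0,2,0,2,0,1,0,1,0,1,0,2,0,1,0,1,0,1,0,1,0,1,0,2,0,1,0,2,0,1,0,1,0,1,0,2,0,1,0,2,0,1,0,1,0,1,0,2,0,1,0,2,0,1,0,1,0,1,0,2,0,1,0,2,0,1,0,1,0,1,0,2,0,1,0,2,0,1,0,1,0,1,0,2,0,1,0,1,0,2,0,1,0,2,0,2,0,2,0,1,0,1,0,1,0,2,0,1,0,1,0,1,0,1,0,1,0,2,0,1,0,2,0,1,0,1,0,1,0,2,0,1,0,2,0,1,0,1,0,1,0,2,0,1,0,1,0,2,0,1,0,2,0,2,0,2,0,1,0,1,0,1,0,1,0,1]),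
  (0,6,0,[]),
  (0,5,0,[]),
  (0,2,0,[]),
  (2,3,3,[0,2,0,2,0,2,0,2,0,2,0,1,0,1,0,1,0,2,0,2,0,1,0,1,0,1,0,1,0,1,0,1,0,2,0,1,0,1,0,2,0,1,0,2,0,2,0,2,0,1,0,1,0,1,0,2,0,1,0,1,0,1,0,1,0,1,0,2,0,1,0,1,0,2,0,1,0,2,0,2,0,2,0,1,0,1,0,1,0,2,0,1,0,1,0,1,0,1,0,1,0,2,0,1,0,2,0,1,0,1,0,1,0,2,0,1,0,2,0,1,0,1,0,1,0,2,0,1,0,1,0,2,0,1,0,2,0,2,0,2,0,1,0,1,0,1,0,2,0,1,0,1,0,1,0,1,0,1,0,2,0,1,0,2,0,1,0,1,0,1,0,2,0,1,0,2,0,1,0,1,0,1,0,2,0,1,0,1,0,2,0,1,0,2,0,2,0,2,0,1,0,1,0,1,0,2,0,1,0,1,0,1,0,1,0,1,0,2,0,1,0,1,0,1,0,1,0,1,0,1,0,1,0,2]),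
  (0,6,0,[]),
  (0,5,0,[]),
  (2,2,3,[0,2,0,2,0,2,0,2,0,2,0,1,0,1,0,1,0,2,0,2,0,1,0,1,0,1,0,1,0,1,0,1,0,2,0,1,0,2,0,1,0,1,0,1,0,2,0,1,0,1,0,2,0,1,0,2,0,2,0,2,0,1,0,1,0,1,0,2,0,1,0,1,0,1,0,1,0,1,0,2,0,1,0,2,0,1,0,1,0,1,0,2,0,1,0,1,0,2,0,1,0,2,0,2,0,2,0,1,0,1,0,1,0,2,0,1,0,1,0,1,0,1,0,1,0,2,0,1,0,1,0,2,0,1,0,2,0,2,0,2,0,1,0,1,0,1,0,2,0,1,0,1,0,1,0,1,0,1,0,2,0,1,0,1,0,2,0,1,0,2,0,2,0,2,0,1,0,1,0,1,0,2,0,1,0,1,0,1,0,1,0,1,0,2,0,1,0,1,0,1,0,1,0,1,0,1,0,1,0,2]),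
  (0,5,0,[]),
  (0,4,0,[]),
  (2,5,4,[2,0,1,0,1,0,2,0,1,0,1,0,1,0,1,0,2,0,2,0,1,0,1,0,1,0,2,0,1,0,1,0,1,0,1,0,1,0,2,0,1,0,2,0,1,0,1,0,1,0,2,0,1,0,2,0,1,0,1,0,1,0,2,0,1,0,2,0,1,0,1,0,1,0,2,0,1,0,2,0,1,0,1,0,1,0,2,0,1,0,1,0,2,0,1,0,2,0,2,0,2,0,1,0,1,0,1,0,2,0,1,0,1,0,1,0,1,0,1,0,2,0,1,0,1,0,2,0,1,0,2,0,2,0,2,0,1,0,1,0,1,0,2,0,1,0,1,0,1,0,1,0,1,0,2,0,1,0,2,0,1,0,1,0,1,0,2,0,1,0,1,0,2,0,1,0,2,0,2,0,2,0,1,0,1,0,1,0,2,0,1,0,1,0,1,0,1,0,1,0,2,0,1,0,2,0,1,0,1,0,1,0,2,0,1,0,1,0,2,0,1,0,2,0,2,0,2,0,1,0,1,0,1,0,2,0]),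
  (2,4,3,[0,2,0,2,0,2,0,2,0,2,0,1,0,1,0,1,0,2,0,2,0,1,0,1,0,1,0,1,0,1,0,1,0,2,0,1,0,1,0,2,0,1,0,2,0,2,0,2,0,1,0,1,0,1,0,2,0,1,0,1,0,1,0,1,0,1,0,2,0,1,0,1,0,2,0,1,0,2,0,2,0,2,0,1,0,1,0,1,0,2,0,1,0,1,0,1,0,1,0,1,0,2,0,1,0,2,0,1,0,1,0,1,0,2,0,1,0,2,0,1,0,1,0,1,0,2,0,1,0,1,0,2,0,1,0,2,0,2,0,2,0,1,0,1,0,1,0,2,0,1,0,1,0,1,0,1,0,1,0,2,0,1,0,2,0,1,0,1,0,1,0,2,0,1,0,1,0,2,0,1,0,2,0,2,0,2,0,1,0,1,0,1,0,2,0,1,0,1,0,1,0,1,0,1,0,2,0,1,0,2,0,1,0,1,0,1,0,2,0,1,0,1,0,2,0,1,0,2,0,2,0,2,0,1,0,1,0,1,0,2,0]),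
  (0,7,0,[]),
  (0,6,0,[]),
  (2,3,3,[0,2,0,2,0,2,0,2,0,2,0,1,0,1,0,1,0,2,0,2,0,1,0,1,0,1,0,1,0,1,0,1,0,2,0,1,0,1,0,2,0,1,0,2,0,2,0,2,0,1,0,1,0,1,0,2,0,1,0,1,0,1,0,1,0,1,0,2,0,1,0,2,0,1,0,1,0,1,0,2,0,1,0,1,0,2,0,1,0,2,0,2,0,2,0,1,0,1,0,1,0,2,0,1,0,1,0,1,0,1,0,1,0,2,0,1,0,1,0,2,0,1,0,2,0,2,0,2,0,1,0,1,0,1,0,2,0,1,0,1,0,1,0,1,0,1,0,2,0,1,0,1,0,2,0,1,0,2,0,2,0,2,0,1,0,1,0,1,0,2,0,1,0,1,0,1,0,1,0,1,0,2,0,1,0,2,0,1,0,1,0,1,0,2,0,1,0,2,0,1,0,1,0,1,0,2,0,1,0,2,0,1,0,1,0,1,0,2,0,1,0,1,0,2]),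
  (0,6,0,[]),
  (0,5,0,[]),
  (2,2,3,[0,2,0,2,0,2,0,2,0,2,0,1,0,1,0,1,0,2,0,2,0,2,0,2,0,2,0,2,0,1,0,1,0,1,0,2,0,1,0,1,0,1,0,1,0,1,0,2,0,1,0,2,0,1,0,1,0,1,0,2,0,1,0,2,0,1,0,1,0,1,0,2,0,1,0,2,0,1,0,1,0,1,0,2,0,1,0,2,0,1,0,1,0,1,0,2,0,1,0,1,0,2,0,1,0,2,0,2,0,2,0,1,0,1,0,1,0,2,0,1,0,1,0,1,0,1,0,1,0,2,0,1,0,2,0,1,0,1,0,1,0,2,0,1,0,1,0,2,0,1,0,2,0,2,0,2,0,1,0,1,0,1,0,2,0,1,0,1,0,1,0,1,0,1,0,2,0,1,0,2,0,1,0,1,0,1,0,2,0,1,0,2,0,1,0,1,0,1,0,2,0,1,0,2,0,1,0,1,0,1,0,2,0,1,0,1,0,2,0,1,0,2,0,2,0,2,0,1,0,1,0,1,0,2,0]),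
  (0,5,0,[]),
  (0,4,0,[]),
  (2,1,2,[0,1,0,1,0,1,0,1,0,1,0,1,0,1,0,2,0,1,0,2,0,1,0,1,0,1,0,2,0,1,0,2,0,1,0,1,0,1,0,2,0,1,0,1,0,2,0,1,0,2,0,2,0,2,0,1,0,1,0,1,0,2,0,1,0,1,0,1,0,1,0,1,0,2,0,1,0,1,0,2,0,1,0,2,0,2,0,2,0,1,0,1,0,1,0,2,0,1,0,1,0,1,0,1,0,1,0,2,0,1,0,1,0,2]),
  (0,4,0,[]),
  (0,3,0,[]),
  (0,0,0,[]),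
  (2,3,3,[0,2,0,2,0,2,0,2,0,2,0,1,0,1,0,1,0,2,0,2,0,1,0,1,0,1,0,1,0,1,0,1,0,2,0,1,0,2,0,1,0,1,0,1,0,2,0,1,0,2,0,1,0,1,0,1,0,2,0,1,0,1,0,2,0,1,0,2,0,2,0,2,0,1,0,1,0,1,0,2,0,1,0,1,0,1,0,1,0,1,0,2,0,1,0,2,0,1,0,1,0,1,0,2,0,1,0,2,0,1,0,1,0,1,0,2,0,1,0,1,0,2,0,1,0,2,0,2,0,2,0,1,0,1,0,1,0,2,0,1,0,1,0,1,0,1,0,1,0,2,0,1,0,2,0,1,0,1,0,1,0,2,0,1,0,2,0,1,0,1,0,1,0,2,0,1,0,1,0,2,0,2,0,2]),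
  (0,6,0,[]),
  (0,5,0,[]),
  (0,2,0,[]),
  (2,4,4,[2,0,1,0,1,0,2,0,1,0,1,0,1,0,2,0,2,0,1,0,1,0,1,0,1,0,1,0,2,0,1,0,1,0,2,0,1,0,2,0,2,0,2,0,1,0,1,0,1,0,2,0,1,0,1,0,1,0,1,0,1,0,2,0,1,0,1,0,2,0,1,0,2,0,2,0,2,0,1,0,1,0,1,0,2,0,1,0,1,0,1,0,1,0,1,0,2,0,1,0,1,0,2,0,1,0,2,0,2,0,2,0,1,0,1,0,1,0,2,0,1,0,1,0,1,0,1,0,1,0,2,0,1,0,2,0,1,0,1,0,1,0,2,0,1,0,1,0,2,0,1,0,2,0,2,0,2,0,1,0,1,0,1,0,2,0,1,0,1,0,1,0,1,0,1,0,2,0,1,0,2,0,1,0,1,0,1,0,2,0,1,0,2,0,1,0,1,0,1,0,2,0,1,0,2,0,1,0,1,0,1,0,2,0,1,0,1,0,2,0,1,0,2,0,2,0,2,0,1,0,1,0,2,0,1,0,1,0,1,0,1,0]),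
  (2,3,3,[0,2,0,2,0,2,0,2,0,2,0,1,0,1,0,1,0,2,0,2,0,2,0,2,0,2,0,2,0,1,0,1,0,1,0,2,0,1,0,1,0,1,0,1,0,1,0,2,0,1,0,1,0,2,0,1,0,2,0,2,0,2,0,1,0,1,0,1,0,2,0,1,0,1,0,1,0,1,0,1,0,2,0,1,0,1,0,2,0,1,0,2,0,2,0,2,0,1,0,1,0,1,0,2,0,1,0,1,0,1,0,1,0,1,0,2,0,1,0,1,0,2,0,1,0,2,0,2,0,2,0,1,0,1,0,1,0,2,0,1,0,1,0,1,0,1,0,1,0,2,0,1,0,1,0,2,0,1,0,2,0,2,0,2,0,1,0,1,0,1,0,2,0,1,0,1,0,1,0,1,0,1,0,2,0,1,0,2,0,1,0,1,0,1,0,2,0,1,0,2,0,1,0,1,0,1,0,2,0,1,0,2,0,1,0,1,0,1,0,2,0,1,0,1,0,2,0,1,0,2,0,2,0,2,0,1,0,1,0,1,0,2,0,1,0,1,0,1,0,1,0,1,0,2,0,1,0,1,0,2,0,1,0,1,0,1,0,1,0,1,0,1,0]),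
  (0,6,0,[]),
  (0,5,0,[]),
  (2,2,3,[0,2,0,2,0,2,0,2,0,2,0,1,0,1,0,1,0,2,0,2,0,1,0,1,0,1,0,1,0,1,0,1,0,2,0,1,0,1,0,2,0,1,0,2,0,2,0,2,0,1,0,1,0,1,0,2,0,1,0,1,0,1,0,1,0,1,0,2,0,1,0,2,0,1,0,1,0,1,0,2,0,1,0,2,0,1,0,1,0,1,0,2,0,1,0,2,0,1,0,1,0,1,0,2,0,1,0,2,0,1,0,1,0,1,0,2,0,1,0,2,0,1,0,1,0,1,0,2,0,1,0,2,0,1,0,1,0,1,0,2,0,1,0,2,0,1,0,1,0,1,0,2,0,1,0,2,0,1,0,1,0,1,0,2,0,1,0,2,0,1,0,1,0,1,0,2,0,1,0,1,0,2,0,1,0,2,0,2,0,2,0,1,0,1,0,2,0,1,0,1,0,1,0,1,0]),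
  (0,5,0,[]),
  (0,4,0,[]),
  (2,1,3,[0,2,0,2,0,2,0,2,0,2,0,1,0,1,0,1,0,2,0,2,0,1,0,1,0,1,0,1,0,1,0,1,0,2,0,1,0,1,0,2,0,1,0,2,0,2,0,2,0,1,0,1,0,1,0,2,0,1,0,1,0,1,0,1,0,1,0,2,0,1,0,2,0,1,0,1,0,1,0,2,0,1,0,1,0,2,0,1,0,2,0,2,0,2,0,1,0,1,0,1,0,2,0,1,0,1,0,1,0,1,0,1,0,2,0,1,0,1,0,2,0,1,0,2,0,2,0,2,0,1,0,1,0,2,0,1,0,1,0,1,0,1,0]),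
  (0,4,0,[]),
  (0,3,0,[]),
  (0,0,0,[]),
  (2,2,3,[0,2,0,2,0,2,0,2,0,2,0,1,0,1,0,1,0,2,0,2,0,1,0,1,0,1,0,1,0,1,0,1,0,2,0,1,0,2,0,1,0,1,0,1,0,2,0,1,0,2,0,1,0,1,0,1,0,2,0,1,0,2,0,1,0,1,0,1,0,2,0,1,0,1,0,2,0,1,0,2,0,2,0,2,0,1,0,1,0,1,0,2,0,1,0,1,0,1,0,1,0,1,0,2,0,1,0,1,0,2,0,1,0,2,0,2,0,2,0,1,0,1,0,1,0,2,0,1,0,1,0,1,0,1,0,1,0,2,0,1,0,2,0,1,0,1,0,1,0,2,0,1,0,2,0,1,0,1,0,1,0,2,0,1,0,1,0,2,0,2,0,1,0,1,0,1,0,2,0,2,0,1,0,2,0,2,0,2,0,2]),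
  (0,5,0,[]),
  (0,4,0,[]),
  (2,1,3,[0,2,0,2,0,2,0,2,0,2,0,1,0,1,0,1,0,2,0,2,0,1,0,1,0,1,0,1,0,1,0,1,0,2,0,1,0,1,0,2,0,1,0,2,0,2,0,2,0,1,0,1,0,1,0,2,0,1,0,1,0,1,0,1,0,1,0,2,0,1,0,2,0,1,0,1,0,1,0,2,0,1,0,2,0,1,0,1,0,1,0,2,0,1,0,1,0,2,0,1,0,2,0,2,0,2,0,1,0,1,0,1,0,2,0,1,0,1,0,1,0,1,0,1,0,2,0,1,0,2,0,1,0,1,0,1,0,2,0,1,0,2,0,1,0,1,0,1,0,2,0,1,0,1,0,2,0,1,0,2,0,2,0,2,0,1,0,1,0,1,0,2,0,1,0,1,0,1,0,1,0,1,0,2,0,1,0,2,0,1,0,1,0,1,0,2,0,1,0,1,0,2,0,1,0,2,0,2,0,2,0,1,0,1,0,1,0,1,0,1,0,1,0,1,0,2,0,2,0,1,0,2,0,2,0,2,0,2]),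
  (0,4,0,[]),
  (0,3,0,[]),
  (2,0,3,[0,2,0,2,0,2,0,2,0,2,0,1,0,1,0,1,0,2,0,2,0,2,0,2,0,2,0,2,0,1,0,1,0,1,0,2,0,1,0,1,0,1,0,1,0,1,0,2,0,1,0,1,0,2,0,1,0,2,0,2,0,2,0,1,0,1,0,1,0,2,0,1,0,1,0,1,0,1,0,1,0,2,0,1,0,1,0,2,0,1,0,2,0,2,0,2,0,1,0,1,0,1,0,2,0,1,0,1,0,1,0,1,0,1,0,2,0,1,0,1,0,2,0,1,0,2,0,2,0,2,0,1,0,1,0,1,0,2,0,1,0,1,0,1,0,1,0,1,0,2,0,1,0,1,0,2,0,1,0,2,0,2,0,2,0,1,0,1,0,1,0,1,0,1,0,1,0,1,0,2,0,2,0,1,0,2,0,2,0,2,0,2]),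
  (0,3,0,[]),
  (0,2,0,[]),
  (2,3,3,[0,2,0,2,0,2,0,2,0,2,0,1,0,1,0,1,0,2,0,2,0,2,0,2,0,2,0,2,0,1,0,1,0,1,0,2,0,1,0,1,0,1,0,1,0,1,0,2,0,1,0,2,0,1,0,1,0,1,0,2,0,1,0,2,0,1,0,1,0,1,0,2,0,1,0,1,0,2,0,1,0,2,0,2,0,2,0,1,0,1,0,1,0,2,0,1,0,1,0,1,0,1,0,1,0,2,0,1,0,2,0,1,0,1,0,1,0,2,0,1,0,1,0,2,0,1,0,2,0,2,0,2,0,1,0,1,0,1,0,2,0,1,0,1,0,1,0,1,0,1,0,2,0,1,0,2,0,1,0,1,0,1,0,2,0,1,0,2,0,1,0,1,0,1,0,2,0,1,0,2,0,1,0,1,0,1,0,2,0,1,0,2,0,1,0,1,0,1,0,2,0,1,0,1,0,2,0,2,0,1,0,1,0,2,0,1,0,1,0,2,0,2,0,1,0,2,0,2,0,1,0,2]),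
  (0,6,0,[]),
  (0,5,0,[]),
  (0,2,0,[]),
  (2,3,4,[2,0,1,0,1,0,2,0,1,0,1,0,1,0,1,0,2,0,2,0,1,0,1,0,1,0,2,0,1,0,1,0,1,0,1,0,1,0,2,0,1,0,2,0,1,0,1,0,1,0,2,0,1,0,1,0,2,0,1,0,2,0,2,0,2,0,1,0,1,0,1,0,2,0,1,0,1,0,1,0,1,0,1,0,2,0,1,0,1,0,2,0,1,0,2,0,2,0,2,0,1,0,1,0,1,0,2,0,1,0,1,0,1,0,1,0,1,0,2,0,1,0,1,0,2,0,1,0,2,0,2,0,2,0,1,0,1,0,1,0,2,0,1,0,1,0,1,0,1,0,1,0,2,0,1,0,2,0,1,0,1,0,1,0,2,0,1,0,2,0,1,0,1,0,1,0,2,0,1,0,1,0,2,0,1,0,2,0,2,0,2,0,1,0,1,0,1,0,2,0,1,0,1,0,1,0,1,0,1,0,2,0,1,0,1,0,2,0,2,0,1,0,1,0,1,0,2,0,2,0,1,0,2,0,2,0,2,0,2]),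
  (2,2,3,[0,2,0,2,0,2,0,2,0,2,0,1,0,1,0,1,0,2,0,2,0,1,0,1,0,1,0,1,0,1,0,1,0,2,0,1,0,2,0,1,0,1,0,1,0,2,0,1,0,2,0,1,0,1,0,1,0,2,0,1,0,2,0,1,0,1,0,1,0,2,0,1,0,1,0,2,0,1,0,2,0,2,0,2,0,1,0,1,0,1,0,2,0,1,0,1,0,1,0,1,0,1,0,2,0,1,0,1,0,2,0,1,0,2,0,2,0,2,0,1,0,1,0,1,0,2,0,1,0,1,0,1,0,1,0,1,0,2,0,1,0,2,0,1,0,1,0,1,0,2,0,1,0,2,0,1,0,1,0,1,0,2,0,1,0,1,0,2,0,2,0,1,0,1,0,1,0,2,0,2,0,1,0,2,0,2,0,2,0,2]),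
  (0,5,0,[]),
  (0,4,0,[]),
  (2,1,3,[0,2,0,2,0,2,0,2,0,2,0,1,0,1,0,1,0,2,0,2,0,2,0,2,0,2,0,2,0,1,0,1,0,1,0,2,0,1,0,1,0,1,0,1,0,1,0,2,0,1,0,1,0,2,0,1,0,2,0,2,0,2,0,1,0,1,0,1,0,2,0,1,0,1,0,1,0,1,0,1,0,2,0,1,0,1,0,2,0,1,0,2,0,2,0,2,0,1,0,1,0,1,0,2,0,1,0,1,0,1,0,1,0,1,0,2,0,1,0,1,0,2,0,1,0,2,0,2,0,2,0,1,0,1,0,1,0,2,0,1,0,1,0,1,0,1,0,1,0,2,0,1,0,1,0,2,0,1,0,2,0,2,0,2,0,1,0,1,0,1,0,1,0,1,0,1,0,1,0,2,0,2,0,1,0,2,0,2,0,2,0,2]),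
  (0,4,0,[]),
  (0,3,0,[]),
  (0,0,0,[]),
  (2,1,3,[0,2,0,2,0,2,0,2,0,2,0,1,0,1,0,1,0,2,0,2,0,1,0,1,0,1,0,1,0,1,0,1,0,2,0,1,0,2,0,1,0,1,0,1,0,2,0,1,0,2,0,1,0,1,0,1,0,2,0,1,0,2,0,1,0,1,0,1,0,2,0,1,0,2,0,1,0,1,0,1,0,2,0,1,0,2,0,1,0,1,0,1,0,2,0,1,0,1,0,2,0,1,0,2,0,2,0,2,0,1,0,1,0,1,0,2,0,1,0,1,0,1,0,1,0,1,0,2,0,1,0,1,0,1,0,1,0,1,0,1,0,1,0,2]),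
  (0,4,0,[]),
  (0,3,0,[]),
  (0,0,0,[]),
  (0,0,0,[])],
[
  (1,1,0,[0,1,0,2,0]),
  (1,2,0,[0,1,0,1,0]),
  (1,3,0,[0,1,0,1]),
  (1,4,0,[0,1,0]),
  (1,5,0,[0,2]),
  (1,6,0,[0,1]),
  (1,7,0,[0]),
  (2,0,1,[0,1,0,2,0,2,0,2,0,2,0,1,0,1,0,1,0,2,0,1,0,1,0,1,0,1,0,1,0,2,0,1,0,2,0,1,0,1,0,1,0,2,0,1,0,1,0,2,0,1,0,2,0,2,0,2,0,1,0,1,0,1,0,2,0,1,0,1,0,1,0,1,0,1,0,2,0,1,0,2,0,1,0,1,0,1,0,2,0,1,0,2,0,1,0,1,0,1,0,2,0,1,0,2,0,1,0,1,0,1,0,2,0,1,0,2,0,1,0,1,0,1,0,2,0,1,0,1,0,2,0,1,0]),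
  (0,3,0,[]),
  (0,2,0,[]),
  (2,1,3,[0,2,0,2,0,2,0,2,0,2,0,1,0,1,0,1,0,2,0,2,0,2,0,2,0,2,0,2,0,1,0,1,0,1,0,2,0,1,0,1,0,1,0,1,0,1,0,2,0,1,0,1,0,2,0,1,0,2,0,2,0,2,0,1,0,1,0,1,0,2,0,1,0,1,0,1,0,1,0,1,0,2,0,1,0,1,0,2,0,1,0,2,0,2,0,2,0,1,0,1,0,1,0,2,0,1,0,1,0,1,0,1,0,1,0,2,0,1,0,2,0,1,0,1,0,1,0,2,0,1,0,2,0,1,0,1,0,1,0,2,0,1,0,1,0,2,0,1,0,2,0,2,0,2,0,1,0,1,0,1,0,2,0,1,0,1,0,1,0,1,0,1,0,2,0,1,0,2,0,1,0,1,0,1,0,2,0,1,0,1,0,2,0,1,0,2,0,2,0,2,0,1,0,1,0,1,0,2,0,1,0,1,0,1,0,1,0,1,0,2,0,1,0,2,0,1,0,1,0,1,0,2,0,1,0,2,0,1,0,1,0,1,0,2,0,1,0,1,0,2]),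
  (0,4,0,[]),
  (0,3,0,[]),
  (2,0,3,[0,2,0,2,0,2,0,2,0,2,0,1,0,1,0,1,0,2,0,2,0,1,0,1,0,1,0,1,0,1,0,1,0,2,0,1,0,2,0,1,0,1,0,1,0,2,0,1,0,1,0,2,0,1,0,2,0,2,0,2,0,1,0,1,0,1,0,2,0,1,0,1,0,1,0,1,0,1,0,2,0,1,0,2,0,1,0,1,0,1,0,2,0,1,0,2,0,1,0,1,0,1,0,2,0,1,0,1,0,2,0,1,0,2,0,2,0,2,0,1,0,1,0,1,0,2,0,1,0,1,0,1,0,1,0,1,0,2,0,1,0,2,0,1,0,1,0,1,0,2,0,1,0,1,0,2,0,1,0,2,0,2,0,2,0,1,0,1,0,1,0,2,0,1,0,1,0,1,0,1,0,1,0,2,0,1,0,2,0,1,0,1,0,1,0,2,0,1,0,1,0,2,0,1,0,2,0,2,0,2,0,1,0,1,0,1,0,2,0,1,0,1,0,1,0,1,0,1,0,2,0,1,0,2,0,1,0,1,0,1,0,2,0,1,0,1,0,2]),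
  (0,3,0,[]),
  (0,2,0,[]),
  (2,3,3,[0,2,0,2,0,2,0,2,0,2,0,1,0,1,0,1,0,2,0,2,0,1,0,1,0,1,0,1,0,1,0,1,0,2,0,1,0,2,0,1,0,1,0,1,0,2,0,1,0,1,0,2,0,1,0,2,0,2,0,2,0,1,0,1,0,1,0,2,0,1,0,1,0,1,0,1,0,1,0,2,0,1,0,2,0,1,0,1,0,1,0,2,0,1,0,2,0,1,0,1,0,1,0,2,0,1,0,1,0,2,0,1,0,2,0,2,0,2,0,1,0,1,0,1,0,2,0,1,0,1,0,1,0,1,0,1,0,2,0,1,0,2,0,1,0,1,0,1,0,2,0,1,0,1,0,2,0,1,0,2,0,2,0,2,0,1,0,1,0,1,0,2,0,1,0,1,0,1,0,1,0,1,0,2,0,1,0,2,0,1,0,1,0,1,0,2,0,1,0,1,0,2,0,1,0,2,0,2,0,2,0,1,0,1,0,1,0,2,0,1,0,1,0,1,0,1,0,1,0,2,0,1,0,2,0,1,0,1,0,1,0,2,0,1,0,1,0,2,0,2]),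
  (0,6,0,[]),
  (0,5,0,[]),
  (2,4,3,[0,2,0,2,0,2,0,2,0,2,0,1,0,1,0,1,0,2,0,2,0,1,0,1,0,1,0,1,0,1,0,1,0,2,0,1,0,1,0,2,0,1,0,2,0,2,0,2,0,1,0,1,0,1,0,2,0,1,0,1,0,1,0,1,0,1,0,2,0,1,0,1,0,2,0,1,0,2,0,2,0,2,0,1,0,1,0,1,0,2,0,1,0,1,0,1,0,1,0,1,0,2,0,1,0,2,0,1,0,1,0,1,0,2,0,1,0,2,0,1,0,1,0,1,0,2,0,1,0,2,0,1,0,1,0,1,0,2,0,1,0,2,0,1,0,1,0,1,0,2,0,1,0,1,0,2,0,1,0,2,0,2,0,2,0,1,0,1,0,1,0,2,0,1,0,1,0,1,0,1,0,1,0,2,0,1,0,2,0,1,0,1,0,1,0,2,0,1,0,2,0,1,0,1,0,1,0,2,0,1,0,1,0,2,0,2,0,1]),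
  (0,7,0,[]),
  (0,6,0,[]),
  (2,3,2,[0,1,0,1,0,1,0,1,0,1,0,1,0,1,0,2,0,1,0,1,0,2,0,1,0,2,0,2,0,2,0,1,0,1,0,1,0,2,0,1,0,1,0,1,0,1,0,1,0,2,0,1,0,2,0,1,0,1,0,1,0,2,0,1,0,1,0,2,0,1,0,2,0,2,0,2,0,1,0,1,0,1,0,2,0,1,0,1,0,1,0,1,0,1,0,2,0,1,0,2,0,1,0,1,0,1,0,2,0,1,0,1,0,2,0,1,0,2,0,2,0,2,0,1,0,1,0,1,0,2,0,1,0,1,0,1,0,1,0,1,0,2,0,1,0,1,0,2,0,2,0,1]),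
  (0,6,0,[]),
  (0,5,0,[]),
  (2,6,3,[0,2,0,2,0,2,0,2,0,2,0,1,0,1,0,1,0,2,0,2,0,1,0,1,0,1,0,1,0,1,0,1,0,2,0,1,0,1,0,2,0,1,0,2,0,2,0,2,0,1,0,1,0,1,0,2,0,1,0,1,0,1,0,1,0,1,0,2,0,1,0,2,0,1,0,1,0,1,0,2,0,1,0,2,0,1,0,1,0,1,0,2,0,1,0,2,0,1,0,1,0,1,0,2,0,1,0,2,0,1,0,1,0,1,0,2,0,1,0,2,0,1,0,1,0,1,0,2,0,1,0,1,0,2,0,1,0,2,0,2,0,2,0,1,0,1,0,1,0,2,0,1,0,1,0,1,0,1,0,1,0,2,0,1,0,2,0,1,0,1,0,1,0,2,0,1,0,2,0,1,0,1,0,1,0,2,0,1,0,1,0,2,0,1,0,2,0,2,0,2,0,1,0,1,0,1,0,1,0,2]),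
  (0,9,0,[]),
  (0,8,0,[]),
  (2,5,2,[0,1,0,1,0,1,0,1,0,1,0,1,0,1,0,2,0,1,0,1,0,2,0,1,0,2,0,2,0,2,0,1,0,1,0,1,0,2,0,1,0,1,0,1,0,1,0,1,0,2,0,1,0,2,0,1,0,1,0,1,0,2,0,1,0,1,0,2,0,1,0,2,0,2,0,2,0,1,0,1,0,1,0,2,0,1,0,1,0,1,0,1,0,1,0,2,0,1,0,2,0,1,0,1,0,1,0,2,0,1,0,1,0,2,0,1,0,2,0,2,0,2,0,1,0,1,0,1,0,2,0,1,0,1,0,1,0,1,0,1,0,2,0,1,0,1,0,2,0,2,0,2]),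
  (0,8,0,[]),
  (0,7,0,[]),
  (2,8,4,[2,0,1,0,1,0,2,0,1,0,1,0,1,0,1,0,2,0,2,0,1,0,1,0,1,0,2,0,1,0,1,0,1,0,1,0,1,0,2,0,1,0,2,0,1,0,1,0,1,0,2,0,1,0,1,0,2,0,1,0,2,0,2,0,2,0,1,0,1,0,1,0,2,0,1,0,1,0,1,0,1,0,1,0,2,0,1,0,2,0,1,0,1,0,1,0,2,0,1,0,2,0,1,0,1,0,1,0,2,0,1,0,1,0,2,0,1,0,2,0,2,0,2,0,1,0,1,0,1,0,2,0,1,0,1,0,1,0,1,0,1,0,2,0,1,0,1,0,2,0,1,0,2,0,2,0,2,0,1,0,1,0,1,0,2,0,1,0,1,0,1,0,1,0,1,0,2,0,1,0,1,0,2,0,1,0,2,0,2,0,2,0,1,0,2,0,2,0,1,0,2]),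
  (2,7,3,[0,2,0,2,0,2,0,2,0,2,0,1,0,1,0,1,0,2,0,2,0,1,0,1,0,1,0,1,0,1,0,1,0,2,0,1,0,2,0,1,0,1,0,1,0,2,0,1,0,2,0,1,0,1,0,1,0,2,0,1,0,2,0,1,0,1,0,1,0,2,0,1,0,2,0,1,0,1,0,1,0,2,0,1,0,1,0,2,0,1,0,2,0,2,0,2,0,1,0,1,0,1,0,2,0,1,0,1,0,1,0,1,0,1,0,2,0,1,0,2,0,1,0,1,0,1,0,2,0,1,0,2,0,1,0,1,0,1,0,2,0,1,0,1,0,2,0,1,0,2,0,2,0,2,0,1,0,1,0,1,0,2,0,1,0,1,0,1,0,1,0,1,0,2,0,1,0,2,0,1,0,1,0,1,0,2,0,1,0,1,0,2,0,1,0,2,0,1,0,2,0,1,0,2]),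
  (0,10,0,[]),
  (0,9,0,[]),
  (2,6,3,[0,2,0,2,0,2,0,2,0,2,0,1,0,1,0,1,0,2,0,2,0,1,0,1,0,1,0,1,0,1,0,1,0,2,0,1,0,1,0,2,0,1,0,2,0,2,0,2,0,1,0,1,0,1,0,2,0,1,0,1,0,1,0,1,0,1,0,2,0,1,0,1,0,2,0,1,0,2,0,2,0,2,0,1,0,1,0,1,0,2,0,1,0,1,0,1,0,1,0,1,0,2,0,1,0,2,0,1,0,1,0,1,0,2,0,1,0,2,0,1,0,1,0,1,0,2,0,1,0,2,0,1,0,1,0,1,0,2,0,1,0,2,0,1,0,1,0,1,0,2,0,1,0,2,0,1,0,1,0,1,0,2,0,1,0,2,0,1,0,1,0,1,0,2,0,1,0,1,0,2,0,1,0,2,0,2,0,2,0,1,0,1,0,1,0,2,0,1,0,1,0,1,0,1,0,1,0,2,0,1,0,2,0,1,0,1,0,1,0,2,0,1,0,1,0,2,0,1,0,2,0,1,0,2,0,1,0,2]),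
  (0,9,0,[]),
  (0,8,0,[]),
  (2,5,3,[0,2,0,2,0,2,0,2,0,2,0,1,0,1,0,1,0,2,0,2,0,2,0,2,0,2,0,2,0,1,0,1,0,1,0,2,0,1,0,1,0,1,0,1,0,1,0,2,0,1,0,2,0,1,0,1,0,1,0,2,0,1,0,2,0,1,0,1,0,1,0,2,0,1,0,1,0,2,0,1,0,2,0,2,0,2,0,1,0,1,0,1,0,2,0,1,0,1,0,1,0,1,0,1,0,2,0,1,0,2,0,1,0,1,0,1,0,2,0,1,0,1,0,2,0,1,0,2,0,2,0,2,0,1,0,1,0,1,0,2,0,1,0,1,0,1,0,1,0,1,0,2,0,1,0,2,0,1,0,1,0,1,0,2,0,1,0,2,0,1,0,1,0,1,0,2,0,1,0,2,0,1,0,1,0,1,0,2,0,1,0,1,0,2,0,1,0,2,0,2,0,2,0,1,0,2,0,2,0,1,0,2]),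
  (0,8,0,[]),
  (0,7,0,[]),
  (2,4,3,[0,2,0,2,0,2,0,2,0,2,0,1,0,1,0,1,0,2,0,2,0,1,0,1,0,1,0,1,0,1,0,1,0,2,0,1,0,1,0,2,0,1,0,2,0,2,0,2,0,1,0,1,0,1,0,2,0,1,0,1,0,1,0,1,0,1,0,2,0,1,0,2,0,1,0,1,0,1,0,2,0,1,0,2,0,1,0,1,0,1,0,2,0,1,0,2,0,1,0,1,0,1,0,2,0,1,0,2,0,1,0,1,0,1,0,2,0,1,0,2,0,1,0,1,0,1,0,2,0,1,0,1,0,2,0,1,0,2,0,2,0,2,0,1,0,1,0,1,0,2,0,1,0,1,0,1,0,1,0,1,0,2,0,1,0,1,0,2,0,1,0,2,0,2,0,2,0,1,0,1,0,1,0,2,0,1,0,1,0,1,0,1,0,1,0,2,0,1,0,1,0,2,0,1,0,2,0,2,0,2,0,1,0,2,0,2,0,1,0,2]),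
  (0,7,0,[]),
  (0,6,0,[]),
  (2,3,3,[0,2,0,2,0,2,0,2,0,2,0,1,0,1,0,1,0,2,0,2,0,2,0,2,0,2,0,2,0,1,0,1,0,1,0,2,0,1,0,1,0,1,0,1,0,1,0,2,0,1,0,2,0,1,0,1,0,1,0,2,0,1,0,2,0,1,0,1,0,1,0,2,0,1,0,1,0,2,0,1,0,2,0,2,0,2,0,1,0,1,0,1,0,2,0,1,0,1,0,1,0,1,0,1,0,2,0,1,0,2,0,1,0,1,0,1,0,2,0,1,0,2,0,1,0,1,0,1,0,2,0,1,0,2,0,1,0,1,0,1,0,2,0,1,0,2,0,1,0,1,0,1,0,2,0,1,0,2,0,1,0,1,0,1,0,2,0,1,0,2,0,1,0,1,0,1,0,2,0,1,0,1,0,2,0,1,0,2,0,2,0,2,0,1,0,1,0,1,0,2,0,1,0,1,0,1,0,1,0,1,0,2,0,1,0,2,0,1,0,1,0,1,0,2,0,1,0,1,0,2,0,1,0,2,0,1,0,2,0,1,0,2]),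
  (0,6,0,[]),
  (0,5,0,[]),
  (0,2,0,[]),
  (2,6,3,[0,2,0,2,0,2,0,2,0,2,0,1,0,1,0,1,0,2,0,2,0,1,0,1,0,1,0,1,0,1,0,1,0,2,0,1,0,1,0,2,0,1,0,2,0,2,0,2,0,1,0,1,0,1,0,2,0,1,0,1,0,1,0,1,0,1,0,2,0,1,0,2,0,1,0,1,0,1,0,2,0,1,0,2,0,1,0,1,0,1,0,2,0,1,0,2,0,1,0,1,0,1,0,2,0,1,0,2,0,1,0,1,0,1,0,2,0,1,0,2,0,1,0,1,0,1,0,2,0,1,0,1,0,2,0,1,0,2,0,2,0,2,0,1,0,1,0,1,0,2,0,1,0,1,0,1,0,1,0,1,0,2,0,1,0,2,0,1,0,1,0,1,0,2,0,1,0,2,0,1,0,1,0,1,0,2,0,1,0,1,0,2,0,1,0,2,0,2,0,2,0,1,0,1,0,1,0,1,0,2]),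
  (0,9,0,[]),
  (0,8,0,[]),
  (2,5,2,[0,1,0,1,0,1,0,1,0,1,0,1,0,1,0,2,0,1,0,1,0,2,0,1,0,2,0,2,0,2,0,1,0,1,0,1,0,2,0,1,0,1,0,1,0,1,0,1,0,2,0,1,0,2,0,1,0,1,0,1,0,2,0,1,0,1,0,2,0,1,0,2,0,2,0,2,0,1,0,1,0,1,0,2,0,1,0,1,0,1,0,1,0,1,0,2,0,1,0,2,0,1,0,1,0,1,0,2,0,1,0,1,0,2,0,1,0,2,0,2,0,2,0,1,0,1,0,1,0,2,0,1,0,1,0,1,0,1,0,1,0,2,0,1,0,1,0,2,0,2,0,2]),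
  (0,8,0,[]),
  (0,7,0,[]),
  (0,4,0,[]),
  (2,5,3,[0,2,0,2,0,2,0,2,0,2,0,1,0,1,0,1,0,2,0,2,0,2,0,2,0,2,0,2,0,1,0,1,0,1,0,2,0,1,0,1,0,1,0,1,0,1,0,2,0,1,0,2,0,1,0,1,0,1,0,2,0,1,0,1,0,2,0,1,0,2,0,2,0,2,0,1,0,1,0,1,0,2,0,1,0,1,0,1,0,1,0,1,0,2,0,1,0,2,0,1,0,1,0,1,0,2,0,1,0,2,0,1,0,1,0,1,0,2,0,1,0,2,0,1,0,1,0,1,0,2,0,1,0,2,0,1,0,1,0,1,0,2,0,1,0,2,0,1,0,1,0,1,0,2,0,1,0,2,0,1,0,1,0,1,0,2,0,1,0,1,0,2,0,2,0,1,0,2,0,2,0,2,0,2,0,1,0,1,0,2,0,2]),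
  (0,8,0,[]),
  (0,7,0,[]),
  (2,7,4,[2,0,1,0,1,0,2,0,1,0,1,0,1,0,2,0,2,0,1,0,1,0,1,0,1,0,1,0,2,0,1,0,1,0,2,0,1,0,2,0,2,0,2,0,1,0,1,0,1,0,2,0,1,0,1,0,1,0,1,0,1,0,2,0,1,0,2,0,1,0,1,0,1,0,2,0,1,0,2,0,1,0,1,0,1,0,2,0,1,0,2,0,1,0,1,0,1,0,2,0,1,0,2,0,1,0,1,0,1,0,2,0,1,0,1,0,2,0,1,0,2,0,2,0,2,0,1,0,1,0,1,0,2,0,1,0,1,0,1,0,1,0,1,0,2,0,1,0,2,0,1,0,1,0,1,0,2,0,1,0,1,0,2,0,1,0,2,0,2,0,2,0,1,0,1,0,1,0,1,0,1,0,2,0,1,0,1,0,2,0,2,0,2,0,1,0,1,0,1,0,1,0,2,0]),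
  (2,6,3,[0,2,0,2,0,2,0,2,0,2,0,1,0,1,0,1,0,2,0,2,0,1,0,1,0,1,0,1,0,1,0,1,0,2,0,1,0,2,0,1,0,1,0,1,0,2,0,1,0,2,0,1,0,1,0,1,0,2,0,1,0,2,0,1,0,1,0,1,0,2,0,1,0,2,0,1,0,1,0,1,0,2,0,1,0,2,0,1,0,1,0,1,0,2,0,1,0,1,0,2,0,2,0,1,0,2,0,1,0,1,0,2,0,2,0,2,0,1,0,1,0,1,0,1,0,2,0]),
  (0,9,0,[]),
  (0,8,0,[]),
  (2,5,3,[0,2,0,2,0,2,0,2,0,2,0,1,0,1,0,1,0,2,0,2,0,1,0,1,0,1,0,1,0,1,0,1,0,2,0,1,0,2,0,1,0,1,0,1,0,2,0,1,0,1,0,2,0,1,0,2,0,2,0,2,0,1,0,1,0,1,0,2,0,1,0,1,0,1,0,1,0,1,0,2,0,1,0,1,0,2,0,1,0,2,0,2,0,2,0,1,0,1,0,1,0,2,0,1,0,1,0,1,0,1,0,1,0,2,0,1,0,2,0,1,0,1,0,1,0,2,0,1,0,2,0,1,0,1,0,1,0,2,0,1,0,2,0,1,0,1,0,1,0,2,0,1,0,1,0,2,0,1,0,2,0,2,0,2,0,1,0,1,0,1,0,2,0,1,0,1,0,1,0,1,0,1,0,2,0,1,0,1,0,2,0,1,0,2,0,2,0,2,0,1,0,1,0,1,0,1,0,1,0,2,0,1,0,1,0,2,0,2,0,2,0,1,0,1,0,1,0,1,0,2,0]),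
  (0,8,0,[]),
  (0,7,0,[]),
  (2,4,3,[0,2,0,2,0,2,0,2,0,2,0,1,0,1,0,1,0,2,0,2,0,1,0,1,0,1,0,1,0,1,0,1,0,2,0,1,0,1,0,2,0,1,0,2,0,2,0,2,0,1,0,1,0,1,0,2,0,1,0,1,0,1,0,1,0,1,0,2,0,1,0,2,0,1,0,1,0,1,0,2,0,1,0,2,0,1,0,1,0,1,0,2,0,1,0,2,0,1,0,1,0,1,0,2,0,1,0,2,0,1,0,1,0,1,0,2,0,1,0,2,0,1,0,1,0,1,0,2,0,1,0,2,0,1,0,1,0,1,0,2,0,1,0,2,0,1,0,1,0,1,0,2,0,1,0,1,0,2,0,1,0,2,0,2,0,2,0,1,0,1,0,1,0,2,0,1,0,1,0,1,0,1,0,1,0,2,0,1,0,2,0,1,0,1,0,1,0,2,0,1,0,1,0,2,0,1,0,2,0,2,0,2,0,1,0,1,0,1,0,2,0,1,0,1,0,1,0,1,0,1,0,2,0,1,0,1,0,2,0,2,0,1,0,2,0,1,0,1,0,2,0,2,0,2,0,1,0,1,0,1,0,1,0,2,0]),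
  (0,7,0,[]),
  (0,6,0,[]),
  (2,3,3,[0,2,0,2,0,2,0,2,0,2,0,1,0,1,0,1,0,2,0,2,0,1,0,1,0,1,0,1,0,1,0,1,0,2,0,1,0,2,0,1,0,1,0,1,0,2,0,1,0,1,0,2,0,1,0,2,0,2,0,2,0,1,0,1,0,1,0,2,0,1,0,1,0,1,0,1,0,1,0,2,0,1,0,2,0,1,0,1,0,1,0,2,0,1,0,1,0,2,0,1,0,2,0,2,0,2,0,1,0,1,0,1,0,1,0,1,0,2,0,1,0,1,0,2,0,2,0,2,0,1,0,1,0,1,0,1,0,2,0]),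
  (0,6,0,[]),
  (0,5,0,[]),
  (2,2,3,[0,2,0,2,0,2,0,2,0,2,0,1,0,1,0,1,0,2,0,2,0,1,0,1,0,1,0,1,0,1,0,1,0,2,0,1,0,2,0,1,0,1,0,1,0,2,0,1,0,2,0,1,0,1,0,1,0,2,0,1,0,2,0,1,0,1,0,1,0,2,0,1,0,1,0,2,0,1,0,2,0,2,0,2,0,1,0,1,0,1,0,2,0,1,0,1,0,1,0,1,0,1,0,2,0,1,0,2,0,1,0,1,0,1,0,2,0,1,0,1,0,2,0,1,0,2,0,2,0,2,0,1,0,1,0,1,0,2,0,1,0,1,0,1,0,1,0,1,0,2,0,1,0,1,0,2,0,2,0,1,0,2,0,1,0,1,0,2,0,2,0,2,0,1,0,1,0,1,0,1,0,2,0]),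
  (0,5,0,[]),
  (0,4,0,[]),
  (2,7,3,[0,2,0,2,0,2,0,2,0,2,0,1,0,1,0,1,0,2,0,2,0,1,0,1,0,1,0,1,0,1,0,1,0,2,0,1,0,1,0,2,0,1,0,2,0,2,0,2,0,1,0,1,0,1,0,2,0,1,0,1,0,1,0,1,0,1,0,2,0,1,0,2,0,1,0,1,0,1,0,2,0,1,0,1,0,2,0,1,0,2,0,2,0,2,0,1,0,1,0,1,0,2,0,1,0,1,0,1,0,1,0,1,0,2,0,1,0,1,0,2,0,1,0,2,0,2,0,2,0,1,0,1,0,1,0,2,0,1,0,1,0,1,0,1,0,1,0,2,0,1,0,1,0,2,0,1,0,2,0,2,0,2,0,1,0,1,0,1,0,2,0,1,0,1,0,1,0,1,0,1,0,2,0,1,0,2,0,1,0,1,0,1,0,2,0,1,0,2,0,1,0,1,0,1,0,2,0,1,0,2,0,1,0,1,0,1,0,2,0,1,0,1,0,2,0,2,0,1]),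
  (0,10,0,[]),
  (0,9,0,[]),
  (2,6,3,[0,2,0,2,0,2,0,2,0,2,0,1,0,1,0,1,0,2,0,2,0,2,0,2,0,2,0,2,0,1,0,1,0,1,0,2,0,1,0,1,0,1,0,1,0,1,0,2,0,1,0,2,0,1,0,1,0,1,0,2,0,1,0,2,0,1,0,1,0,1,0,2,0,1,0,1,0,2,0,1,0,2,0,2,0,2,0,1,0,1,0,1,0,2,0,1,0,1,0,1,0,1,0,1,0,2,0,1,0,2,0,1,0,1,0,1,0,2,0,1,0,1,0,2,0,1,0,2,0,2,0,2,0,1,0,1,0,1,0,2,0,1,0,1,0,1,0,1,0,1,0,2,0,1,0,1,0,2,0,2,0,1]),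
  (0,9,0,[]),
  (0,8,0,[]),
  (2,5,3,[0,2,0,2,0,2,0,2,0,2,0,1,0,1,0,1,0,2,0,2,0,1,0,1,0,1,0,1,0,1,0,1,0,2,0,1,0,1,0,2,0,1,0,2,0,2,0,2,0,1,0,1,0,1,0,2,0,1,0,1,0,1,0,1,0,1,0,2,0,1,0,1,0,2,0,1,0,2,0,2,0,2,0,1,0,1,0,1,0,2,0,1,0,1,0,1,0,1,0,1,0,2,0,1,0,2,0,1,0,1,0,1,0,2,0,1,0,2,0,1,0,1,0,1,0,2,0,1,0,2,0,1,0,1,0,1,0,2,0,1,0,2,0,1,0,1,0,1,0,2,0,1,0,1,0,2,0,1,0,2,0,2,0,2,0,1,0,1,0,1,0,2,0,1,0,1,0,1,0,1,0,1,0,2,0,1,0,2,0,1,0,1,0,1,0,2,0,1,0,2,0,1,0,1,0,1,0,2,0,1,0,1,0,2,0,2,0,1]),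
  (0,8,0,[]),
  (0,7,0,[]),
  (2,4,2,[0,1,0,1,0,1,0,1,0,1,0,1,0,1,0,2,0,1,0,1,0,2,0,1,0,2,0,2,0,2,0,1,0,1,0,1,0,2,0,1,0,1,0,1,0,1,0,1,0,2,0,1,0,2,0,1,0,1,0,1,0,2,0,1,0,1,0,2,0,1,0,2,0,2,0,2,0,1,0,1,0,1,0,2,0,1,0,1,0,1,0,1,0,1,0,2,0,1,0,2,0,1,0,1,0,1,0,2,0,1,0,1,0,2,0,1,0,2,0,2,0,2,0,1,0,1,0,1,0,2,0,1,0,1,0,1,0,1,0,1,0,2,0,1,0,1,0,2,0,2,0,1]),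
  (0,7,0,[]),
  (0,6,0,[]),
  (0,3,0,[]),
  (0,6,0,[]),
  (2,6,4,[2,0,1,0,1,0,2,0,1,0,1,0,1,0,2,0,2,0,1,0,1,0,1,0,1,0,1,0,2,0,1,0,2,0,1,0,1,0,1,0,2,0,1,0,2,0,1,0,1,0,1,0,2,0,1,0,2,0,1,0,1,0,1,0,2,0,1,0,2,0,1,0,1,0,1,0,2,0,1,0,1,0,2,0,1,0,2,0,2,0,2,0,1,0,1,0,1,0,2,0,1,0,1,0,1,0,1,0,1,0,2,0,1,0,2,0,1,0,1,0,1,0,2,0,1,0,2,0,1,0,1,0,1,0,2,0,1,0,2,0,1,0,1,0,1,0,2,0,1,0,1,0,2,0,1,0,2,0,2,0,2,0,1,0,1,0,1,0,2,0,1,0,1,0,1,0,1,0,1,0,2,0,1,0,2,0,1,0,1,0,1,0,2,0,1,0,1,0,2,0,1,0,2,0,2,0,2,0,1,0,1,0,1,0,2,0]),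
  (2,5,3,[0,2,0,2,0,2,0,2,0,2,0,1,0,1,0,1,0,2,0,2,0,2,0,2,0,2,0,2,0,1,0,1,0,1,0,2,0,1,0,1,0,1,0,1,0,1,0,2,0,1,0,2,0,1,0,1,0,1,0,2,0,1,0,1,0,2,0,1,0,2,0,2,0,2,0,1,0,1,0,1,0,2,0,1,0,1,0,1,0,1,0,1,0,2,0,1,0,2,0,1,0,1,0,1,0,2,0,1,0,1,0,2,0,1,0,2,0,2,0,2,0,1,0,1,0,1,0,2,0,1,0,1,0,1,0,1,0,1,0,2,0,1,0,2,0,1,0,1,0,1,0,2,0,1,0,1,0,2,0,1,0,2,0,2,0,2,0,1,0,1,0,1,0,2,0,1,0,1,0,1,0,1,0,1,0,2,0,1,0,2,0,1,0,1,0,1,0,2,0,1,0,1,0,2,0,1,0,2,0,2,0,2,0,1,0,1,0,1,0,2,0]),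
  (0,8,0,[]),
  (0,7,0,[]),
  (2,4,1,[0,1,0,2,0,2,0,2,0,2,0,1,0,1,0,1,0,2,0,1,0,1,0,1,0,1,0,1,0,2,0,1,0,1,0,2,0,1,0,2,0,2,0,2,0,1,0,1,0,1,0,2,0,1,0,1,0,1,0,1,0,1,0,2,0,1,0,2,0,1,0,1,0,1,0,2,0,1,0,2,0,1,0,1,0,1,0,2,0,1,0,1,0,2,0,1,0,2,0,2,0,2,0,1,0,1,0,1,0,2,0,1,0,1,0,1,0,1,0,1,0,2,0,1,0,1,0,2,0,1,0,2,0,2,0,2,0,1,0,1,0,1,0,2,0,1,0,1,0,1,0,1,0,1,0,2,0,1,0,1,0,2,0,1,0,2,0,2,0,2,0,1,0,1,0,1,0,2,0]),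
  (0,7,0,[]),
  (0,6,0,[]),
  (2,3,3,[0,2,0,2,0,2,0,2,0,2,0,1,0,1,0,1,0,2,0,2,0,1,0,1,0,1,0,1,0,1,0,1,0,2,0,1,0,2,0,1,0,1,0,1,0,2,0,1,0,1,0,2,0,1,0,2,0,2,0,2,0,1,0,1,0,1,0,2,0,1,0,1,0,1,0,1,0,1,0,2,0,1,0,1,0,2,0,1,0,2,0,2,0,2,0,1,0,1,0,1,0,2,0,1,0,1,0,1,0,1,0,1,0,2,0,1,0,1,0,2,0,1,0,2,0,2,0,2,0,1,0,1,0,1,0,2,0]),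
  (0,6,0,[]),
  (0,5,0,[]),
  (2,2,3,[0,2,0,2,0,2,0,2,0,2,0,1,0,1,0,1,0,2,0,2,0,1,0,1,0,1,0,1,0,1,0,1,0,2,0,1,0,1,0,2,0,1,0,2,0,2,0,2,0,1,0,1,0,1,0,2,0,1,0,1,0,1,0,1,0,1,0,2,0,1,0,1,0,2,0,1,0,2,0,2,0,2,0,1,0,1,0,1,0,2,0,1,0,1,0,1,0,1,0,1,0,2,0,1,0,2,0,1,0,1,0,1,0,2,0,1,0,2,0,1,0,1,0,1,0,2,0,1,0,2,0,1,0,1,0,1,0,2,0,1,0,2,0,1,0,1,0,1,0,2,0,1,0,1,0,2,0,1,0,2,0,2,0,2,0,1,0,1,0,1,0,2,0,1,0,1,0,1,0,1,0,1,0,2,0,1,0,1,0,2]),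
  (0,5,0,[]),
  (0,4,0,[]),
  (2,1,3,[0,2,0,2,0,2,0,2,0,2,0,1,0,1,0,1,0,2,0,2,0,1,0,1,0,1,0,1,0,1,0,1,0,2,0,1,0,2,0,1,0,1,0,1,0,2,0,1,0,1,0,2,0,1,0,2,0,2,0,2,0,1,0,1,0,1,0,2,0,1,0,1,0,1,0,1,0,1,0,2,0,1,0,2,0,1,0,1,0,1,0,2,0,1,0,2,0,1,0,1,0,1,0,2,0,1,0,1,0,2,0,1,0,2,0,2,0,2,0,1,0,1,0,1,0,2,0,1,0,1,0,1,0,1,0,1,0,2,0,1,0,2,0,1,0,1,0,1,0,2,0,1,0,1,0,2,0,1,0,2,0,2,0,2,0,1,0,1,0,1,0,2,0,1,0,1,0,1,0,1,0,1,0,2,0,1,0,2,0,1,0,1,0,1,0,2,0,1,0,1,0,2,0,1,0,2,0,2,0,2,0,1,0,1,0,1,0,2,0,1,0,1,0,1,0,1,0,1,0,2,0,1,0,2,0,1,0,1,0,1,0,2,0,1,0,1,0,2]),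
  (0,4,0,[]),
  (0,3,0,[]),
  (0,0,0,[]),
  (2,4,2,[0,1,0,2,0,2,0,2,0,2,0,1,0,1,0,1,0,2,0,1,0,1,0,1,0,1,0,1,0,2,0,1,0,1,0,2,0,1,0,2,0,2,0,2,0,1,0,1,0,1,0,2,0,1,0,1,0,1,0,1,0,1,0,2,0,1,0,1,0,2,0,1,0,2,0,2,0,2,0,1,0,1,0,1,0,2,0,1,0,1,0,1,0,1,0,1,0,2,0,1,0,1,0,2,0,2]),
  (0,7,0,[]),
  (0,6,0,[]),
  (2,3,3,[0,2,0,2,0,2,0,2,0,2,0,1,0,1,0,1,0,2,0,2,0,1,0,1,0,1,0,1,0,1,0,1,0,2,0,1,0,2,0,1,0,1,0,1,0,2,0,1,0,1,0,2,0,1,0,2,0,2,0,2,0,1,0,1,0,1,0,2,0,1,0,1,0,1,0,1,0,1,0,2,0,1,0,2,0,1,0,1,0,1,0,2,0,1,0,2,0,1,0,1,0,1,0,2,0,1,0,1,0,2,0,1,0,2,0,2,0,2,0,1,0,1,0,1,0,2,0,1,0,1,0,1,0,1,0,1,0,2,0,1,0,2,0,1,0,1,0,1,0,2,0,1,0,1,0,2,0,1,0,2,0,2,0,2,0,1,0,1,0,1,0,2,0,1,0,1,0,1,0,1,0,1,0,2,0,1,0,2,0,1,0,1,0,1,0,2,0,1,0,1,0,2,0,1,0,2,0,2,0,2,0,1,0,1,0,1,0,2,0,1,0,1,0,1,0,1,0,1,0,2,0,1,0,2,0,1,0,1,0,1,0,2,0,1,0,1,0,2,0,2]),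
  (0,6,0,[]),
  (0,5,0,[]),
  (0,2,0,[]),
  (2,5,4,[2,0,1,0,1,0,2,0,1,0,1,0,1,0,1,0,2,0,2,0,1,0,1,0,1,0,2,0,1,0,1,0,1,0,1,0,1,0,2,0,1,0,2,0,1,0,1,0,1,0,2,0,1,0,2,0,1,0,1,0,1,0,2,0,1,0,2,0,1,0,1,0,1,0,2,0,1,0,2,0,1,0,1,0,1,0,2,0,1,0,2,0,1,0,1,0,1,0,2,0,1,0,2,0,1,0,1,0,1,0,2,0,1,0,1,0,2,0,1,0,2,0,2,0,2,0,1,0,1,0,1,0,2,0,1,0,1,0,1,0,1,0,1,0,2,0,1,0,2,0,1,0,1,0,1,0,2,0,1,0,2,0,1,0,1,0,1,0,2,0,1,0,2,0,1,0,1,0,1,0,2,0,1,0,1,0,2,0,1,0,2,0,2,0,2,0,1,0,1,0,1,0,2,0,1,0,2,0,1,0,2,0,2,0,1,0,2,0]),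
  (2,4,3,[0,2,0,2,0,2,0,2,0,2,0,1,0,1,0,1,0,2,0,2,0,2,0,2,0,2,0,2,0,1,0,1,0,1,0,2,0,1,0,1,0,1,0,1,0,1,0,2,0,1,0,2,0,1,0,1,0,1,0,2,0,1,0,2,0,1,0,1,0,1,0,2,0,1,0,2,0,1,0,1,0,1,0,2,0,1,0,1,0,2,0,1,0,2,0,2,0,2,0,1,0,1,0,1,0,2,0,1,0,1,0,1,0,1,0,1,0,2,0,1,0,1,0,2,0,1,0,2,0,2,0,2,0,1,0,1,0,1,0,2,0,1,0,1,0,1,0,1,0,1,0,2,0,1,0,1,0,2,0,1,0,2,0,2,0,2,0,1,0,1,0,1,0,2,0,1,0,1,0,1,0,1,0,1,0,2,0,1,0,2,0,1,0,1,0,1,0,2,0,1,0,1,0,2,0,1,0,2,0,2,0,2,0,1,0,1,0,1,0,2,0,1,0,2,0,1,0,2,0,2,0,1,0,2,0]),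
  (0,7,0,[]),
  (0,6,0,[]),
  (2,3,3,[0,2,0,2,0,2,0,2,0,2,0,1,0,1,0,1,0,2,0,2,0,1,0,1,0,1,0,1,0,1,0,1,0,2,0,1,0,2,0,1,0,1,0,1,0,2,0,1,0,2,0,1,0,1,0,1,0,2,0,1,0,2,0,1,0,1,0,1,0,2,0,1,0,1,0,2,0,1,0,2,0,2,0,2,0,1,0,1,0,1,0,2,0,1,0,1,0,1,0,1,0,1,0,2,0,1,0,1,0,2,0,1,0,2,0,2,0,2,0,1,0,1,0,1,0,2,0,1,0,1,0,1,0,1,0,1,0,2,0,1,0,1,0,2,0,1,0,2,0,2,0,2,0,1,0,1,0,1,0,2,0,1,0,1,0,1,0,1,0,1,0,2,0,1,0,2,0,1,0,1,0,1,0,2,0,1,0,1,0,2,0,1,0,2,0,2,0,2,0,1,0,1,0,1,0,2,0,1,0,2,0,1,0,2,0,2,0,1,0,2,0]),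
  (0,6,0,[]),
  (0,5,0,[]),
  (2,2,2,[0,1,0,1,0,1,0,1,0,1,0,1,0,1,0,2,0,1,0,1,0,2,0,1,0,2,0,2,0,2,0,1,0,1,0,1,0,2,0,1,0,2,0,1,0,2,0,2,0,1,0,2,0]),
  (0,5,0,[]),
  (0,4,0,[]),
  (2,1,3,[0,2,0,2,0,2,0,2,0,2,0,1,0,1,0,1,0,2,0,2,0,2,0,2,0,2,0,2,0,1,0,1,0,1,0,2,0,1,0,1,0,1,0,1,0,1,0,2,0,1,0,2,0,1,0,1,0,1,0,2,0,1,0,2,0,1,0,1,0,1,0,2,0,1,0,1,0,2,0,1,0,2,0,2,0,2,0,1,0,1,0,1,0,2,0,1,0,1,0,1,0,1,0,1,0,2,0,1,0,2,0,1,0,1,0,1,0,2,0,1,0,1,0,2,0,1,0,2,0,2,0,2,0,1,0,1,0,1,0,2,0,1,0,1,0,1,0,1,0,1,0,2,0,1,0,1,0,2,0,1,0,2,0,2,0,2,0,1,0,1,0,1,0,2,0,1,0,1,0,1,0,1,0,1,0,2,0,1,0,2,0,1,0,1,0,1,0,2,0,1,0,1,0,2,0,1,0,2,0,2,0,2,0,1,0,1,0,1,0,2,0,1,0,1,0,1,0,1,0,1,0,2,0,1,0,1,0,2,0,1,0,2,0,2,0,2,0,1,0,1,0,1,0,2,0,1,0,2,0,1,0,2,0,2,0,1,0,2,0]),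
  (0,4,0,[]),
  (0,3,0,[]),
  (2,0,3,[0,2,0,2,0,2,0,2,0,2,0,1,0,1,0,1,0,2,0,2,0,2,0,2,0,2,0,2,0,1,0,1,0,1,0,2,0,1,0,1,0,1,0,1,0,1,0,2,0,1,0,1,0,2,0,1,0,2,0,2,0,2,0,1,0,1,0,1,0,2,0,1,0,1,0,1,0,1,0,1,0,2,0,1,0,1,0,2,0,1,0,2,0,2,0,2,0,1,0,1,0,1,0,2,0,1,0,1,0,1,0,1,0,1,0,2,0,1,0,1,0,2,0,1,0,2,0,2,0,2,0,1,0,1,0,1,0,2,0,1,0,1,0,1,0,1,0,1,0,2,0,1,0,2,0,1,0,1,0,1,0,2,0,1,0,2,0,1,0,1,0,1,0,2,0,1,0,1,0,2,0,1,0,2,0,2,0,2,0,1,0,1,0,1,0,2,0,1,0,2,0,1,0,2,0,2,0,1,0,2,0]),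
  (0,3,0,[]),
  (0,2,0,[]),
  (2,5,3,[0,2,0,2,0,2,0,2,0,2,0,1,0,1,0,1,0,2,0,2,0,1,0,1,0,1,0,1,0,1,0,1,0,2,0,1,0,2,0,1,0,1,0,1,0,2,0,1,0,1,0,2,0,1,0,2,0,2,0,2,0,1,0,1,0,1,0,2,0,1,0,1,0,1,0,1,0,1,0,2,0,1,0,2,0,1,0,1,0,1,0,2,0,1,0,2,0,1,0,1,0,1,0,2,0,1,0,1,0,2,0,1,0,2,0,2,0,2,0,1,0,1,0,1,0,2,0,1,0,1,0,1,0,1,0,1,0,2,0,1,0,2,0,1,0,1,0,1,0,2,0,1,0,2,0,1,0,1,0,1,0,2,0,1,0,2,0,1,0,1,0,1,0,2,0,1,0,1,0,2,0,2,0,1,0,2,0,1,0,1,0,2,0,2,0,2,0,1,0,1,0,1,0,1,0,2,0]),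
  (0,8,0,[]),
  (0,7,0,[]),
  (2,4,3,[0,2,0,2,0,2,0,2,0,2,0,1,0,1,0,1,0,2,0,2,0,1,0,1,0,1,0,1,0,1,0,1,0,2,0,1,0,2,0,1,0,1,0,1,0,2,0,1,0,1,0,2,0,1,0,2,0,2,0,2,0,1,0,1,0,1,0,2,0,1,0,1,0,1,0,1,0,1,0,2,0,1,0,1,0,2,0,1,0,2,0,2,0,2,0,1,0,1,0,1,0,2,0,1,0,1,0,1,0,1,0,1,0,2,0,1,0,2,0,1,0,1,0,1,0,2,0,1,0,2,0,1,0,1,0,1,0,2,0,1,0,2,0,1,0,1,0,1,0,2,0,1,0,1,0,2,0,1,0,2,0,2,0,2,0,1,0,1,0,1,0,2,0,1,0,1,0,1,0,1,0,1,0,2,0,1,0,1,0,2,0,1,0,2,0,2,0,2,0,1,0,1,0,1,0,1,0,1,0,2,0,1,0,1,0,2,0,2,0,2,0,1,0,1,0,1,0,1,0,2,0]),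
  (0,7,0,[]),
  (0,6,0,[]),
  (2,3,3,[0,2,0,2,0,2,0,2,0,2,0,1,0,1,0,1,0,2,0,2,0,1,0,1,0,1,0,1,0,1,0,1,0,2,0,1,0,1,0,2,0,1,0,2,0,2,0,2,0,1,0,1,0,1,0,2,0,1,0,1,0,1,0,1,0,1,0,2,0,1,0,2,0,1,0,1,0,1,0,2,0,1,0,2,0,1,0,1,0,1,0,2,0,1,0,2,0,1,0,1,0,1,0,2,0,1,0,2,0,1,0,1,0,1,0,2,0,1,0,2,0,1,0,1,0,1,0,2,0,1,0,2,0,1,0,1,0,1,0,2,0,1,0,2,0,1,0,1,0,1,0,2,0,1,0,1,0,2,0,1,0,2,0,2,0,2,0,1,0,1,0,1,0,2,0,1,0,1,0,1,0,1,0,1,0,2,0,1,0,2,0,1,0,1,0,1,0,2,0,1,0,1,0,2,0,1,0,2,0,2,0,2,0,1,0,1,0,1,0,2,0,1,0,1,0,1,0,1,0,1,0,2,0,1,0,1,0,2,0,2,0,1,0,2,0,1,0,1,0,2,0,2,0,2,0,1,0,1,0,1,0,1,0,2,0]),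
  (0,6,0,[]),
  (0,5,0,[]),
  (0,2,0,[]),
  (2,4,1,[0,1,0,1,0,1,0,1,0,1,0,1,0,1,0,2,0,1,0,2,0,1,0,1,0,1,0,2,0,1,0,2,0,1,0,1,0,1,0,2,0,1,0,1,0,2,0,1,0,2,0,2,0,2,0,1,0,1,0,1,0,2,0,1,0,1,0,1,0,1,0,1,0,2,0,1,0,2,0,1,0,1,0,1,0,2,0,1,0,2,0,1,0,1,0,1,0,2,0,1,0,2,0,1,0,1,0,1,0,2,0,1,0,1,0,2,0,2,0,1,0,2,0,2,0,2,0,2,0,1,0,1,0,2,0,2]),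
  (0,7,0,[]),
  (0,6,0,[]),
  (0,3,0,[]),
  (2,4,4,[2,0,1,0,1,0,2,0,1,0,1,0,1,0,2,0,2,0,1,0,1,0,1,0,1,0,1,0,2,0,1,0,2,0,1,0,1,0,1,0,2,0,1,0,2,0,1,0,1,0,1,0,2,0,1,0,1,0,2,0,1,0,2,0,2,0,2,0,1,0,1,0,1,0,2,0,1,0,1,0,1,0,1,0,1,0,2,0,1,0,2,0,1,0,1,0,1,0,2,0,1,0,2,0,1,0,1,0,1,0,2,0,1,0,2,0,1,0,1,0,1,0,2,0,1,0,2,0,1,0,1,0,1,0,2,0,1,0,2,0,1,0,1,0,1,0,2,0,1,0,2,0,1,0,1,0,1,0,2,0,1,0,2,0,1,0,1,0,1,0,2,0,2,0,2,0,2,0,1,0,2,0]),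
  (2,3,3,[0,2,0,2,0,2,0,2,0,2,0,1,0,1,0,1,0,2,0,2,0,2,0,2,0,2,0,2,0,1,0,1,0,1,0,2,0,1,0,1,0,1,0,1,0,1,0,2,0,1,0,2,0,1,0,1,0,1,0,2,0,1,0,2,0,1,0,1,0,1,0,2,0,1,0,2,0,1,0,1,0,1,0,2,0,1,0,1,0,2,0,1,0,2,0,2,0,2,0,1,0,1,0,1,0,2,0,1,0,1,0,1,0,1,0,1,0,2,0,1,0,1,0,2,0,1,0,2,0,2,0,2,0,1,0,1,0,1,0,2,0,1,0,1,0,1,0,1,0,1,0,2,0,1,0,1,0,2,0,1,0,2,0,2,0,2,0,1,0,1,0,1,0,2,0,1,0,1,0,1,0,1,0,1,0,2,0,1,0,2,0,1,0,1,0,1,0,2,0,1,0,1,0,2,0,1,0,2,0,2,0,2,0,1,0,1,0,1,0,2,0,1,0,2,0,1,0,2,0,2,0,1,0,2,0]),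
  (0,6,0,[]),
  (0,5,0,[]),
  (2,2,2,[0,1,0,1,0,1,0,1,0,1,0,1,0,1,0,2,0,1,0,1,0,2,0,1,0,2,0,2,0,2,0,1,0,1,0,1,0,2,0,1,0,2,0,1,0,2,0,2,0,1,0,2,0]),
  (0,5,0,[]),
  (0,4,0,[]),
  (2,1,3,[0,2,0,2,0,2,0,2,0,2,0,1,0,1,0,1,0,2,0,2,0,2,0,2,0,2,0,2,0,1,0,1,0,1,0,2,0,1,0,1,0,1,0,1,0,1,0,2,0,1,0,1,0,2,0,1,0,2,0,2,0,2,0,1,0,1,0,1,0,2,0,1,0,1,0,1,0,1,0,1,0,2,0,1,0,1,0,2,0,1,0,2,0,2,0,2,0,1,0,1,0,1,0,2,0,1,0,1,0,1,0,1,0,1,0,2,0,1,0,1,0,2,0,1,0,2,0,2,0,2,0,1,0,1,0,1,0,2,0,1,0,1,0,1,0,1,0,1,0,2,0,1,0,2,0,1,0,1,0,1,0,2,0,1,0,2,0,1,0,1,0,1,0,2,0,1,0,1,0,2,0,1,0,2,0,2,0,2,0,1,0,1,0,1,0,2,0,1,0,2,0,1,0,2,0,2,0,1,0,2,0]),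
  (0,4,0,[]),
  (0,3,0,[]),
  (0,0,0,[]),
  (2,2,2,[0,1,0,1,0,1,0,1,0,1,0,1,0,1,0,2,0,1,0,2,0,1,0,1,0,1,0,2,0,1,0,2,0,1,0,1,0,1,0,2,0,1,0,2,0,1,0,1,0,1,0,2,0,1,0,2,0,1,0,1,0,1,0,2,0,1,0,2,0,1,0,1,0,1,0,2,0,1,0,2,0,1,0,1,0,1,0,2,0,1,0,1,0,2,0,1,0,2,0,2,0,2,0,1,0,1,0,1,0,2,0,1,0,1,0,1,0,1,0,1,0,2,0,1,0,1,0,2,0,1,0]),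
  (0,5,0,[]),
  (0,4,0,[]),
  (2,1,3,[0,2,0,2,0,2,0,2,0,2,0,1,0,1,0,1,0,2,0,2,0,1,0,1,0,1,0,1,0,1,0,1,0,2,0,1,0,1,0,2,0,1,0,2,0,2,0,2,0,1,0,1,0,1,0,2,0,1,0,1,0,1,0,1,0,1,0,2,0,1,0,2,0,1,0,1,0,1,0,2,0,1,0,1,0,2,0,1,0,2,0,2,0,2,0,1,0,1,0,1,0,2,0,1,0,1,0,1,0,1,0,1,0,2,0,1,0,2,0,1,0,1,0,1,0,2,0,1,0,1,0,2,0,1,0,2,0,2,0,2,0,1,0,1,0,1,0,2,0,1,0,1,0,1,0,1,0,1,0,2,0,1,0,2,0,1,0,1,0,1,0,2,0,1,0,1,0,2,0,1,0,2,0,2,0,2,0,1,0,1,0,1,0,2,0,1,0,1,0,1,0,1,0,1,0,2,0,1,0,2,0,1,0,1,0,1,0,2,0,1,0,2,0,1,0,1,0,1,0,2,0,1,0,1,0,2,0,1,0,2,0,2,0,2,0,1,0,1,0,1]),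
  (0,4,0,[]),
  (0,3,0,[]),
  (0,0,0,[]),
  (2,1,3,[0,2,0,2,0,2,0,2,0,2,0,1,0,1,0,1,0,2,0,2,0,1,0,1,0,1,0,1,0,1,0,1,0,2,0,1,0,1,0,2,0,1,0,2,0,2,0,2,0,1,0,1,0,1,0,2,0,1,0,1,0,1,0,1,0,1,0,2,0,1,0,1,0,2,0,1,0,2,0,2,0,2,0,1,0,1,0,1,0,2,0,1,0,1,0,1,0,1,0,1,0,2,0,1,0,2,0,1,0,1,0,1,0,2,0,1,0,2,0,1,0,1,0,1,0,2,0,1,0,2,0,1,0,1,0,1,0,2,0,1,0,1,0,2,0,1,0,2,0,2,0,2,0,1,0,1,0,1,0,2,0,1,0,1,0,1,0,1,0,1,0,2,0,1,0,2,0,1,0,1,0,1,0,2,0,1,0,2,0,1,0,1,0,1,0,2,0,1,0,2,0,1,0,1,0,1,0,2,0,1,0,1,0,2,0,1,0,2,0,2,0,2,0,1,0,1,0,1,0,2,0,1,0,1,0,1,0,1,0,1,0,2,0,1,0,1,0,2,0,1,0,2,0,2,0,2,0,1,0,1,0,1,0,1,0,1,0,2,0,1,0,1,0,2,0,2,0,2,0,2,0]),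
  (0,4,0,[]),
  (0,3,0,[]),
  (2,3,4,[2,0,1,0,1,0,2,0,1,0,1,0,1,0,2,0,2,0,1,0,1,0,1,0,1,0,1,0,2,0,1,0,2,0,1,0,1,0,1,0,2,0,1,0,1,0,2,0,1,0,2,0,2,0,2,0,1,0,1,0,1,0,2,0,1,0,1,0,1,0,1,0,1,0,2,0,1,0,2,0,1,0,1,0,1,0,2,0,1,0,2,0,1,0,1,0,1,0,2,0,1,0,1,0,2,0,1,0,2,0,2,0,2,0,1,0,1,0,1,0,2,0,1,0,1,0,1,0,1,0,1,0,2,0,1,0,1,0,2,0,1,0,2,0,2,0,2,0,1,0,1,0,1,0,2,0,1,0,1,0,1,0,1,0,1,0,2,0,1,0,2,0,1,0,1,0,1,0,2,0,1,0,1,0,2,0,1,0,2,0,2,0,2,0,1,0,1,0,1,0,2,0,1,0,1,0,1,0,1,0,1,0,2,0,1,0,2,0,1,0,1,0,1,0,2,0,1,0,1,0,2,0]),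
  (2,2,3,[0,2,0,2,0,2,0,2,0,2,0,1,0,1,0,1,0,2,0,2,0,1,0,1,0,1,0,1,0,1,0,1,0,2,0,1,0,1,0,2,0,1,0,2,0,2,0,2,0,1,0,1,0,1,0,2,0,1,0,1,0,1,0,1,0,1,0,2,0,1,0,2,0,1,0,1,0,1,0,2,0,1,0,1,0,2,0,1,0,2,0,2,0,2,0,1,0,1,0,1,0,2,0,1,0,1,0,1,0,1,0,1,0,2,0,1,0,2,0,1,0,1,0,1,0,2,0,1,0,2,0,1,0,1,0,1,0,2,0,1,0,1,0,2,0,1,0,2,0,2,0,2,0,1,0,1,0,1,0,2,0,1,0,1,0,1,0,1,0,1,0,2,0,1,0,2,0,1,0,1,0,1,0,2,0,1,0,1,0,2,0]),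
  (0,5,0,[]),
  (0,4,0,[]),
  (2,1,3,[0,2,0,2,0,2,0,2,0,2,0,1,0,1,0,1,0,2,0,2,0,2,0,2,0,2,0,2,0,1,0,1,0,1,0,2,0,1,0,1,0,1,0,1,0,1,0,2,0,1,0,2,0,1,0,1,0,1,0,2,0,1,0,2,0,1,0,1,0,1,0,2,0,1,0,2,0,1,0,1,0,1,0,2,0,1,0,2,0,1,0,1,0,1,0,2,0,1,0,1,0,2,0,1,0,2,0,2,0,2,0,1,0,1,0,1,0,2,0,1,0,1,0,1,0,1,0,1,0,2,0,1,0,2,0,1,0,1,0,1,0,2,0,1,0,1,0,2,0,1,0,2,0,2,0,2,0,1,0,1,0,1,0,2,0,1,0,1,0,1,0,1,0,1,0,2,0,1,0,1,0,2,0]),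
  (0,4,0,[]),
  (0,3,0,[]),
  (0,0,0,[]),
  (2,1,3,[0,2,0,2,0,2,0,2,0,2,0,1,0,1,0,1,0,2,0,2,0,1,0,1,0,1,0,1,0,1,0,1,0,2,0,1,0,1,0,2,0,1,0,2,0,2,0,2,0,1,0,1,0,1,0,2,0,1,0,1,0,1,0,1,0,1,0,2,0,1,0,1,0,2,0,1,0,2,0,2,0,2,0,1,0,1,0,1,0,2,0,1,0,1,0,1,0,1,0,1,0,2,0,1,0,2,0,1,0,1,0,1,0,2,0,1,0,2,0,1,0,1,0,1,0,2,0,1,0,2,0,1,0,1,0,1,0,2,0,1,0,1,0,2,0,1,0,2,0,2,0,2,0,1,0,1,0,1,0,2,0,1,0,1,0,1,0,1,0,1,0,2,0,1,0,2,0,1,0,1,0,1,0,2,0,1,0,2,0,1,0,1,0,1,0,2,0,1,0,2,0,1,0,1,0,1,0,2,0,1,0,1,0,2,0,1,0,2,0,2,0,2,0,1,0,1,0,1,0,2,0,1,0,1,0,1,0,1,0,1,0,2,0,1,0,1,0,2,0,1,0,2,0,2,0,2,0,1,0,1,0,1,0,1,0,1,0,2,0,1,0,1,0,2,0,2,0,2,0,2,0]),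
  (0,4,0,[]),
  (0,3,0,[]),
  (0,0,0,[]),
  (0,0,0,[])],
[
  (1,1,0,[0,1,0,1,0]),
  (1,2,0,[0,1,0,1]),
  (1,3,0,[0,1]),
  (1,4,0,[]),
  (2,0,3,[0,2,0,2,0,2,0,2,0,2,0,1,0,1,0,1,0,2,0,2,0,2,0,2,0,2,0,2,0,1,0,1,0,1,0,2,0,1,0,1,0,1,0,1,0,1,0,2,0,1,0,2,0,1,0,1,0,1,0,2,0,1,0,2,0,1,0,1,0,1,0,2,0,1,0,1,0,2,0,1,0,2,0,2,0,2,0,1,0,1,0,1,0,2,0,1,0,1,0,1,0,1,0,1,0,2,0,1,0,2,0,1,0,1,0,1,0,2,0,1,0,2,0,1,0,1,0,1,0,2,0,1,0,2,0,1,0,1,0,1,0,2,0,1,0,2,0,1,0,1,0,1,0,2,0,1,0,2,0,1,0,1,0,1,0,2,0,1,0,1,0,2,0,1,0,2,0,2,0,2,0,1,0,1,0,1,0,2,0,1,0,1,0,1,0,1,0,1,0,2,0,1,0,1,0,2,0,1,0,2,0,2,0,2,0,1,0,1,0,1,0,2,0,1,0,1,0,1,0,1,0,1,0,2,0,1,0,1,0,2]),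
  (0,3,0,[]),
  (0,2,0,[]),
  (2,3,3,[0,2,0,2,0,2,0,2,0,2,0,1,0,1,0,1,0,2,0,2,0,1,0,1,0,1,0,1,0,1,0,1,0,2,0,1,0,2,0,1,0,1,0,1,0,2,0,1,0,2,0,1,0,1,0,1,0,2,0,1,0,1,0,2,0,1,0,2,0,2,0,2,0,1,0,1,0,1,0,2,0,1,0,1,0,1,0,1,0,1,0,2,0,1,0,1,0,2,0,1,0,2,0,2,0,2,0,1,0,1,0,1,0,2,0,1,0,1,0,1,0,1,0,1,0,2,0,1,0,2,0,1,0,1,0,1,0,2,0,1,0,2,0,1,0,1,0,1,0,2,0,1,0,2,0,1,0,1,0,1,0,2,0,1,0,2,0,1,0,1,0,1,0,2,0,1,0,2,0,1,0,1,0,1,0,2,0,1,0,1,0,2,0,2,0,2,0]),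
  (0,6,0,[]),
  (0,5,0,[]),
  (2,2,3,[0,2,0,2,0,2,0,2,0,2,0,1,0,1,0,1,0,2,0,2,0,2,0,2,0,2,0,2,0,1,0,1,0,1,0,2,0,1,0,1,0,1,0,1,0,1,0,2,0,1,0,2,0,1,0,1,0,1,0,2,0,1,0,2,0,1,0,1,0,1,0,2,0,1,0,2,0,1,0,1,0,1,0,2,0,1,0,2,0,1,0,1,0,1,0,2,0,1,0,2,0,1,0,1,0,1,0,2,0,1,0,2,0,1,0,1,0,1,0,2,0,1,0,2,0,1,0,1,0,1,0,2,0,1,0,2,0,1,0,1,0,1,0,2,0,1,0,1,0,2,0,1,0,2,0,2,0,2,0,1,0,1,0,1,0,2,0,1,0,1,0,1,0,1,0,1,0,2,0,1,0,1,0,2,0,1,0,2,0,2,0,2,0,1,0,1,0,1,0,1,0,2,0]),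
  (0,5,0,[]),
  (0,4,0,[]),
  (2,5,4,[2,0,1,0,1,0,2,0,1,0,1,0,1,0,2,0,2,0,1,0,1,0,1,0,1,0,1,0,2,0,1,0,2,0,1,0,1,0,1,0,2,0,1,0,2,0,1,0,1,0,1,0,2,0,1,0,2,0,1,0,1,0,1,0,2,0,1,0,2,0,1,0,1,0,1,0,2,0,1,0,2,0,1,0,1,0,1,0,2,0,1,0,2,0,1,0,1,0,1,0,2,0,1,0,2,0,1,0,1,0,1,0,2,0,1,0,1,0,2,0,1,0,2,0,2,0,2,0,1,0,1,0,1,0,2,0,1,0,1,0,1,0,1,0,1,0,2,0,1,0,2,0,1,0,1,0,1,0,2,0,1,0,2,0,1,0,1,0,1,0,2,0,1,0,1,0,2,0,1,0,2,0,2,0,2,0,1,0,1,0,1,0,2,0]),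
  (2,4,3,[0,2,0,2,0,2,0,2,0,2,0,1,0,1,0,1,0,2,0,2,0,2,0,2,0,2,0,2,0,1,0,1,0,1,0,2,0,1,0,1,0,1,0,1,0,1,0,2,0,1,0,2,0,1,0,1,0,1,0,2,0,1,0,2,0,1,0,1,0,1,0,2,0,1,0,2,0,1,0,1,0,1,0,2,0,1,0,2,0,1,0,1,0,1,0,2,0,1,0,1,0,2,0,1,0,2,0,2,0,2,0,1,0,1,0,1,0,2,0,1,0,1,0,1,0,1,0,1,0,2,0,1,0,2,0,1,0,1,0,1,0,2,0,1,0,2,0,1,0,1,0,1,0,2,0,1,0,1,0,2]),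
  (0,7,0,[]),
  (0,6,0,[]),
  (2,3,1,[0,1,0,2,0,2,0,2,0,2,0,1,0,1,0,1,0,2,0,1,0,1,0,1,0,1,0,1,0,2,0,1,0,1,0,2,0,1,0,2,0,2,0,2,0,1,0,1,0,1,0,2,0,1,0,1,0,1,0,1,0,1,0,2,0,1,0,2,0,1,0,1,0,1,0,2,0,1,0,2,0,1,0,1,0,1,0,2,0,1,0,1,0,2,0,1,0,2,0,2,0,2,0,1,0,1,0,1,0,2,0,1,0,1,0,1,0,1,0,1,0,2,0,1,0,1,0,2,0,1,0,2,0,2,0,2,0,1,0,1,0,1,0,2,0,1,0,1,0,1,0,1,0,1,0,2,0,1,0,1,0,2,0,1,0,2,0,2,0,2,0,1,0,1,0,1,0,2,0]),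
  (0,6,0,[]),
  (0,5,0,[]),
  (2,2,2,[0,1,0,1,0,1,0,1,0,1,0,1,0,1,0,2,0,1,0,2,0,1,0,1,0,1,0,2,0,1,0,2,0,1,0,1,0,1,0,2,0,1,0,1,0,2,0,1,0,2,0,2,0,2,0,1,0,1,0,1,0,2,0,1,0,1,0,1,0,1,0,1,0,2,0,1,0,1,0,2]),
  (0,5,0,[]),
  (0,4,0,[]),
  (2,1,3,[0,2,0,2,0,2,0,2,0,2,0,1,0,1,0,1,0,2,0,2,0,2,0,2,0,2,0,2,0,1,0,1,0,1,0,2,0,1,0,1,0,1,0,1,0,1,0,2,0,1,0,2,0,1,0,1,0,1,0,2,0,1,0,2,0,1,0,1,0,1,0,2,0,1,0,1,0,2,0,1,0,2,0,2,0,2,0,1,0,1,0,1,0,2,0,1,0,1,0,1,0,1,0,1,0,2,0,1,0,2,0,1,0,1,0,1,0,2,0,1,0,2,0,1,0,1,0,1,0,2,0,1,0,2,0,1,0,1,0,1,0,2,0,1,0,2,0,1,0,1,0,1,0,2,0,1,0,2,0,1,0,1,0,1,0,2,0,1,0,1,0,2,0,1,0,2,0,2,0,2,0,1,0,1,0,1,0,2,0,1,0,1,0,1,0,1,0,1,0,2,0,1,0,1,0,2,0,1,0,2,0,2,0,2,0,1,0,1,0,1,0,2,0,1,0,1,0,1,0,1,0,1,0,2,0,1,0,1,0,2]),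
  (0,4,0,[]),
  (0,3,0,[]),
  (0,0,0,[]),
  (2,3,3,[0,2,0,2,0,2,0,2,0,2,0,1,0,1,0,1,0,2,0,2,0,1,0,1,0,1,0,1,0,1,0,1,0,2,0,1,0,2,0,1,0,1,0,1,0,2,0,1,0,1,0,2,0,1,0,2,0,2,0,2,0,1,0,1,0,1,0,2,0,1,0,1,0,1,0,1,0,1,0,2,0,1,0,1,0,2,0,1,0,2,0,2,0,2,0,1,0,1,0,1,0,2,0,1,0,1,0,1,0,1,0,1,0,2,0,1,0,2,0,1,0,1,0,1,0,2,0,1,0,1,0,2,0,1,0,2,0,2,0,2,0,1,0,1,0,1,0,2,0,1,0,1,0,1,0,1,0,1,0,2,0,1,0,1,0,2,0,1,0,2,0,2,0,2,0,1,0,1,0,1,0,2,0,1,0,1,0,1,0,1,0,1,0,2,0,1,0,1,0,2,0,1,0,2,0,1,0,1,0,1,0,2]),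
  (0,6,0,[]),
  (0,5,0,[]),
  (2,2,2,[0,1,0,1,0,1,0,1,0,1,0,1,0,1,0,2,0,1,0,2,0,1,0,1,0,1,0,2,0,1,0,2,0,1,0,1,0,1,0,2,0,1,0,1,0,2,0,1,0,2,0,2,0,2,0,1,0,1,0,1,0,2,0,1,0,1,0,1,0,1,0,1,0,2,0,1,0,1,0,2,0,1,0,2,0,2,0,2,0,1,0,2,0,1,0,1,0,2]),
  (0,5,0,[]),
  (0,4,0,[]),
  (2,1,3,[0,2,0,2,0,2,0,2,0,2,0,1,0,1,0,1,0,2,0,2,0,2,0,2,0,2,0,2,0,1,0,1,0,1,0,2,0,1,0,1,0,1,0,1,0,1,0,2,0,1,0,2,0,1,0,1,0,1,0,2,0,1,0,2,0,1,0,1,0,1,0,2,0,1,0,2,0,1,0,1,0,1,0,2,0,1,0,2,0,1,0,1,0,1,0,2,0,1,0,1,0,2,0,1,0,2,0,2,0,2,0,1,0,1,0,1,0,2,0,1,0,1,0,1,0,1,0,1,0,2,0,1,0,1,0,2,0,1,0,2,0,1,0,1,0,1,0,2]),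
  (0,4,0,[]),
  (0,3,0,[]),
  (0,0,0,[]),
  (2,2,3,[0,2,0,2,0,2,0,2,0,2,0,1,0,1,0,1,0,2,0,2,0,1,0,1,0,1,0,1,0,1,0,1,0,2,0,1,0,2,0,1,0,1,0,1,0,2,0,1,0,2,0,1,0,1,0,1,0,2,0,1,0,2,0,1,0,1,0,1,0,2,0,1,0,2,0,1,0,1,0,1,0,2,0,1,0,1,0,2,0,1,0,2,0,2,0,2,0,1,0,1,0,1,0,2,0,1,0,1,0,1,0,1,0,1,0,2,0,1,0,1,0,2,0,1,0,2,0,2,0,2,0,1,0,1,0,1,0,2,0,1,0,1,0,1,0,1,0,1,0,2,0,1,0,1,0,1,0,2,0,1,0,2,0,1,0,2,0]),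
  (0,5,0,[]),
  (0,4,0,[]),
  (2,4,4,[2,0,1,0,1,0,2,0,1,0,1,0,1,0,2,0,2,0,1,0,1,0,1,0,1,0,1,0,2,0,1,0,2,0,1,0,1,0,1,0,2,0,1,0,2,0,1,0,1,0,1,0,2,0,1,0,2,0,1,0,1,0,1,0,2,0,1,0,1,0,2,0,1,0,2,0,2,0,2,0,1,0,1,0,1,0,2,0,1,0,1,0,1,0,1,0,1,0,2,0,1,0,1,0,2,0,1,0,2,0,2,0,2,0,1,0,1,0,1,0,2,0,1,0,1,0,1,0,1,0,1,0,2,0,1,0,1,0,2,0,1,0,2,0,2,0,2,0,1,0,1,0,1,0,2,0,1,0,1,0,1,0,1,0,1,0,2,0,1,0,1,0,2,0,1,0,2,0,2,0,2,0,1,0,1,0,1,0,2,0,1,0,1,0,1,0,1,0,1,0,2,0,1,0,2,0,1,0,1,0,1,0,2,0,1,0,2,0,1,0,1,0,1,0,2,0,1,0,1,0,2,0,1,0,2,0,2,0,2,0,1,0,1,0,1,0,2,0,1,0,1,0,1,0,1,0,1,0,2,0,1,0,1,0,2,0,2,0,1,0,1,0,2,0,2,0,2,0,2,0,1,0,2,0,2,0,1,0,2,0,2]),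
  (2,3,3,[0,2,0,2,0,2,0,2,0,2,0,1,0,1,0,1,0,2,0,2,0,2,0,2,0,2,0,2,0,1,0,1,0,1,0,2,0,1,0,1,0,1,0,1,0,1,0,2,0,1,0,1,0,2,0,1,0,2,0,2,0,2,0,1,0,1,0,1,0,2,0,1,0,1,0,1,0,1,0,1,0,2,0,1,0,1,0,2,0,1,0,2,0,2,0,2,0,1,0,1,0,1,0,2,0,1,0,1,0,1,0,1,0,1,0,2,0,1,0,1,0,2,0,1,0,2,0,2,0,2,0,1,0,1,0,1,0,2,0,1,0,1,0,1,0,1,0,1,0,2,0,1,0,1,0,2,0,1,0,2,0,2,0,2,0,1,0,1,0,1,0,2,0,1,0,1,0,1,0,1,0,1,0,2,0,1,0,2,0,1,0,1,0,1,0,2,0,1,0,2,0,1,0,1,0,1,0,2,0,1,0,2,0,1,0,1,0,1,0,2,0,1,0,1,0,2,0,1,0,2,0,2,0,2,0,1,0,1,0,1,0,1,0,1,0,1,0,2,0,2,0,2,0,2,0,1,0,2,0,2,0,1,0,2,0,2]),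
  (0,6,0,[]),
  (0,5,0,[]),
  (2,2,3,[0,2,0,2,0,2,0,2,0,2,0,1,0,1,0,1,0,2,0,2,0,1,0,1,0,1,0,1,0,1,0,1,0,2,0,1,0,2,0,1,0,1,0,1,0,2,0,1,0,1,0,2,0,1,0,2,0,2,0,2,0,1,0,1,0,1,0,2,0,1,0,1,0,1,0,1,0,1,0,2,0,1,0,2,0,1,0,1,0,1,0,2,0,1,0,2,0,1,0,1,0,1,0,2,0,1,0,1,0,2,0,1,0,2,0,2,0,2,0,1,0,1,0,1,0,2,0,1,0,1,0,1,0,1,0,1,0,2,0,1,0,1,0,2,0,1,0,2,0,2,0,2,0,1,0,1,0,1,0,2,0,1,0,1,0,1,0,1,0,1,0,2,0,1,0,2,0,1,0,1,0,1,0,2,0,1,0,1,0,2,0,1,0,2,0,2,0,2,0,1,0,1,0,1,0,2,0,1,0,1,0,1,0,1,0,1,0,2,0,1,0,2,0,1,0,1,0,1,0,2,0,1,0,1,0,2,0,1,0,2,0,2,0,2,0,1,0,1,0,1,0,1,0,1,0,1,0,2,0,2,0,2,0,2,0,1,0,2,0,2,0,1,0,2,0,2]),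
  (0,5,0,[]),
  (0,4,0,[]),
  (2,1,3,[0,2,0,2,0,2,0,2,0,2,0,1,0,1,0,1,0,2,0,2,0,2,0,2,0,2,0,2,0,1,0,1,0,1,0,2,0,1,0,1,0,1,0,1,0,1,0,2,0,1,0,1,0,2,0,1,0,2,0,2,0,2,0,1,0,1,0,1,0,2,0,1,0,1,0,1,0,1,0,1,0,2,0,1,0,1,0,2,0,1,0,2,0,2,0,2,0,1,0,1,0,1,0,2,0,1,0,1,0,1,0,1,0,1,0,2,0,1,0,2,0,1,0,1,0,1,0,2,0,1,0,2,0,1,0,1,0,1,0,2,0,1,0,2,0,1,0,1,0,1,0,2,0,1,0,2,0,1,0,1,0,1,0,2,0,1,0,1,0,2,0,1,0,2,0,2,0,2,0,1,0,1,0,1,0,2,0,1,0,1,0,1,0,1,0,1,0,2,0,1,0,1,0,2,0,2,0,1,0,1,0,2,0,2,0,2,0,2,0,1,0,2,0,2,0,1,0,2,0,2]),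
  (0,4,0,[]),
  (0,3,0,[]),
  (2,4,3,[0,2,0,2,0,2,0,2,0,2,0,1,0,1,0,1,0,2,0,2,0,1,0,1,0,1,0,1,0,1,0,1,0,2,0,1,0,2,0,1,0,1,0,1,0,2,0,1,0,2,0,1,0,1,0,1,0,2,0,1,0,2,0,1,0,1,0,1,0,2,0,1,0,2,0,1,0,1,0,1,0,2,0,1,0,1,0,2,0,1,0,2,0,2,0,2,0,1,0,1,0,1,0,2,0,1,0,1,0,1,0,1,0,1,0,2,0,1,0,1,0,2,0,1,0,2,0,2,0,2,0,1,0,1,0,1,0,2,0,1,0,1,0,1,0,1,0,1,0,2,0,1,0,1,0,1,0,2,0,1,0,2,0,1,0,2,0]),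
  (0,7,0,[]),
  (0,6,0,[]),
  (0,3,0,[]),
  (0,3,0,[]),
  (2,3,4,[2,0,1,0,1,0,2,0,1,0,1,0,1,0,2,0,2,0,1,0,1,0,1,0,1,0,1,0,2,0,1,0,2,0,1,0,1,0,1,0,2,0,1,0,1,0,2,0,1,0,2,0,2,0,2,0,1,0,1,0,1,0,2,0,1,0,1,0,1,0,1,0,1,0,2,0,1,0,1,0,2,0,1,0,2,0,2,0,2,0,1,0,1,0,1,0,2,0,1,0,1,0,1,0,1,0,1,0,2,0,1,0,2,0,1,0,1,0,1,0,2,0,1,0,2,0,1,0,1,0,1,0,2,0,1,0,1,0,2,0,1,0,2,0,2,0,2,0,1,0,1,0,1,0,2,0,1,0,1,0,1,0,1,0,1,0,2,0,1,0,1,0,2,0,1,0,2,0,2,0,2,0,1,0,1,0,1,0,2,0,1,0,1,0,1,0,1,0,1,0,2,0,1,0,1,0,2,0,2,0,2,0]),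
  (2,2,3,[0,2,0,2,0,2,0,2,0,2,0,1,0,1,0,1,0,2,0,2,0,2,0,2,0,2,0,2,0,1,0,1,0,1,0,2,0,1,0,1,0,1,0,1,0,1,0,2,0,1,0,2,0,1,0,1,0,1,0,2,0,1,0,2,0,1,0,1,0,1,0,2,0,1,0,2,0,1,0,1,0,1,0,2,0,1,0,2,0,1,0,1,0,1,0,2,0,1,0,2,0,1,0,1,0,1,0,2,0,1,0,2,0,1,0,1,0,1,0,2,0,1,0,2,0,1,0,1,0,1,0,2,0,1,0,2,0,1,0,1,0,1,0,2,0,1,0,1,0,2,0,1,0,2,0,2,0,2,0,1,0,1,0,1,0,2,0,1,0,1,0,1,0,1,0,1,0,2,0,1,0,1,0,2,0,1,0,2,0,2,0,2,0,1,0,1,0,1,0,1,0,2,0]),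
  (0,5,0,[]),
  (0,4,0,[]),
  (2,1,3,[0,2,0,2,0,2,0,2,0,2,0,1,0,1,0,1,0,2,0,2,0,2,0,2,0,2,0,2,0,1,0,1,0,1,0,2,0,1,0,1,0,1,0,1,0,1,0,2,0,1,0,1,0,2,0,1,0,2,0,2,0,2,0,1,0,1,0,1,0,2,0,1,0,1,0,1,0,1,0,1,0,2,0,1,0,2,0,1,0,1,0,1,0,2,0,1,0,2,0,1,0,1,0,1,0,2,0,1,0,1,0,2,0,1,0,2,0,2,0,2,0,1,0,1,0,1,0,2,0,1,0,1,0,1,0,1,0,1,0,2,0,1,0,2,0,1,0,1,0,1,0,2,0,1,0,2,0,1,0,1,0,1,0,2,0,1,0,2,0,1,0,1,0,1,0,2,0,1,0,2,0,1,0,1,0,1,0,2,0,1,0,1,0,2,0,2,0,2,0]),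
  (0,4,0,[]),
  (0,3,0,[]),
  (0,0,0,[]),
  (2,1,3,[0,2,0,2,0,2,0,2,0,2,0,1,0,1,0,1,0,2,0,2,0,2,0,2,0,2,0,2,0,1,0,1,0,1,0,2,0,1,0,1,0,1,0,1,0,1,0,2,0,1,0,1,0,2,0,1,0,2,0,2,0,2,0,1,0,1,0,1,0,2,0,1,0,1,0,1,0,1,0,1,0,2,0,1,0,1,0,2,0,1,0,2,0,2,0,2,0,1,0,1,0,1,0,2,0,1,0,1,0,1,0,1,0,1,0,2,0,1,0,2,0,1,0,1,0,1,0,2,0,1,0,2,0,1,0,1,0,1,0,2,0,1,0,2,0,1,0,1,0,1,0,2,0,1,0,2,0,1,0,1,0,1,0,2,0,1,0,1,0,2,0,1,0,2,0,2,0,2,0,1,0,1,0,1,0,2,0,1,0,1,0,1,0,1,0,1,0,2,0,1,0,1,0,2,0,2,0,1,0,1,0,2,0,2,0,2,0,2,0,1,0,2,0,2,0,1,0,2,0,2]),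
  (0,4,0,[]),
  (0,3,0,[]),
  (0,0,0,[]),
  (0,0,0,[])],
[
  (1,1,0,[0,1,0,1,0]),
  (1,2,0,[0,1,0,1]),
  (2,0,1,[0,1,0,1,0,1,0,1,0,1,0,1,0,1,0,2,0,1,0,2,0,1,0,1,0,1,0,2,0,1,0,1,0,2,0,1,0,2,0,2,0,2,0,1,0,1,0,1,0,2,0,1,0,1,0,1,0,1,0,1,0,2,0,1,0,1,0,2,0,1,0,2,0,2,0,2,0,1,0,1,0,1,0,2,0,1,0,1,0,1,0,1,0,1,0,2,0,1,0,2,0,1,0,1,0,1,0,2,0,1,0,1,0,2]),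
  (0,3,0,[]),
  (0,2,0,[]),
  (2,3,0,[1,0,1,0,2,0,1,0,1,0,1,0,2,0,1,0,2,0,1,0,1,0,1,0,2,0,1,0,2,0,1,0,1,0,1,0,2,0,1,0,2,0,1,0,1,0,1,0,2,0,1,0,2,0,1,0,1,0,1,0,2,0,1,0,1,0,2,0,1,0,2,0,2,0,2,0,1,0,1,0,1,0,2,0]),
  (2,2,1,[0,1,0,2,0,2,0,2,0,2,0,1,0,1,0,1,0,2,0,1,0,1,0,1,0,1,0,1,0,2,0,1,0,1,0,2,0,1,0,2,0,2,0,2,0,1,0,1,0,1,0,2,0,1,0,1,0,1,0,1,0,1,0,2,0,1,0,2,0,1,0,1,0,1,0,2,0,1,0,2,0,1,0,1,0,1,0,2,0,1,0,1,0,2,0,1,0,2,0,2,0,2,0,1,0,1,0,1,0,2,0,1,0,1,0,1,0,1,0,1,0,2,0,1,0,1,0,2,0,1,0,2,0,2,0,2,0,1,0,1,0,1,0,2,0,1,0,1,0,1,0,1,0,1,0,2,0,1,0,1,0,2,0,1,0,2,0,2,0,2,0,1,0,1,0,1,0,2,0]),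
  (0,5,0,[]),
  (0,4,0,[]),
  (2,1,1,[0,1,0,1,0,1,0,1,0,1,0,1,0,1,0,2,0,1,0,2,0,1,0,1,0,1,0,2,0,1,0,1,0,2,0,1,0,2,0,2,0,2,0,1,0,1,0,1,0,2,0,1,0,1,0,1,0,1,0,1,0,2,0,1,0,1,0,2,0,1,0,2,0,2,0,2,0,1,0,1,0,1,0,2,0,1,0,1,0,1,0,1,0,1,0,2,0,1,0,2,0,1,0,1,0,1,0,2,0,1,0,1,0,2]),
  (0,4,0,[]),
  (0,3,0,[]),
  (0,0,0,[]),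
  (2,1,1,[0,1,0,2,0,2,0,2,0,2,0,1,0,1,0,1,0,2,0,1,0,1,0,1,0,1,0,1,0,2,0,1,0,2,0,1,0,1,0,1,0,2,0,1,0,1,0,2,0,1,0,2,0,2,0,2,0,1,0,1,0,1,0,2,0,1,0,1,0,1,0,1,0,1,0,2,0,1,0,2,0,1,0,1,0,1,0,2,0,1,0,1,0,2,0,1,0,2,0,2,0,2,0,1,0,1,0,1,0,2,0,1,0,1,0,1,0,1,0,1,0,2,0,1,0,2,0,1,0,1,0,1,0,2,0,1,0,1,0,2,0,1,0,2,0,2,0,2,0,1,0,1,0,1,0,2,0,1,0,1,0,2,0,1,0,1,0,1,0,2,0,1,0,2]),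
  (0,4,0,[]),
  (0,3,0,[]),
  (0,0,0,[]),
  (0,0,0,[])],
[
  (1,1,0,[0,1,0,2,0,1]),
  (1,2,0,[0,1,0,1]),
  (1,3,0,[0,2,0]),
  (1,4,0,[0,1,0]),
  (1,5,0,[0,2]),
  (1,6,0,[0]),
  (2,0,3,[0,2,0,2,0,2,0,2,0,2,0,1,0,1,0,1,0,2,0,2,0,2,0,2,0,2,0,2,0,1,0,1,0,1,0,2,0,1,0,1,0,1,0,1,0,1,0,2,0,1,0,1,0,2,0,1,0,2,0,2,0,2,0,1,0,1,0,1,0,2,0,1,0,1,0,1,0,1,0,1,0,2,0,1,0,2,0,1,0,1,0,1,0,2,0,1,0,2,0,1,0,1,0,1,0,2,0,1,0,2,0,1,0,1,0,1,0,2,0,1,0,2,0,1,0,1,0,1,0,2,0,1,0,1,0,2,0,1,0,2,0,2,0,2,0,1,0,1,0,1,0,2,0,1,0,1,0,1,0,1,0,1,0,2,0,1,0,1,0,2,0,1,0,2,0,2,0,2,0,1,0,1,0,1,0,2,0,1,0,1,0,1,0,1,0,1,0,2,0,1,0,2,0,1,0,1,0,1,0,2,0,1,0,1,0,2,0,1,0,1]),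
  (0,3,0,[]),
  (0,2,0,[]),
  (2,1,2,[0,1,0,1,0,1,0,1,0,1,0,1,0,1,0,2,0,1,0,2,0,1,0,1,0,1,0,2,0,1,0,2,0,1,0,1,0,1,0,2,0,1,0,1,0,2,0,1,0,2,0,2,0,2,0,1,0,1,0,1,0,2,0,1,0,1,0,1,0,1,0,1,0,2,0,1,0,1,0,2,0,1,0,2,0,2,0,2,0,1,0,1,0,1,0,2,0,1,0,1,0,1,0,1,0,1,0,2,0,1,0,2,0,1,0,1,0,1,0,2,0,1,0,1,0,2,0,1,0,2,0,2,0,2,0,1,0,1,0,1,0,2]),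
  (0,4,0,[]),
  (0,3,0,[]),
  (2,3,3,[0,2,0,2,0,2,0,2,0,2,0,1,0,1,0,1,0,2,0,2,0,1,0,1,0,1,0,1,0,1,0,1,0,2,0,1,0,1,0,2,0,1,0,2,0,2,0,2,0,1,0,1,0,1,0,2,0,1,0,1,0,1,0,1,0,1,0,2,0,1,0,2,0,1,0,1,0,1,0,2,0,1,0,2,0,1,0,1,0,1,0,2,0,1,0,2,0,1,0,1,0,1,0,2,0,1,0,2,0,1,0,1,0,1,0,2,0,1,0,2,0,1,0,1,0,1,0,2,0,1,0,1,0,2,0,1,0,2,0,2,0,2,0,1,0,1,0,1,0,2,0,1,0,1,0,1,0,1,0,1,0,2,0,1,0,2,0,1,0,1,0,1,0,2,0,1,0,2,0,1,0,1,0,1,0,2,0,1,0,1,0,2,0,1,0,2,0,2,0,2,0,1,0,1,0,1,0,1]),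
  (0,6,0,[]),
  (0,5,0,[]),
  (2,2,2,[0,1,0,1,0,1,0,1,0,1,0,1,0,1,0,2,0,1,0,2,0,1,0,1,0,1,0,2,0,1,0,1,0,2,0,1,0,2,0,2,0,2,0,1,0,1,0,1,0,2,0,1,0,1,0,1,0,1,0,1,0,2,0,1,0,1,0,2,0,1,0,2,0,2,0,2,0,1,0,1,0,1,0,2,0,1,0,1,0,1,0,1,0,1,0,2,0,1,0,1,0,2,0,1,0,2,0,2,0,2,0,1,0,1,0,1,0,2,0,1,0,1,0,1,0,1,0,1,0,2,0,1,0,2,0,1,0,1,0,1,0,2,0,1,0,1,0,2,0,2]),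
  (0,5,0,[]),
  (0,4,0,[]),
  (2,1,3,[0,2,0,2,0,2,0,2,0,2,0,1,0,1,0,1,0,2,0,2,0,1,0,1,0,1,0,1,0,1,0,1,0,2,0,1,0,2,0,1,0,1,0,1,0,2,0,1,0,1,0,2,0,1,0,2,0,2,0,2,0,1,0,1,0,1,0,2,0,1,0,1,0,1,0,1,0,1,0,2,0,1,0,2,0,1,0,1,0,1,0,2,0,1,0,2,0,1,0,1,0,1,0,2,0,1,0,1,0,2,0,1,0,2,0,2,0,2,0,1,0,1,0,1,0,2,0,1,0,1,0,1,0,1,0,1,0,2,0,1,0,2,0,1,0,1,0,1,0,2,0,1,0,1,0,2,0,1,0,2,0,2,0,2,0,1,0,1,0,1,0,2,0,1,0,1,0,1,0,1,0,1,0,2,0,1,0,2,0,1,0,1,0,1,0,2,0,1,0,1,0,2,0,1,0,2,0,2,0,2,0,1,0,1,0,1,0,2,0,1,0,1,0,1,0,1,0,1,0,2,0,1,0,2,0,1,0,1,0,1,0,2,0,1,0,1,0,2,0,2]),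
  (0,4,0,[]),
  (0,3,0,[]),
  (2,4,3,[0,2,0,2,0,2,0,2,0,2,0,1,0,1,0,1,0,2,0,2,0,1,0,1,0,1,0,1,0,1,0,1,0,2,0,1,0,1,0,2,0,1,0,2,0,2,0,2,0,1,0,1,0,1,0,2,0,1,0,1,0,1,0,1,0,1,0,2,0,1,0,1,0,2,0,1,0,2,0,2,0,2,0,1,0,1,0,1,0,2,0,1,0,1,0,1,0,1,0,1,0,2,0,1,0,2,0,1,0,1,0,1,0,2,0,1,0,2,0,1,0,1,0,1,0,2,0,1,0,2,0,1,0,1,0,1,0,2,0,1,0,1,0,2,0,1,0,2,0,2,0,2,0,1,0,1,0,1,0,2,0,1,0,1,0,1,0,1,0,1,0,2,0,1,0,2,0,1,0,1,0,1,0,2,0,1,0,2,0,1,0,1,0,1,0,2,0,1,0,2,0,1,0,1,0,1,0,2,0,1,0,1,0,2,0,2,0,1]),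
  (0,7,0,[]),
  (0,6,0,[]),
  (2,3,1,[0,1,0,2,0,2,0,2,0,2,0,1,0,1,0,1,0,2,0,1,0,1,0,1,0,1,0,1,0,2,0,1,0,2,0,1,0,1,0,1,0,2,0,1,0,1,0,2,0,1,0,2,0,2,0,2,0,1,0,1,0,1,0,2,0,1,0,1,0,1,0,1,0,1,0,2,0,1,0,1,0,2,0,1,0,2,0,2,0,2,0,1,0,1,0,1,0,2,0,1,0,1,0,1,0,1,0,1,0,2,0,1,0,1,0,2,0,1,0,2,0,2,0,2,0,1,0,1,0,1,0,1,0,1]),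
  (0,6,0,[]),
  (0,5,0,[]),
  (2,2,3,[0,2,0,2,0,2,0,2,0,2,0,1,0,1,0,1,0,2,0,2,0,1,0,1,0,1,0,1,0,1,0,1,0,2,0,1,0,1,0,2,0,1,0,2,0,2,0,2,0,1,0,1,0,1,0,2,0,1,0,1,0,1,0,1,0,1,0,2,0,1,0,1,0,2,0,1,0,2,0,2,0,2,0,1,0,1,0,1,0,2,0,1,0,1,0,1,0,1,0,1,0,2,0,1,0,2,0,1,0,1,0,1,0,2,0,1,0,2,0,1,0,1,0,1,0,2,0,1,0,2,0,1,0,1,0,1,0,2,0,1,0,2,0,1,0,1,0,1,0,2,0,1,0,1,0,2,0,1,0,2,0,2,0,2,0,1,0,1,0,1,0,2,0,1,0,1,0,1,0,1,0,1,0,2,0,1,0,2,0,1,0,1,0,1,0,2,0,1,0,2,0,1,0,1,0,1,0,2,0,1,0,1,0,2,0,2,0,1]),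
  (0,5,0,[]),
  (0,4,0,[]),
  (2,1,2,[0,1,0,1,0,1,0,1,0,1,0,1,0,1,0,2,0,1,0,1,0,2,0,1,0,2,0,2,0,2,0,1,0,1,0,1,0,2,0,1,0,1,0,1,0,1,0,1,0,2,0,1,0,2,0,1,0,1,0,1,0,2,0,1,0,1,0,2,0,1,0,2,0,2,0,2,0,1,0,1,0,1,0,2,0,1,0,1,0,1,0,1,0,1,0,2,0,1,0,2,0,1,0,1,0,1,0,2,0,1,0,1,0,2,0,1,0,2,0,2,0,2,0,1,0,1,0,1,0,2,0,1,0,1,0,1,0,1,0,1,0,2,0,1,0,1,0,2,0,2,0,1]),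
  (0,4,0,[]),
  (0,3,0,[]),
  (2,5,3,[0,2,0,2,0,2,0,2,0,2,0,1,0,1,0,1,0,2,0,2,0,2,0,2,0,2,0,2,0,1,0,1,0,1,0,2,0,1,0,1,0,1,0,1,0,1,0,2,0,1,0,1,0,2,0,1,0,2,0,2,0,2,0,1,0,1,0,1,0,2,0,1,0,1,0,1,0,1,0,1,0,2,0,1,0,1,0,2,0,1,0,2,0,2,0,2,0,1,0,1,0,1,0,2,0,1,0,1,0,1,0,1,0,1,0,2,0,1,0,2,0,1,0,1,0,1,0,2,0,1,0,1,0,2,0,1,0,2,0,2,0,2,0,1,0,1,0,1,0,2,0,1,0,1,0,1,0,1,0,1,0,2,0,1,0,2,0,1,0,1,0,1,0,2,0,1,0,2,0,1,0,1,0,1,0,2,0,1,0,1,0,2,0,1,0,2,0,2,0,2,0,1,0,1,0,1,0,2,0,1,0,1,0,1,0,1,0,1,0,2,0,1,0,2,0,1,0,1,0,1,0,2,0,1,0,2,0,1,0,1,0,1,0,2,0,1,0,1,0,2,0,2,0,2]),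
  (0,8,0,[]),
  (0,7,0,[]),
  (2,4,2,[0,1,0,2,0,2,0,2,0,2,0,1,0,1,0,1,0,2,0,1,0,1,0,1,0,1,0,1,0,2,0,1,0,2,0,1,0,1,0,1,0,2,0,1,0,1,0,2,0,1,0,2,0,2,0,2,0,1,0,1,0,1,0,2,0,1,0,1,0,1,0,1,0,1,0,2,0,1,0,1,0,2,0,1,0,2,0,2,0,2,0,1,0,1,0,1,0,2,0,1,0,1,0,1,0,1,0,1,0,2,0,1,0,2,0,1,0,1,0,1,0,2,0,1,0,2,0,1,0,1,0,1,0,2,0,1,0,2,0,1,0,1,0,1,0,2,0,1,0,1,0,2,0,1,0,2,0,2,0,2,0,1,0,1,0,1,0,1,0,2]),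
  (0,7,0,[]),
  (0,6,0,[]),
  (2,3,2,[0,1,0,1,0,1,0,1,0,1,0,1,0,1,0,2,0,1,0,1,0,2,0,1,0,2,0,2,0,2,0,1,0,1,0,1,0,2,0,1,0,1,0,1,0,1,0,1,0,2,0,1,0,2,0,1,0,1,0,1,0,2,0,1,0,1,0,2,0,1,0,2,0,2,0,2,0,1,0,1,0,1,0,2,0,1,0,1,0,1,0,1,0,1,0,2,0,1,0,2,0,1,0,1,0,1,0,2,0,1,0,1,0,2,0,1,0,2,0,2,0,2,0,1,0,1,0,1,0,2,0,1,0,1,0,1,0,1,0,1,0,2,0,1,0,1,0,2,0,2,0,2]),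
  (0,6,0,[]),
  (0,5,0,[]),
  (2,7,4,[2,0,1,0,1,0,2,0,1,0,1,0,1,0,1,0,2,0,2,0,1,0,1,0,1,0,2,0,1,0,1,0,1,0,1,0,1,0,2,0,1,0,2,0,1,0,1,0,1,0,2,0,1,0,2,0,1,0,1,0,1,0,2,0,1,0,2,0,1,0,1,0,1,0,2,0,1,0,2,0,1,0,1,0,1,0,2,0,1,0,1,0,2,0,1,0,2,0,2,0,2,0,1,0,1,0,1,0,2,0,1,0,1,0,1,0,1,0,1,0,2,0,1,0,2,0,1,0,1,0,1,0,2,0,1,0,2,0,1,0,1,0,1,0,2,0,1,0,1,0,2,0,1,0,2,0,2,0,2,0,1,0,1,0,1,0,1,0,1,0,2,0,1,0,1,0,2,0,2,0,2,0,1,0,1,0,1,0,1,0,2]),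
  (2,6,3,[0,2,0,2,0,2,0,2,0,2,0,1,0,1,0,1,0,2,0,2,0,1,0,1,0,1,0,1,0,1,0,1,0,2,0,1,0,2,0,1,0,1,0,1,0,2,0,1,0,2,0,1,0,1,0,1,0,2,0,1,0,2,0,1,0,1,0,1,0,2,0,1,0,1,0,2,0,1,0,2,0,2,0,2,0,1,0,1,0,1,0,2,0,1,0,1,0,1,0,1,0,1,0,2,0,1,0,2,0,1,0,1,0,1,0,2,0,1,0,1,0,2,0,1,0,2,0,2,0,2,0,1,0,1,0,1,0,2,0,1,0,1,0,1,0,1,0,1,0,2,0,1,0,1,0,2,0,2,0,1,0,2,0,1,0,1,0,2,0,2,0,2,0,1,0,1,0,1,0,1,0,2]),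
  (0,9,0,[]),
  (0,8,0,[]),
  (2,5,3,[0,2,0,2,0,2,0,2,0,2,0,1,0,1,0,1,0,2,0,2,0,1,0,1,0,1,0,1,0,1,0,1,0,2,0,1,0,2,0,1,0,1,0,1,0,2,0,1,0,1,0,2,0,1,0,2,0,2,0,2,0,1,0,1,0,1,0,2,0,1,0,1,0,1,0,1,0,1,0,2,0,1,0,1,0,2,0,1,0,2,0,2,0,2,0,1,0,1,0,1,0,2,0,1,0,1,0,1,0,1,0,1,0,2,0,1,0,2,0,1,0,1,0,1,0,2,0,1,0,2,0,1,0,1,0,1,0,2,0,1,0,2,0,1,0,1,0,1,0,2,0,1,0,2,0,1,0,1,0,1,0,2,0,1,0,2,0,1,0,1,0,1,0,2,0,1,0,2,0,1,0,1,0,1,0,2,0,1,0,2,0,1,0,1,0,1,0,2,0,1,0,1,0,2,0,1,0,2,0,2,0,2,0,1,0,1,0,1,0,1,0,1,0,2,0,1,0,1,0,2,0,2,0,2,0,1,0,1,0,1,0,1,0,2]),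
  (0,8,0,[]),
  (0,7,0,[]),
  (2,4,3,[0,2,0,2,0,2,0,2,0,2,0,1,0,1,0,1,0,2,0,2,0,1,0,1,0,1,0,1,0,1,0,1,0,2,0,1,0,1,0,2,0,1,0,2,0,2,0,2,0,1,0,1,0,1,0,2,0,1,0,1,0,1,0,1,0,1,0,2,0,1,0,1,0,2,0,1,0,2,0,2,0,2,0,1,0,1,0,1,0,2,0,1,0,1,0,1,0,1,0,1,0,2,0,1,0,2,0,1,0,1,0,1,0,2,0,1,0,1,0,2,0,1,0,2,0,2,0,2,0,1,0,1,0,1,0,2,0,1,0,1,0,1,0,1,0,1,0,2,0,1,0,2,0,1,0,1,0,1,0,2,0,1,0,2,0,1,0,1,0,1,0,2,0,1,0,1,0,2,0,2,0,1,0,2,0,1,0,1,0,2,0,2,0,2,0,1,0,1,0,1,0,1,0,2]),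
  (0,7,0,[]),
  (0,6,0,[]),
  (2,3,3,[0,2,0,2,0,2,0,2,0,2,0,1,0,1,0,1,0,2,0,2,0,1,0,1,0,1,0,1,0,1,0,1,0,2,0,1,0,1,0,2,0,1,0,2,0,2,0,2,0,1,0,1,0,1,0,2,0,1,0,1,0,1,0,1,0,1,0,2,0,1,0,2,0,1,0,1,0,1,0,2,0,1,0,1,0,2,0,1,0,2,0,2,0,2,0,1,0,1,0,1,0,2,0,1,0,1,0,1,0,1,0,1,0,2,0,1,0,2,0,1,0,1,0,1,0,2,0,1,0,1,0,2,0,1,0,2,0,2,0,2,0,1,0,1,0,1,0,2,0,1,0,1,0,1,0,1,0,1,0,2,0,1,0,1,0,2,0,2,0,1,0,2,0,1,0,1,0,2,0,2,0,2,0,1,0,1,0,1,0,1,0,2]),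
  (0,6,0,[]),
  (0,5,0,[]),
  (2,2,3,[0,2,0,2,0,2,0,2,0,2,0,1,0,1,0,1,0,2,0,2,0,1,0,1,0,1,0,1,0,1,0,1,0,2,0,1,0,2,0,1,0,1,0,1,0,2,0,1,0,2,0,1,0,1,0,1,0,2,0,1,0,2,0,1,0,1,0,1,0,2,0,1,0,2,0,1,0,1,0,1,0,2,0,1,0,2,0,1,0,1,0,1,0,2,0,1,0,1,0,2,0,2,0,1,0,2,0,1,0,1,0,2,0,2,0,2,0,1,0,1,0,1,0,1,0,2]),
  (0,5,0,[]),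
  (0,4,0,[]),
  (2,1,2,[0,1,0,2,0,2,0,2,0,2,0,1,0,1,0,1,0,2,0,1,0,1,0,1,0,1,0,1,0,2,0,1,0,1,0,2,0,1,0,2,0,2,0,2,0,1,0,1,0,1,0,2,0,1,0,1,0,1,0,1,0,1,0,2,0,1,0,2,0,1,0,1,0,1,0,2,0,1,0,1,0,2,0,2,0,1,0,2,0,1,0,1,0,2,0,2,0,2,0,1,0,1,0,1,0,1,0,2]),
  (0,4,0,[]),
  (0,3,0,[]),
  (2,7,3,[0,2,0,2,0,2,0,2,0,2,0,1,0,1,0,1,0,2,0,2,0,1,0,1,0,1,0,1,0,1,0,1,0,2,0,1,0,1,0,2,0,1,0,2,0,2,0,2,0,1,0,1,0,1,0,2,0,1,0,1,0,1,0,1,0,1,0,2,0,1,0,2,0,1,0,1,0,1,0,2,0,1,0,2,0,1,0,1,0,1,0,2,0,1,0,2,0,1,0,1,0,1,0,2,0,1,0,2,0,1,0,1,0,1,0,2,0,1,0,2,0,1,0,1,0,1,0,2,0,1,0,1,0,2,0,1,0,2,0,2,0,2,0,1,0,1,0,1,0,2,0,1,0,1,0,1,0,1,0,1,0,2,0,1,0,2,0,1,0,1,0,1,0,2,0,1,0,2,0,1,0,1,0,1,0,2,0,1,0,1,0,2,0,1,0,2,0,2,0,2,0,1,0,1,0,1,0,1]),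
  (0,10,0,[]),
  (0,9,0,[]),
  (2,6,2,[0,1,0,1,0,1,0,1,0,1,0,1,0,1,0,2,0,1,0,2,0,1,0,1,0,1,0,2,0,1,0,1,0,2,0,1,0,2,0,2,0,2,0,1,0,1,0,1,0,2,0,1,0,1,0,1,0,1,0,1,0,2,0,1,0,1,0,2,0,1,0,2,0,2,0,2,0,1,0,1,0,1,0,2,0,1,0,1,0,1,0,1,0,1,0,2,0,1,0,1,0,2,0,1,0,2,0,2,0,2,0,1,0,1,0,1,0,2,0,1,0,1,0,1,0,1,0,1,0,2,0,1,0,2,0,1,0,1,0,1,0,2,0,1,0,1,0,2,0,2]),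
  (0,9,0,[]),
  (0,8,0,[]),
  (2,5,3,[0,2,0,2,0,2,0,2,0,2,0,1,0,1,0,1,0,2,0,2,0,1,0,1,0,1,0,1,0,1,0,1,0,2,0,1,0,2,0,1,0,1,0,1,0,2,0,1,0,1,0,2,0,1,0,2,0,2,0,2,0,1,0,1,0,1,0,2,0,1,0,1,0,1,0,1,0,1,0,2,0,1,0,2,0,1,0,1,0,1,0,2,0,1,0,2,0,1,0,1,0,1,0,2,0,1,0,1,0,2,0,1,0,2,0,2,0,2,0,1,0,1,0,1,0,2,0,1,0,1,0,1,0,1,0,1,0,2,0,1,0,2,0,1,0,1,0,1,0,2,0,1,0,1,0,2,0,1,0,2,0,2,0,2,0,1,0,1,0,1,0,2,0,1,0,1,0,1,0,1,0,1,0,2,0,1,0,2,0,1,0,1,0,1,0,2,0,1,0,1,0,2,0,1,0,2,0,2,0,2,0,1,0,1,0,1,0,2,0,1,0,1,0,1,0,1,0,1,0,2,0,1,0,2,0,1,0,1,0,1,0,2,0,1,0,1,0,2,0,2]),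
  (0,8,0,[]),
  (0,7,0,[]),
  (2,4,3,[0,2,0,2,0,2,0,2,0,2,0,1,0,1,0,1,0,2,0,2,0,1,0,1,0,1,0,1,0,1,0,1,0,2,0,1,0,2,0,1,0,1,0,1,0,2,0,1,0,1,0,2,0,1,0,2,0,2,0,2,0,1,0,1,0,1,0,2,0,1,0,1,0,1,0,1,0,1,0,2,0,1,0,1,0,2,0,1,0,2,0,2,0,2,0,1,0,1,0,1,0,2,0,1,0,1,0,1,0,1,0,1,0,2,0,1,0,1,0,2,0,1,0,2,0,2,0,2,0,1,0,1,0,1,0,1]),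
  (0,7,0,[]),
  (0,6,0,[]),
  (0,3,0,[]),
  (0,6,0,[]),
  (2,6,4,[2,0,1,0,1,0,2,0,1,0,1,0,1,0,1,0,2,0,2,0,1,0,1,0,1,0,2,0,1,0,1,0,1,0,1,0,1,0,2,0,1,0,2,0,1,0,1,0,1,0,2,0,1,0,1,0,2,0,1,0,2,0,2,0,2,0,1,0,1,0,1,0,2,0,1,0,1,0,1,0,1,0,1,0,2,0,1,0,2,0,1,0,1,0,1,0,2,0,1,0,2,0,1,0,1,0,1,0,2,0,1,0,2,0,1,0,1,0,1,0,2,0,1,0,2,0,1,0,1,0,1,0,2,0,1,0,1,0,2,0,1,0,2,0,2,0,2,0,1,0,1,0,1,0,2,0,1,0,1,0,1,0,1,0,1,0,2,0,1,0,2,0,1,0,1,0,1,0,2,0,1,0,1,0,2,0,1,0,2,0,2,0,2,0,1,0,1,0,1,0,2,0,1,0,1,0,1,0,1,0,1,0,2,0,1,0,2,0,1,0,1,0,1,0,2,0,1,0,1,0,2,0,1,0,2,0,2,0,2,0,1,0,1,0,2]),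
  (2,5,3,[0,2,0,2,0,2,0,2,0,2,0,1,0,1,0,1,0,2,0,2,0,2,0,2,0,2,0,2,0,1,0,1,0,1,0,2,0,1,0,1,0,1,0,1,0,1,0,2,0,1,0,1,0,2,0,1,0,2,0,2,0,2,0,1,0,1,0,1,0,2,0,1,0,1,0,1,0,1,0,1,0,2,0,1,0,2,0,1,0,1,0,1,0,2,0,1,0,2,0,1,0,1,0,1,0,2,0,1,0,2,0,1,0,1,0,1,0,2,0,1,0,2,0,1,0,1,0,1,0,2,0,1,0,1,0,2,0,1,0,2,0,2,0,2,0,1,0,1,0,1,0,2,0,1,0,1,0,1,0,1,0,1,0,2,0,1,0,1,0,2,0,1,0,2,0,2,0,2,0,1,0,1,0,1,0,2,0,1,0,1,0,1,0,1,0,1,0,2,0,1,0,2,0,1,0,1,0,1,0,2,0,1,0,1,0,2,0,1,0,1]),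
  (0,8,0,[]),
  (0,7,0,[]),
  (2,4,2,[0,1,0,1,0,1,0,1,0,1,0,1,0,1,0,2,0,1,0,2,0,1,0,1,0,1,0,2,0,1,0,2,0,1,0,1,0,1,0,2,0,1,0,1,0,2,0,1,0,2,0,2,0,2,0,1,0,1,0,1,0,2,0,1,0,1,0,1,0,1,0,1,0,2,0,1,0,1,0,2,0,1,0,1]),
  (0,7,0,[]),
  (0,6,0,[]),
  (2,3,2,[0,1,0,2,0,2,0,2,0,2,0,1,0,1,0,1,0,2,0,1,0,1,0,1,0,1,0,1,0,2,0,1,0,1,0,2,0,1,0,2,0,2,0,2,0,1,0,1,0,1,0,2,0,1,0,1,0,1,0,1,0,1,0,2,0,1,0,2,0,1,0,1,0,1,0,2,0,1,0,2,0,1,0,1,0,1,0,2,0,1,0,2,0,1,0,1,0,1,0,2,0,1,0,1,0,2,0,1,0,1]),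
  (0,6,0,[]),
  (0,5,0,[]),
  (2,2,3,[0,2,0,2,0,2,0,2,0,2,0,1,0,1,0,1,0,2,0,2,0,1,0,1,0,1,0,1,0,1,0,1,0,2,0,1,0,2,0,1,0,1,0,1,0,2,0,1,0,1,0,2,0,1,0,2,0,2,0,2,0,1,0,1,0,1,0,2,0,1,0,1,0,1,0,1,0,1,0,2,0,1,0,2,0,1,0,1,0,1,0,2,0,1,0,2,0,1,0,1,0,1,0,2,0,1,0,1,0,2,0,1,0,2,0,2,0,2,0,1,0,1,0,1,0,2,0,1,0,1,0,1,0,1,0,1,0,2,0,1,0,2,0,1,0,1,0,1,0,2,0,1,0,1,0,2,0,1,0,2,0,2,0,2,0,1,0,1,0,1,0,2,0,1,0,1,0,1,0,1,0,1,0,2,0,1,0,2,0,1,0,1,0,1,0,2,0,1,0,1,0,2,0,1,0,2,0,2,0,2,0,1,0,1,0,1,0,2,0,1,0,1,0,1,0,1,0,1,0,2,0,1,0,2,0,1,0,1,0,1,0,2,0,1,0,1,0,2,0,1,0,1]),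
  (0,5,0,[]),
  (0,4,0,[]),
  (2,1,2,[0,1,0,1,0,1,0,1,0,1,0,1,0,1,0,2,0,1,0,2,0,1,0,1,0,1,0,2,0,1,0,2,0,1,0,1,0,1,0,2,0,1,0,2,0,1,0,1,0,1,0,2,0,1,0,2,0,1,0,1,0,1,0,2,0,1,0,2,0,1,0,1,0,1,0,2,0,1,0,2,0,1,0,1,0,1,0,2,0,1,0,2,0,1,0,1,0,1,0,2,0,1,0,2,0,1,0,1,0,1,0,2,0,1,0,1,0,2,0,1,0,1]),
  (0,4,0,[]),
  (0,3,0,[]),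
  (0,0,0,[]),
  (2,4,1,[0,1,0,2,0,2,0,2,0,2,0,1,0,1,0,1,0,2,0,1,0,1,0,1,0,1,0,1,0,2,0,1,0,2,0,1,0,1,0,1,0,2,0,1,0,1,0,2,0,1,0,2,0,2,0,2,0,1,0,1,0,1,0,2,0,1,0,1,0,1,0,1,0,1,0,2,0,1,0,1,0,2,0,1,0,2,0,2,0,2,0,1,0,1,0,1,0,2,0,1,0,1,0,1,0,1,0,1,0,2,0,1,0,1,0,2,0,1,0,2,0,2,0,2,0,1,0,1,0,1,0,1,0,1]),
  (0,7,0,[]),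
  (0,6,0,[]),
  (2,3,3,[0,2,0,2,0,2,0,2,0,2,0,1,0,1,0,1,0,2,0,2,0,1,0,1,0,1,0,1,0,1,0,1,0,2,0,1,0,1,0,2,0,1,0,2,0,2,0,2,0,1,0,1,0,1,0,2,0,1,0,1,0,1,0,1,0,1,0,2,0,1,0,1,0,2,0,1,0,2,0,2,0,2,0,1,0,1,0,1,0,2,0,1,0,1,0,1,0,1,0,1,0,2,0,1,0,2,0,1,0,1,0,1,0,2,0,1,0,2,0,1,0,1,0,1,0,2,0,1,0,2,0,1,0,1,0,1,0,2,0,1,0,2,0,1,0,1,0,1,0,2,0,1,0,1,0,2,0,1,0,2,0,2,0,2,0,1,0,1,0,1,0,2,0,1,0,1,0,1,0,1,0,1,0,2,0,1,0,2,0,1,0,1,0,1,0,2,0,1,0,2,0,1,0,1,0,1,0,2,0,1,0,1,0,2,0,2,0,1]),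
  (0,6,0,[]),
  (0,5,0,[]),
  (2,2,3,[0,2,0,2,0,2,0,2,0,2,0,1,0,1,0,1,0,2,0,2,0,1,0,1,0,1,0,1,0,1,0,1,0,2,0,1,0,1,0,2,0,1,0,2,0,2,0,2,0,1,0,1,0,1,0,2,0,1,0,1,0,1,0,1,0,1,0,2,0,1,0,2,0,1,0,1,0,1,0,2,0,1,0,2,0,1,0,1,0,1,0,2,0,1,0,2,0,1,0,1,0,1,0,2,0,1,0,2,0,1,0,1,0,1,0,2,0,1,0,2,0,1,0,1,0,1,0,2,0,1,0,1,0,2,0,1,0,2,0,2,0,2,0,1,0,1,0,1,0,2,0,1,0,1,0,1,0,1,0,1,0,2,0,1,0,2,0,1,0,1,0,1,0,2,0,1,0,2,0,1,0,1,0,1,0,2,0,1,0,1,0,2,0,1,0,2,0,2,0,2,0,1,0,1,0,1,0,1,0,1]),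
  (0,5,0,[]),
  (0,4,0,[]),
  (0,1,0,[]),
  (2,3,2,[0,1,0,1,0,1,0,1,0,1,0,1,0,1,0,2,0,1,0,2,0,1,0,1,0,1,0,2,0,1,0,2,0,1,0,1,0,1,0,2,0,1,0,2,0,1,0,1,0,1,0,2,0,1,0,2,0,1,0,1,0,1,0,2,0,1,0,2,0,1,0,1,0,1,0,2,0,1,0,1,0,1,0,1,0,1,0,1,0,1,0,2]),
  (0,6,0,[]),
  (0,5,0,[]),
  (2,2,3,[0,2,0,2,0,2,0,2,0,2,0,1,0,1,0,1,0,2,0,2,0,2,0,2,0,2,0,2,0,1,0,1,0,1,0,2,0,1,0,1,0,1,0,1,0,1,0,2,0,1,0,1,0,2,0,1,0,2,0,2,0,2,0,1,0,1,0,1,0,2,0,1,0,1,0,1,0,1,0,1,0,2,0,1,0,1,0,2,0,1,0,2,0,2,0,2,0,1,0,1,0,1,0,2,0,1,0,1,0,1,0,1,0,1,0,2,0,1,0,1,0,2,0,1,0,2,0,2,0,2,0,1,0,1,0,1,0,2,0,1,0,1,0,1,0,1,0,1,0,2,0,1,0,2,0,1,0,1,0,1,0,2,0,1,0,2,0,1,0,1,0,1,0,2,0,1,0,2,0,1,0,1,0,1,0,2,0,1,0,1,0,1,0,1,0,1,0,1,0,1,0,2]),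
  (0,5,0,[]),
  (0,4,0,[]),
  (2,1,3,[0,2,0,2,0,2,0,2,0,2,0,1,0,1,0,1,0,2,0,2,0,1,0,1,0,1,0,1,0,1,0,1,0,2,0,1,0,2,0,1,0,1,0,1,0,2,0,1,0,1,0,2,0,1,0,2,0,2,0,2,0,1,0,1,0,1,0,2,0,1,0,1,0,1,0,1,0,1,0,2,0,1,0,2,0,1,0,1,0,1,0,2,0,1,0,1,0,2,0,1,0,2,0,2,0,2,0,1,0,1,0,1,0,2,0,1,0,1,0,1,0,1,0,1,0,2,0,1,0,1,0,2,0,1,0,2,0,2,0,2,0,1,0,1,0,1,0,2,0,1,0,1,0,1,0,1,0,1,0,2,0,1,0,1,0,2,0,1,0,2,0,2,0,2,0,1,0,1,0,1,0,2,0,1,0,1,0,1,0,1,0,1,0,2,0,1,0,1,0,1,0,1,0,1,0,1,0,1,0,2]),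
  (0,4,0,[]),
  (0,3,0,[]),
  (2,5,4,[2,0,1,0,1,0,2,0,1,0,1,0,1,0,1,0,2,0,2,0,1,0,1,0,1,0,2,0,1,0,1,0,1,0,1,0,1,0,2,0,1,0,2,0,1,0,1,0,1,0,2,0,1,0,1,0,2,0,1,0,2,0,2,0,2,0,1,0,1,0,1,0,2,0,1,0,1,0,1,0,1,0,1,0,2,0,1,0,1,0,2,0,1,0,2,0,2,0,2,0,1,0,1,0,1,0,2,0,1,0,1,0,1,0,1,0,1,0,2,0,1,0,2,0,1,0,1,0,1,0,2,0,1,0,2,0,1,0,1,0,1,0,2,0,1,0,1,0,2,0,1,0,2,0,2,0,2,0,1,0,1,0,1,0,2,0,1,0,1,0,1,0,1,0,1,0,2,0,1,0,2,0,1,0,1,0,1,0,2,0,1,0,2,0,1,0,1,0,1,0,2,0,1,0,2,0,1,0,1,0,1,0,2,0,1,0,2,0,1,0,1,0,1,0,2,0,1,0,2,0,1,0,1,0,1,0,2,0,1,0,2,0,1,0,1,0,1,0,2,0,1,0,1,0,2,0,1,0,2,0,2,0,2,0,1,0,1,0,1,0,1,0,1,0,1,0,1,0,2,0,2,0,2,0]),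
  (2,4,3,[0,2,0,2,0,2,0,2,0,2,0,1,0,1,0,1,0,2,0,2,0,1,0,1,0,1,0,1,0,1,0,1,0,2,0,1,0,1,0,2,0,1,0,2,0,2,0,2,0,1,0,1,0,1,0,2,0,1,0,1,0,1,0,1,0,1,0,2,0,1,0,2,0,1,0,1,0,1,0,2,0,1,0,1,0,2,0,1,0,2,0,2,0,2,0,1,0,1,0,1,0,2,0,1,0,1,0,1,0,1,0,1,0,2,0,1,0,2,0,1,0,1,0,1,0,2,0,1,0,1,0,2,0,1,0,2,0,2,0,2,0,1,0,1,0,1,0,2,0,1,0,1,0,1,0,1,0,1,0,2,0,1,0,1,0,2,0,1,0,2,0,2,0,2,0,1,0,1,0,1,0,2,0,1,0,1,0,1,0,1,0,1,0,2,0,1,0,1,0,2,0,1,0,2,0,2,0,2,0,1,0,1,0,1,0,1,0,1,0,1,0,1,0,2,0,2,0,2,0]),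
  (0,7,0,[]),
  (0,6,0,[]),
  (2,3,3,[0,2,0,2,0,2,0,2,0,2,0,1,0,1,0,1,0,2,0,2,0,2,0,2,0,2,0,2,0,1,0,1,0,1,0,2,0,1,0,1,0,1,0,1,0,1,0,2,0,1,0,2,0,1,0,1,0,1,0,2,0,1,0,1,0,2,0,1,0,2,0,2,0,2,0,1,0,1,0,1,0,2,0,1,0,1,0,1,0,1,0,1,0,2,0,1,0,1,0,2,0,1,0,2,0,2,0,2,0,1,0,1,0,1,0,2,0,1,0,1,0,1,0,1,0,1,0,2,0,1,0,1,0,2,0,1,0,2,0,2,0,2,0,1,0,1,0,1,0,2,0,1,0,1,0,1,0,1,0,1,0,2,0,1,0,2,0,1,0,1,0,1,0,2,0,1,0,2,0,1,0,1,0,1,0,2,0,1,0,1,0,2,0,1,0,2,0,2,0,2,0,1,0,1,0,1,0,1,0,1,0,1,0,1,0,2,0,2,0,2,0]),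
  (0,6,0,[]),
  (0,5,0,[]),
  (2,2,3,[0,2,0,2,0,2,0,2,0,2,0,1,0,1,0,1,0,2,0,2,0,2,0,2,0,2,0,2,0,1,0,1,0,1,0,2,0,1,0,1,0,1,0,1,0,1,0,2,0,1,0,2,0,1,0,1,0,1,0,2,0,1,0,2,0,1,0,1,0,1,0,2,0,1,0,1,0,2,0,1,0,2,0,2,0,2,0,1,0,1,0,1,0,2,0,1,0,1,0,1,0,1,0,1,0,2,0,1,0,1,0,2,0,1,0,2,0,2,0,2,0,1,0,1,0,1,0,2,0,1,0,1,0,1,0,1,0,1,0,2,0,1,0,2,0,1,0,1,0,1,0,2,0,1,0,1,0,2,0,2,0,1,0,1,0,1,0,2,0,2,0,2,0]),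
  (0,5,0,[]),
  (0,4,0,[]),
  (2,1,3,[0,2,0,2,0,2,0,2,0,2,0,1,0,1,0,1,0,2,0,2,0,1,0,1,0,1,0,1,0,1,0,1,0,2,0,1,0,1,0,2,0,1,0,2,0,2,0,2,0,1,0,1,0,1,0,2,0,1,0,1,0,1,0,1,0,1,0,2,0,1,0,1,0,2,0,1,0,2,0,2,0,2,0,1,0,1,0,1,0,2,0,1,0,1,0,1,0,1,0,1,0,2,0,1,0,2,0,1,0,1,0,1,0,2,0,1,0,2,0,1,0,1,0,1,0,2,0,1,0,1,0,2,0,1,0,2,0,2,0,2,0,1,0,1,0,1,0,2,0,1,0,1,0,1,0,1,0,1,0,2,0,1,0,1,0,2,0,1,0,2,0,2,0,2,0,1,0,1,0,1,0,2,0,1,0,1,0,1,0,1,0,1,0,2,0,1,0,1,0,2,0,1,0,2,0,2,0,2,0,1,0,1,0,1,0,2,0,1,0,1,0,1,0,1,0,1,0,2,0,1,0,1,0,2,0,2,0,1,0,1,0,1,0,2,0,2,0,2,0]),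
  (0,4,0,[]),
  (0,3,0,[]),
  (2,0,2,[0,1,0,2,0,2,0,2,0,2,0,1,0,1,0,1,0,2,0,1,0,1,0,1,0,1,0,1,0,2,0,1,0,1,0,2,0,1,0,2,0,2,0,2,0,1,0,1,0,1,0,2,0,1,0,1,0,1,0,1,0,1,0,2,0,1,0,1,0,2,0,1,0,2,0,2,0,2,0,1,0,1,0,1,0,2,0,1,0,1,0,1,0,1,0,1,0,2,0,1,0,1,0,2,0,2,0,1,0,1,0,1,0,2,0,2,0,2,0]),
  (0,3,0,[]),
  (0,2,0,[]),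
  (2,5,2,[0,1,0,1,0,1,0,1,0,1,0,1,0,1,0,2,0,1,0,2,0,1,0,1,0,1,0,2,0,1,0,2,0,1,0,1,0,1,0,2,0,1,0,2,0,1,0,1,0,1,0,2,0,1,0,2,0,1,0,1,0,1,0,2,0,1,0,2,0,1,0,1,0,1,0,2,0,1,0,1,0,1,0,1,0,1,0,1,0,1,0,2]),
  (0,8,0,[]),
  (0,7,0,[]),
  (2,4,3,[0,2,0,2,0,2,0,2,0,2,0,1,0,1,0,1,0,2,0,2,0,2,0,2,0,2,0,2,0,1,0,1,0,1,0,2,0,1,0,1,0,1,0,1,0,1,0,2,0,1,0,1,0,2,0,1,0,2,0,2,0,2,0,1,0,1,0,1,0,2,0,1,0,1,0,1,0,1,0,1,0,2,0,1,0,1,0,2,0,1,0,2,0,2,0,2,0,1,0,1,0,1,0,2,0,1,0,1,0,1,0,1,0,1,0,2,0,1,0,1,0,2,0,1,0,2,0,2,0,2,0,1,0,1,0,1,0,2,0,1,0,1,0,1,0,1,0,1,0,2,0,1,0,2,0,1,0,1,0,1,0,2,0,1,0,2,0,1,0,1,0,1,0,2,0,1,0,2,0,1,0,1,0,1,0,2,0,1,0,1,0,1,0,1,0,1,0,1,0,1,0,2]),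
  (0,7,0,[]),
  (0,6,0,[]),
  (2,3,3,[0,2,0,2,0,2,0,2,0,2,0,1,0,1,0,1,0,2,0,2,0,1,0,1,0,1,0,1,0,1,0,1,0,2,0,1,0,2,0,1,0,1,0,1,0,2,0,1,0,1,0,2,0,1,0,2,0,2,0,2,0,1,0,1,0,1,0,2,0,1,0,1,0,1,0,1,0,1,0,2,0,1,0,2,0,1,0,1,0,1,0,2,0,1,0,1,0,2,0,1,0,2,0,2,0,2,0,1,0,1,0,1,0,2,0,1,0,1,0,1,0,1,0,1,0,2,0,1,0,1,0,2,0,1,0,2,0,2,0,2,0,1,0,1,0,1,0,2,0,1,0,1,0,1,0,1,0,1,0,2,0,1,0,1,0,2,0,1,0,2,0,2,0,2,0,1,0,1,0,1,0,2,0,1,0,1,0,1,0,1,0,1,0,2,0,1,0,1,0,1,0,1,0,1,0,1,0,1,0,2]),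
  (0,6,0,[]),
  (0,5,0,[]),
  (0,2,0,[]),
  (2,4,2,[0,1,0,1,0,1,0,1,0,1,0,1,0,1,0,2,0,1,0,2,0,1,0,1,0,1,0,2,0,1,0,2,0,1,0,1,0,1,0,2,0,1,0,1,0,2,0,1,0,2,0,2,0,2,0,1,0,1,0,1,0,2,0,1,0,1,0,1,0,1,0,1,0,2,0,1,0,1,0,2,0,1,0,2,0,2,0,2,0,1,0,1,0,1,0,2,0,1,0,1,0,1,0,1,0,1,0,2,0,1,0,2,0,1,0,1,0,1,0,2,0,1,0,1,0,2,0,1,0,2,0,2,0,2,0,1,0,1,0,1,0,2]),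
  (0,7,0,[]),
  (0,6,0,[]),
  (0,3,0,[]),
  (2,4,4,[2,0,1,0,1,0,2,0,1,0,1,0,1,0,1,0,2,0,2,0,1,0,1,0,1,0,2,0,1,0,1,0,1,0,1,0,1,0,2,0,1,0,1,0,2,0,1,0,2,0,2,0,2,0,1,0,1,0,1,0,2,0,1,0,1,0,1,0,1,0,1,0,2,0,1,0,1,0,2,0,1,0,2,0,2,0,2,0,1,0,1,0,1,0,2,0,1,0,1,0,1,0,1,0,1,0,2,0,1,0,2,0,1,0,1,0,1,0,2,0,1,0,1,0,2,0,1,0,2,0,2,0,2,0,1,0,1,0,1,0,2,0,1,0,1,0,1,0,1,0,1,0,2,0,1,0,1,0,2,0,1,0,2,0,2,0,2,0,1,0,1,0,1,0,2,0,1,0,1,0,1,0,1,0,1,0,2,0,1,0,1,0,2,0,1,0,2,0,2,0,2,0,1,0,1,0,1,0,2,0,1,0,1,0,1,0,1,0,1,0,2,0,1,0,2,0,1,0,1,0,1,0,2,0,1,0,1,0,2,0,1,0,2,0,2,0,2,0,1,0,1,0,1,0,1,0,1,0,1,0,1,0,2,0,2,0,2,0]),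
  (2,3,3,[0,2,0,2,0,2,0,2,0,2,0,1,0,1,0,1,0,2,0,2,0,1,0,1,0,1,0,1,0,1,0,1,0,2,0,1,0,1,0,2,0,1,0,2,0,2,0,2,0,1,0,1,0,1,0,2,0,1,0,1,0,1,0,1,0,1,0,2,0,1,0,2,0,1,0,1,0,1,0,2,0,1,0,1,0,2,0,1,0,2,0,2,0,2,0,1,0,1,0,1,0,2,0,1,0,1,0,1,0,1,0,1,0,2,0,1,0,2,0,1,0,1,0,1,0,2,0,1,0,1,0,2,0,1,0,2,0,2,0,2,0,1,0,1,0,1,0,2,0,1,0,1,0,1,0,1,0,1,0,2,0,1,0,1,0,2,0,1,0,2,0,2,0,2,0,1,0,1,0,1,0,2,0,1,0,1,0,1,0,1,0,1,0,2,0,1,0,1,0,2,0,1,0,2,0,2,0,2,0,1,0,1,0,1,0,1,0,1,0,1,0,1,0,2,0,2,0,2,0]),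
  (0,6,0,[]),
  (0,5,0,[]),
  (2,2,3,[0,2,0,2,0,2,0,2,0,2,0,1,0,1,0,1,0,2,0,2,0,2,0,2,0,2,0,2,0,1,0,1,0,1,0,2,0,1,0,1,0,1,0,1,0,1,0,2,0,1,0,2,0,1,0,1,0,1,0,2,0,1,0,2,0,1,0,1,0,1,0,2,0,1,0,1,0,2,0,1,0,2,0,2,0,2,0,1,0,1,0,1,0,2,0,1,0,1,0,1,0,1,0,1,0,2,0,1,0,1,0,2,0,1,0,2,0,2,0,2,0,1,0,1,0,1,0,2,0,1,0,1,0,1,0,1,0,1,0,2,0,1,0,2,0,1,0,1,0,1,0,2,0,1,0,1,0,2,0,2,0,1,0,1,0,1,0,2,0,2,0,2,0]),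
  (0,5,0,[]),
  (0,4,0,[]),
  (2,1,2,[0,1,0,2,0,2,0,2,0,2,0,1,0,1,0,1,0,2,0,1,0,1,0,1,0,1,0,1,0,2,0,1,0,1,0,2,0,1,0,2,0,2,0,2,0,1,0,1,0,1,0,2,0,1,0,1,0,1,0,1,0,1,0,2,0,1,0,1,0,2,0,1,0,2,0,2,0,2,0,1,0,1,0,1,0,2,0,1,0,1,0,1,0,1,0,1,0,2,0,1,0,1,0,2,0,2,0,1,0,1,0,1,0,2,0,2,0,2,0]),
  (0,4,0,[]),
  (0,3,0,[]),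
  (0,0,0,[]),
  (2,2,3,[0,2,0,2,0,2,0,2,0,2,0,1,0,1,0,1,0,2,0,2,0,1,0,1,0,1,0,1,0,1,0,1,0,2,0,1,0,1,0,2,0,1,0,2,0,2,0,2,0,1,0,1,0,1,0,2,0,1,0,1,0,1,0,1,0,1,0,2,0,1,0,1,0,2,0,1,0,2,0,2,0,2,0,1,0,1,0,1,0,2,0,1,0,1,0,1,0,1,0,1,0,2,0,1,0,2,0,1,0,1,0,1,0,2,0,1,0,2,0,1,0,1,0,1,0,2,0,1,0,2,0,1,0,1,0,1,0,2,0,1,0,2,0,1,0,1,0,1,0,2,0,1,0,2,0,1,0,1,0,1,0,2,0,1,0,2,0,1,0,1,0,1,0,2,0,1,0,1,0,2,0,2,0,1,0,1,0,1,0,1,0,2,0,2,0,2,0,2,0,2,0]),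
  (0,5,0,[]),
  (0,4,0,[]),
  (2,1,3,[0,2,0,2,0,2,0,2,0,2,0,1,0,1,0,1,0,2,0,2,0,2,0,2,0,2,0,2,0,1,0,1,0,1,0,2,0,1,0,1,0,1,0,1,0,1,0,2,0,1,0,1,0,2,0,1,0,2,0,2,0,2,0,1,0,1,0,1,0,2,0,1,0,1,0,1,0,1,0,1,0,2,0,1,0,2,0,1,0,1,0,1,0,2,0,1,0,2,0,1,0,1,0,1,0,2,0,1,0,1,0,2,0,1,0,2,0,2,0,2,0,1,0,1,0,1,0,2,0,1,0,1,0,1,0,1,0,1,0,2,0,1,0,1,0,2,0,2,0,1,0,1,0,1,0,1,0,2,0,2,0,2,0,2,0,2,0]),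
  (0,4,0,[]),
  (0,3,0,[]),
  (2,3,2,[0,1,0,2,0,2,0,2,0,2,0,1,0,1,0,1,0,2,0,1,0,1,0,1,0,1,0,1,0,2,0,1,0,2,0,1,0,1,0,1,0,2,0,1,0,1,0,2,0,1,0,2,0,2,0,2,0,1,0,1,0,1,0,2,0,1,0,1,0,1,0,1,0,1,0,2,0,1,0,1,0,2,0,1,0,2,0,2,0,2,0,1,0,1,0,1,0,2,0,1,0,1,0,1,0,1,0,1,0,2,0,1,0,2,0,1,0,1,0,1,0,2,0,1,0,2,0,1,0,1,0,1,0,2,0,1,0,2,0,1,0,1,0,1,0,2,0,1,0,1,0,2,0,1,0,2,0,2,0,2,0,1,0,1,0,1,0,1,0,2]),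
  (0,6,0,[]),
  (0,5,0,[]),
  (0,2,0,[]),
  (2,3,4,[2,0,1,0,1,0,2,0,1,0,1,0,1,0,2,0,2,0,1,0,1,0,1,0,1,0,1,0,2,0,1,0,1,0,2,0,1,0,2,0,2,0,2,0,1,0,1,0,1,0,2,0,1,0,1,0,1,0,1,0,1,0,2,0,1,0,2,0,1,0,1,0,1,0,2,0,1,0,1,0,2,0,1,0,2,0,2,0,2,0,1,0,1,0,1,0,2,0,1,0,1,0,1,0,1,0,1,0,2,0,1,0,2,0,1,0,1,0,1,0,2,0,1,0,1,0,2,0,1,0,2,0,2,0,2,0,1,0,1,0,1,0,2,0,1,0,1,0,1,0,1,0,1,0,2,0,1,0,2,0,1,0,1,0,1,0,2,0,1,0,1,0,2,0,1,0,2,0,2,0,2,0,1,0,1,0,1,0,2,0,1,0,1,0,1,0,1,0,1,0,2,0,1,0,1,0,2,0,2,0,1,0,2,0,1,0,1,0,2,0,2,0,2,0,1,0,1,0,1,0,1,0,2]),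
  (2,2,3,[0,2,0,2,0,2,0,2,0,2,0,1,0,1,0,1,0,2,0,2,0,1,0,1,0,1,0,1,0,1,0,1,0,2,0,1,0,2,0,1,0,1,0,1,0,2,0,1,0,1,0,2,0,1,0,2,0,2,0,2,0,1,0,1,0,1,0,2,0,1,0,1,0,1,0,1,0,1,0,2,0,1,0,1,0,2,0,1,0,2,0,2,0,2,0,1,0,1,0,1,0,2,0,1,0,1,0,1,0,1,0,1,0,2,0,1,0,2,0,1,0,1,0,1,0,2,0,1,0,2,0,1,0,1,0,1,0,2,0,1,0,2,0,1,0,1,0,1,0,2,0,1,0,2,0,1,0,1,0,1,0,2,0,1,0,2,0,1,0,1,0,1,0,2,0,1,0,2,0,1,0,1,0,1,0,2,0,1,0,2,0,1,0,1,0,1,0,2,0,1,0,1,0,2,0,1,0,2,0,2,0,2,0,1,0,1,0,1,0,1,0,1,0,2,0,1,0,1,0,2,0,2,0,2,0,1,0,1,0,1,0,1,0,2]),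
  (0,5,0,[]),
  (0,4,0,[]),
  (2,1,3,[0,2,0,2,0,2,0,2,0,2,0,1,0,1,0,1,0,2,0,2,0,1,0,1,0,1,0,1,0,1,0,1,0,2,0,1,0,2,0,1,0,1,0,1,0,2,0,1,0,2,0,1,0,1,0,1,0,2,0,1,0,1,0,2,0,1,0,2,0,2,0,2,0,1,0,1,0,1,0,2,0,1,0,1,0,1,0,1,0,1,0,2,0,1,0,2,0,1,0,1,0,1,0,2,0,1,0,2,0,1,0,1,0,1,0,2,0,1,0,2,0,1,0,1,0,1,0,2,0,1,0,2,0,1,0,1,0,1,0,2,0,1,0,2,0,1,0,1,0,1,0,2,0,1,0,2,0,1,0,1,0,1,0,2,0,1,0,2,0,1,0,1,0,1,0,2,0,1,0,1,0,2,0,2,0,1,0,2,0,1,0,1,0,2,0,2,0,2,0,1,0,1,0,1,0,1,0,2]),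
  (0,4,0,[]),
  (0,3,0,[]),
  (0,0,0,[]),
  (2,1,3,[0,2,0,2,0,2,0,2,0,2,0,1,0,1,0,1,0,2,0,2,0,1,0,1,0,1,0,1,0,1,0,1,0,2,0,1,0,1,0,2,0,1,0,2,0,2,0,2,0,1,0,1,0,1,0,2,0,1,0,1,0,1,0,1,0,1,0,2,0,1,0,1,0,2,0,1,0,2,0,2,0,2,0,1,0,1,0,1,0,2,0,1,0,1,0,1,0,1,0,1,0,2,0,1,0,2,0,1,0,1,0,1,0,2,0,1,0,2,0,1,0,1,0,1,0,2,0,1,0,2,0,1,0,1,0,1,0,2,0,1,0,2,0,1,0,1,0,1,0,2,0,1,0,2,0,1,0,1,0,1,0,2,0,1,0,2,0,1,0,1,0,1,0,2,0,1,0,1,0,2,0,2,0,1,0,1,0,1,0,1,0,2,0,2,0,2,0,2,0,2,0]),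
  (0,4,0,[]),
  (0,3,0,[]),
  (0,0,0,[]),
  (0,0,0,[])]]

end H84.J4N
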