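import Mathlib
import Cfsg.Agent.H84.J4N.Span
import Cfsg.Agent.H84.J4N.MovesTwist

/-!
Conjugation by `t` of nine independent elements of the group generated by the conjugates of `s`:
three are fixed, six are multiplied by elements of the image of the small presentation.
-/

set_option autoImplicit false
set_option maxRecDepth 100000

namespace H84.J4N.Setup

open H54.J4 (Pres)

variable {G : Type*} [Group G] (R : Setup G)

/-- the product of basis elements of a bit set -/
def em (m : ℕ) : G := ((bits m).map R.e).prod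

theorem em_mem (m : ℕ) : R.em m ∈ R.eSub := R.prod_bits_mem m

/-- the conjugate of `s` of a word -/
def sw (w : List ℕ) : G := (R.φ (pv w))⁻¹ * R.s * R.φ (pv w)

theorem sw_eq_sext (w : List ℕ) : R.sw w = R.sext.rval ([w], []) := by
  simp [sw, Conj.rval_eq, sext]

theorem sw_eq_trio (w : List ℕ) : R.sw w = R.trio.rval (sWords.map (· ++ w), []) := by
  rw [R.rval_shift, ← R.s_eq, sw]

theorem sw_sq (w : List ℕ) : R.sw w * R.sw w = 1 := by
  unfold sw
  calc (R.φ (pv w))⁻¹ * R.s * R.φ (pv w) * ((R.φ (pv w))⁻¹ * R.s * R.φ (pv w))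
      = (R.φ (pv w))⁻¹ * (R.s * R.s) * R.φ (pv w) := by group
    _ = 1 := by rw [R.s_sq]; group

theorem trio_single (w : List ℕ) :
    R.trio.rval ([w], []) = (R.φ (pv w))⁻¹ * R.t * R.φ (pv w) := by
  simp [Conj.rval_eq, trio]

/-- every listed word has the listed bit set -/
noncomputable def expOK : Bool :=
  (List.finRange 9).all fun i =>
    let wm := ((twistFix.map fun p => (p.1, p.2.1)) ++ twistMove.map fun p => (p.1, p.2.1)).getD
      i.val ([], 0)
    certSextet.derives eRels ([wm.1], []) ((bits wm.2).map fun k => bw.getD k.val [], [])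
      (twistExp.getD i.val [])

theorem expOK_eq : expOK = true := by decide +kernel

theorem sw_em_idx (i : Fin 9) :
    let wm := ((twistFix.map fun p => (p.1, p.2.1)) ++ twistMove.map fun p => (p.1, p.2.1)).getD
      i.val ([], 0)
    R.sw wm.1 = R.em wm.2 := by
  intro wm
  have h := expOK_eq
  simp only [expOK, List.all_eq_true] at h
  rw [sw_eq_sext, R.sext.derives_spec R.eRels_spec (h i (List.mem_finRange i))]
  simp only [Conj.rval_eq, List.map_map, pv_nil, map_one, mul_one, em]
  rfl

/-- the three commuting derivations check -/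
noncomputable def fixOK : Bool :=
  twistFix.all fun p => certTrio.derives tRels
    ([[]] ++ sWords.map (· ++ p.1) ++ [[]] ++ sWords.map (· ++ p.1), []) ([], []) p.2.2

theorem fixOK_eq : fixOK = true := by decide +kernel

theorem t_fix {p : List ℕ × ℕ × List Move} (hp : p ∈ twistFix) :
    R.t * R.sw p.1 = R.sw p.1 * R.t := by
  have h := fixOK_eq
  simp only [fixOK, List.all_eq_true] at h
  have e := R.derived (h p hp)
  rw [R.rval_append, R.rval_append, R.rval_append, R.trio_single, ← R.sw_eq_trio, R.rval_nil,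
    pv_nil, map_one, inv_one, one_mul, mul_one] at e
  have e' : R.t * R.sw p.1 * (R.t * R.sw p.1) = 1 := by rw [← mul_assoc]; exact e
  rw [eq_inv_of_mul_eq_one_left e', mul_inv_rev, inv_eq_of_mul_eq_one_right R.sq,
    inv_eq_of_mul_eq_one_right (R.sw_sq _)]

/-- the frame derivation checks -/
noncomputable def frameOK : Bool :=
  certTrio.derives tRels
    ([frameA] ++ sWords.map (· ++ frameW) ++ [frameA] ++ sWords.map (· ++ frameW), [])
    ([], frameZ) frameMoves

theorem frameOK_eq : frameOK = true := by decide +kernel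

/-- the side conditions of a transported frame -/
noncomputable def moveOK : Bool :=
  twistMove.all fun p =>
    ceq (wcode certTrio.c0 (frameA ++ p.2.2.1)) (wcode certTrio.c0 []) &&
    ceq (wcode certSextet.c0 (frameW ++ p.2.2.1)) (wcode certSextet.c0 p.1) &&
    sameW (wi p.2.2.1 ++ frameZ ++ p.2.2.1) p.2.2.2 && sameW (p.2.2.2 ++ p.2.2.2) []

theorem moveOK_eq : moveOK = true := by decide +kernel

theorem t_move {p : List ℕ × ℕ × List ℕ × List ℕ} (hp : p ∈ twistMove) :
    R.t * R.sw p.1 * R.t = R.sw p.1 * R.φ (pv p.2.2.2) := by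
  have h := moveOK_eq
  simp only [moveOK, List.all_eq_true, Bool.and_eq_true] at h
  obtain ⟨⟨⟨h1, h2⟩, h3⟩, h4⟩ := h p hp
  set g := p.2.2.1
  have ha : (R.φ (pv (frameA ++ g)))⁻¹ * R.t * R.φ (pv (frameA ++ g)) = R.t := by
    rw [← show R.trio.t = R.t from rfl, ← show R.trio.φ = R.φ from rfl, ← R.trio.T_wcode,
      eq_of_ceq h1, R.trio.T_wcode, pv_nil, map_one]
    group
  have hx : R.sw (frameW ++ g) = R.sw p.1 := by
    unfold sw
    rw [← show R.sext.t = R.s from rfl, ← show R.sext.φ = R.φ from rfl, ← R.sext.T_wcode,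
      ← R.sext.T_wcode, eq_of_ceq h2]
  have e := R.derived frameOK_eq
  rw [R.rval_append, R.rval_append, R.rval_append, R.trio_single, ← R.sw_eq_trio] at e
  have ez : R.trio.rval ([], frameZ) = R.φ (pv frameZ) := by simp [Conj.rval_eq, trio]
  rw [ez] at e
  have hz : R.φ (pv p.2.2.2) = (R.φ (pv g))⁻¹ * R.φ (pv frameZ) * R.φ (pv g) := by
    rw [← pv_eq h3, pv_append, pv_append, pv_wi, map_mul, map_mul, map_inv]
  have hz2 : R.φ (pv p.2.2.2) * R.φ (pv p.2.2.2) = 1 := by
    rw [← map_mul, ← pv_append, pv_eq h4, pv_nil, map_one]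
  have conj : R.t * R.sw p.1 * (R.t * R.sw p.1) = R.φ (pv p.2.2.2) := by
    rw [hz, ← e]
    conv_lhs => rw [← ha, ← hx]
    simp only [sw, pv_append, map_mul]
    group
  have ht : R.t⁻¹ = R.t := inv_eq_of_mul_eq_one_right R.sq
  have hs : (R.sw p.1)⁻¹ = R.sw p.1 := inv_eq_of_mul_eq_one_right (R.sw_sq _)
  have hzi : (R.φ (pv p.2.2.2))⁻¹ = R.φ (pv p.2.2.2) := inv_eq_of_mul_eq_one_right hz2
  have inv' : (R.t * R.sw p.1 * (R.t * R.sw p.1))⁻¹ = R.φ (pv p.2.2.2) := by rw [conj, hzi]
  rw [mul_inv_rev, mul_inv_rev, ht, hs] at inv'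
  rw [← inv']
  simp only [← mul_assoc, R.sw_sq, one_mul]

/-- three basis combinations commute with `t` -/
theorem t_em_fix (i : Fin 3) :
    R.t * R.em (twistFix.getD i.val ([], 0, [])).2.1 =
      R.em (twistFix.getD i.val ([], 0, [])).2.1 * R.t := by
  have e := R.sw_em_idx ⟨i.val, by omega⟩
  have hmem : twistFix.getD i.val ([], 0, []) ∈ twistFix := by
    rw [List.getD_eq_getElem _ _ (by simp [twistFix])]
    exact List.getElem_mem _
  have f := R.t_fix hmem
  fin_cases i <;> exact e ▸ f

/-- six basis combinations are multiplied by elements of the small group -/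
theorem t_em_move (i : Fin 6) :
    R.t * R.em (twistMove.getD i.val ([], 0, [], [])).2.1 * R.t =
      R.em (twistMove.getD i.val ([], 0, [], [])).2.1 *
        R.φ (pv (twistMove.getD i.val ([], 0, [], [])).2.2.2) := by
  have e := R.sw_em_idx ⟨3 + i.val, by omega⟩
  have hmem : twistMove.getD i.val ([], 0, [], []) ∈ twistMove := by
    rw [List.getD_eq_getElem _ _ (by simp [twistMove])]
    exact List.getElem_mem _
  have f := R.t_move hmem
  fin_cases i <;> exact e ▸ f

end H84.J4N.Setup
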