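import Mathlib
import Cfsg.Agent.H54.J4.Model

/-!
Words in the two generators of the small presentation, their images on the 24 positions, and
normalised colourings of the positions.
-/

set_option autoImplicit false
set_option maxRecDepth 100000

namespace H84.J4N

open H54.J4 (Pres gA gB permX permY)
open Cfsg

/-- the map to permutations of the 24 positions -/
def psi : Pres →* Equiv.Perm (Fin 24) :=
  PresentedGroup.toGroup (f := ![permX, permY]) (by
    rintro r ⟨w, hw, rfl⟩
    rw [H54.J4.map_ev]
    simpa using H54.J4.perm_rels w hw)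

theorem psi_gA : psi gA = permX := by simp [psi, gA]
theorem psi_gB : psi gB = permY := by simp [psi, gB]

theorem psi_injective : Function.Injective psi := by
  have e : (M24.subtype).comp H54.J4.toM24 = H54.J4.toPts.comp psi := by
    apply MonoidHom.eq_of_eqOn_dense H54.J4.closure_gens
    rintro g (rfl | rfl)
    · simp [H54.J4.toM24_gA, psi_gA, H54.J4.mA]
    · simp [H54.J4.toM24_gB, psi_gB, H54.J4.mB]
  intro a b h
  refine H54.J4.toM24_bijective.1 (M24.subtype_injective ?_)
  have := congrArg (fun f : Pres →* Equiv.Perm GolayPt => f a) e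
  have hb := congrArg (fun f : Pres →* Equiv.Perm GolayPt => f b) e
  simp only [MonoidHom.comp_apply] at this hb
  rw [this, hb, h]

/-- the order of the small presentation -/
theorem card_pres : Nat.card Pres = 244823040 := by
  rw [Nat.card_congr H54.J4.presEquiv.toEquiv, H90.natCard_M24]

/-- the element of a letter: `0` is x, `1` is y, all others are the inverse of y -/
def lv : ℕ → Pres
  | 0 => gA
  | 1 => gB⁻¹
  | _ => gB

/-- the element of a word, read from left to right -/
def pv (w : List ℕ) : Pres := (w.map lv).prod

@[simp] theorem pv_nil : pv [] = 1 := rfl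
theorem pv_cons (l : ℕ) (w : List ℕ) : pv (l :: w) = lv l * pv w := by simp [pv]
theorem pv_append (u v : List ℕ) : pv (u ++ v) = pv u * pv v := by simp [pv]

/-- the inverse letter -/
def li : ℕ → ℕ
  | 0 => 0
  | 1 => 2
  | _ => 1

/-- the inverse word -/
def wi (w : List ℕ) : List ℕ := (w.map li).reverse

theorem lv_li (l : ℕ) : lv (li l) = (lv l)⁻¹ := by
  match l with
  | 0 => exact (inv_eq_of_mul_eq_one_right H54.J4.gA_sq).symm
  | 1 => simp [lv, li]
  | n + 2 => simp [lv, li]

theorem pv_wi (w : List ℕ) : pv (wi w) = (pv w)⁻¹ := by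
  induction w with
  | nil => simp [wi, pv]
  | cons l w ih =>
    have e : wi (l :: w) = wi w ++ [li l] := by simp [wi]
    rw [e, pv_append, pv_cons (li l) [], ih, pv_nil, mul_one, lv_li, pv_cons, mul_inv_rev]

/-- images of the positions under x, packed in five bits each -/
def xData : ℕ := 0x219e248dc1ac4eb602656d9179520a
/-- images of the positions under y -/
def yData : ℕ := 0x222d49b8e98b212b95b57984b1a820
/-- images of the positions under the inverse of y -/
def yiData : ℕ := 0x5d5149b1ed3c92e20a168995719420

/-- the image of a position under a letter -/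
def lg : ℕ → ℕ → ℕ
  | 0, i => Nat.land (Nat.shiftRight xData (Nat.mul 5 i)) 31
  | 1, i => Nat.land (Nat.shiftRight yData (Nat.mul 5 i)) 31
  | _, i => Nat.land (Nat.shiftRight yiData (Nat.mul 5 i)) 31

/-- the image of a position under a word -/
def wg (w : List ℕ) (i : ℕ) : ℕ := w.foldl (fun p l => lg l p) i

theorem lg_spec (l : ℕ) : ∀ i : Fin 24, lg l i = ((psi (lv l))⁻¹ i).val := by
  match l with
  | 0 => simp only [lv, psi_gA]; decide +kernel
  | 1 => simp only [lv, map_inv, psi_gB]; decide +kernel
  | n + 2 =>
    simp only [lv, psi_gB]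
    exact (by decide +kernel : ∀ i : Fin 24, lg 2 i = (permY⁻¹ i).val)

theorem wg_spec (w : List ℕ) : ∀ i : Fin 24, wg w i = ((psi (pv w))⁻¹ i).val := by
  induction w with
  | nil => simp [wg]
  | cons l w ih =>
    intro i
    rw [pv_cons, map_mul, mul_inv_rev, Equiv.Perm.mul_apply, ← ih, ← lg_spec]
    rfl

/-- two words have the same value -/
def sameW (u v : List ℕ) : Bool := (List.range 24).all fun i => Nat.beq (wg u i) (wg v i)

theorem pv_eq {u v : List ℕ} (h : sameW u v = true) : pv u = pv v := by
  apply psi_injective
  rw [← inv_inj]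
  ext i
  rw [← wg_spec, ← wg_spec]
  simp only [sameW, List.all_eq_true, List.mem_range, Nat.beq_eq] at h
  exact h i i.2

/-- first place of a number in a list -/
def idx : List ℕ → ℕ → ℕ
  | [], _ => 0
  | b :: l, a => bif Nat.beq b a then 0 else idx l a + 1

theorem idx_eq : ∀ (l : List ℕ) (a : ℕ), idx l a = l.idxOf a
  | [], a => by simp [idx]
  | b :: l, a => by
    rw [idx]
    by_cases h : b = a
    · subst h; simp
    · have hb : Nat.beq b a = false := Bool.eq_false_iff.mpr (fun e => h (Nat.eq_of_beq_eq_true e))
      rw [hb, List.idxOf_cons_ne _ h, idx_eq l a]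
      rfl

/-- evaluate the entries of a list before going on -/
noncomputable def forceL {α : Type} : List ℕ → (List ℕ → α) → α
  | [], k => k []
  | a :: l, k => H93.Coset.force a fun a => forceL l fun l => k (a :: l)

theorem forceL_eq {α : Type} : ∀ (l : List ℕ) (k : List ℕ → α), forceL l k = k l
  | [], k => rfl
  | a :: l, k => by rw [forceL, H93.Coset.force_eq, forceL_eq l]

/-- normalised colouring: every colour becomes the first position carrying it -/
def nrm (l : List ℕ) : List ℕ := l.map fun a => idx l a

theorem idxOf_map {l : List ℕ} {f : ℕ → ℕ} :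
    ∀ {a : ℕ}, (∀ b ∈ l, f b = f a → b = a) → (l.map f).idxOf (f a) = l.idxOf a := by
  induction l with
  | nil => intros; simp
  | cons c l ih =>
    intro a h
    rw [List.map_cons]
    by_cases hc : c = a
    · subst hc; simp
    · have hf : f c ≠ f a := fun e => hc (h c (List.mem_cons_self ..) e)
      rw [List.idxOf_cons_ne _ hf, List.idxOf_cons_ne _ hc,
        ih fun b hb => h b (List.mem_cons_of_mem _ hb)]

theorem nrm_map {l : List ℕ} {f : ℕ → ℕ} (h : ∀ a ∈ l, ∀ b ∈ l, f a = f b → a = b) :
    nrm (l.map f) = nrm l := by
  unfold nrm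
  simp only [idx_eq]
  rw [List.map_map]
  refine List.map_congr_left fun a ha => ?_
  exact idxOf_map fun b hb => h b hb a ha

/-- the positions -/
def pts : List ℕ := [0, 1, 2, 3, 4, 5, 6, 7, 8, 9, 10, 11, 12, 13, 14, 15, 16, 17, 18, 19, 20, 21, 22, 23]

theorem pts_eq : pts = List.range 24 := by decide +kernel

/-- the entry at a place -/
def at_ : List ℕ → ℕ → ℕ
  | [], _ => 0
  | a :: l, i => bif Nat.beq i 0 then a else at_ l (i - 1)

theorem at_eq : ∀ (l : List ℕ) (i : ℕ), at_ l i = l.getD i 0
  | [], i => by simp [at_]
  | a :: l, 0 => rfl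
  | a :: l, i + 1 => at_eq l i

/-- recolour by a list of preimages -/
noncomputable def actP (p c : List ℕ) : List ℕ :=
  forceL (p.map (at_ c)) fun l => forceL (nrm l) id

/-- recolour by a word -/
noncomputable def act (w : List ℕ) (c : List ℕ) : List ℕ :=
  forceL (pts.map (wg (wi w))) fun p => actP p c

variable (c0 : List ℕ)

/-- the colouring moved by an element -/
def code (g : Pres) : List ℕ :=
  nrm ((List.finRange 24).map fun i => c0.getD (psi g i).val 0)

theorem code_length (g : Pres) : (code c0 g).length = 24 := by simp [code, nrm]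

theorem code_mul (g h : Pres) :
    code c0 (g * h) = nrm ((List.finRange 24).map fun i => (code c0 g).getD (psi h i).val 0) := by
  set l := (List.finRange 24).map fun i => c0.getD (psi g i).val 0 with hl
  have e : code c0 (g * h) =
      nrm ((List.finRange 24).map fun i => l.getD (psi h i).val 0) := by
    rw [code]
    congr 1
    refine List.map_congr_left fun i _ => ?_
    rw [map_mul, Equiv.Perm.mul_apply, hl,
      List.getD_eq_getElem (l := (List.finRange 24).map _) _ (by simp)]
    simp [List.getElem_map, List.getElem_finRange]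
  rw [e]
  have e2 : ((List.finRange 24).map fun i => (code c0 g).getD (psi h i).val 0) =
      ((List.finRange 24).map fun i => l.getD (psi h i).val 0).map (fun a => l.idxOf a) := by
    rw [List.map_map]
    refine List.map_congr_left fun i _ => ?_
    have hlen : (psi h i).val < l.length := by simp [hl]
    show (nrm l).getD _ 0 = _
    rw [Function.comp_apply, List.getD_eq_getElem _ _ (by simpa [nrm] using hlen),
      List.getD_eq_getElem _ _ hlen]
    simp [nrm, idx_eq]
  rw [e2, nrm_map]
  intro a ha b hb hab
  simp only [List.mem_map] at ha hb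
  obtain ⟨i, -, rfl⟩ := ha
  obtain ⟨j, -, rfl⟩ := hb
  refine (List.idxOf_inj ?_).mp hab
  have hlen : (psi h i).val < l.length := by simp [hl]
  rw [List.getD_eq_getElem _ _ hlen]
  exact List.getElem_mem hlen

theorem code_congr {g g' : Pres} (h : code c0 g = code c0 g') (k : Pres) :
    code c0 (g * k) = code c0 (g' * k) := by rw [code_mul, code_mul, h]

theorem act_spec (g : Pres) (w : List ℕ) : act w (code c0 g) = code c0 (g * pv w) := by
  rw [code_mul, act, forceL_eq, actP, forceL_eq, forceL_eq, id_eq, List.map_map, pts_eq]
  congr 1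
  apply List.ext_getElem
  · simp
  · intro i h1 h2
    simp only [Function.comp_def, at_eq]
    have hi : i < 24 := by simpa using h1
    have := wg_spec (wi w) ⟨i, hi⟩
    rw [pv_wi, map_inv, inv_inv] at this
    simp only [List.getElem_map, List.getElem_range, List.getElem_finRange]
    rw [show wg (wi w) i = _ from this]
    rfl

/-- the code of a word -/
noncomputable def wcode (w : List ℕ) : List ℕ := act w (nrm c0)

theorem code_one (h0 : c0.length = 24) : code c0 1 = nrm c0 := by
  rw [code]
  congr 1
  apply List.ext_getElem
  · simp [h0]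
  · intro i h1 h2
    simp [List.getElem_finRange, h2]

theorem wcode_spec (h0 : c0.length = 24) (w : List ℕ) : wcode c0 w = code c0 (pv w) := by
  rw [wcode, ← code_one c0 h0, act_spec, one_mul]

end H84.J4N
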