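import Mathlib
import Cfsg.Agent.H84.J4N.Words

/-!
A certificate that some words generate the whole stabiliser of a colouring: a lower bound for the
number of images of the colouring and a lower bound for the order of the generated group.
-/

set_option autoImplicit false

namespace H84.J4N

open H54.J4 (Pres)

/-- certificate data for a colouring -/
structure Cert where
  /-- the colouring -/
  c0 : List ℕ
  /-- generators of the stabiliser -/
  gens : List (List ℕ)
  /-- tree traversal: letters push, `3` pops -/
  prog : List ℕ
  /-- places of the visited colourings in the increasing table -/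
  ranks : List ℕ
  /-- the increasing table of packed colourings, 128 bits each -/
  table : ℕ
  /-- the number of colourings -/
  size : ℕ
  /-- base positions with transversal words in the generators -/
  chain : List (ℕ × List (List ℕ))

namespace Cert

variable (C : Cert)

/-- the stabiliser of the colouring -/
def stab : Subgroup Pres where
  carrier := {g | code C.c0 g = code C.c0 1}
  one_mem' := rfl
  mul_mem' := by
    intro a b (ha : _ = _) (hb : _ = _)
    show code C.c0 (a * b) = _
    rw [code_congr C.c0 ha b, one_mul, hb]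
  inv_mem' := by
    intro a (ha : _ = _)
    show code C.c0 a⁻¹ = _
    have := code_congr C.c0 ha a⁻¹
    rw [mul_inv_cancel, one_mul] at this
    exact this.symm

theorem mem_stab {g : Pres} : g ∈ C.stab ↔ code C.c0 g = code C.c0 1 := Iff.rfl

/-- the generated subgroup -/
def sub : Subgroup Pres := Subgroup.closure (pv '' {w | w ∈ C.gens})

/-- run the traversal -/
noncomputable def visit : List ℕ → List (List ℕ) → List (List ℕ)
  | [], _ => []
  | _ :: _, [] => []
  | op :: ops, top :: st =>
    if op = 3 then visit ops st else act [op] top :: visit ops (act [op] top :: top :: st)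

/-- all visited colourings -/
noncomputable def seen : List (List ℕ) := wcode C.c0 [] :: visit C.prog [wcode C.c0 []]

/-- pack a colouring -/
def pk (c : List ℕ) : ℕ := c.foldl (fun a b => 32 * a + b) 0

/-- an entry of the table -/
def entry (r : ℕ) : ℕ := (C.table >>> (128 * r)) &&& (2 ^ 128 - 1)

/-- check the pairs of colourings and places -/
noncomputable def rankOK : List (List ℕ) → List ℕ → Bool
  | [], [] => true
  | c :: cs, r :: rs => Nat.beq (C.entry r) (pk c) && rankOK cs rs
  | _, _ => false

/-- the places as a bit set -/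
def cover : List ℕ → ℕ
  | [] => 0
  | r :: rs => (1 <<< r) ||| cover rs

/-- the table increases -/
def tableOK : Bool :=
  (List.range (C.size - 1)).all fun r => Nat.blt (C.entry r) (C.entry (r + 1))

/-- the element of a chain word -/
def chainWord (u : List ℕ) : List ℕ := (u.map fun k => C.gens.getD k []).flatten

/-- strictly increasing -/
def incr : List ℕ → Bool
  | [] => true
  | [_] => true
  | a :: b :: l => Nat.blt a b && incr (b :: l)

/-- check one level -/
noncomputable def levelOK (pre : List ℕ) (b : ℕ) (us : List (List ℕ)) : Bool :=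
  Nat.blt b 24 && us.all (fun u => pre.all fun p => Nat.beq (wg (C.chainWord u) p) p)
    && incr (us.map fun u => wg (C.chainWord u) b)

/-- check the chain -/
noncomputable def chainOK : List ℕ → List (ℕ × List (List ℕ)) → Bool
  | _, [] => true
  | pre, (b, us) :: rest => C.levelOK pre b us && chainOK (b :: pre) rest

/-- the product of the level sizes -/
def chainSize : List (ℕ × List (List ℕ)) → ℕ
  | [] => 1
  | (_, us) :: rest => us.length * chainSize rest

/-- the whole check -/
noncomputable def ok : Bool :=
  Nat.beq C.c0.length 24 && C.gens.all (fun w => wcode C.c0 w == wcode C.c0 [])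
    && C.rankOK C.seen C.ranks && Nat.beq (cover C.ranks) (2 ^ C.size - 1) && C.tableOK
    && C.chainOK [] C.chain && Nat.beq (chainSize C.chain * C.size) 244823040

variable {C}

theorem visit_mem : ∀ (ops : List ℕ) (st : List (List ℕ)),
    (∀ c ∈ st, ∃ g, code C.c0 g = c) → ∀ c ∈ visit ops st, ∃ g, code C.c0 g = c := by
  intro ops
  induction ops with
  | nil => simp [visit]
  | cons op ops ih =>
    intro st hst
    match st with
    | [] => simp [visit]
    | top :: st =>
      rw [visit]
      obtain ⟨g, hg⟩ := hst top (List.mem_cons_self ..)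
      have hnew : ∃ g, code C.c0 g = act [op] top := ⟨g * pv [op], by rw [← hg, act_spec]⟩
      split
      · exact ih st fun c hc => hst c (List.mem_cons_of_mem _ hc)
      · intro c hc
        rcases List.mem_cons.mp hc with rfl | hc
        · exact hnew
        · refine ih _ (fun d hd => ?_) c hc
          rcases List.mem_cons.mp hd with rfl | hd
          · exact hnew
          · exact hst d hd

theorem seen_mem (h0 : C.c0.length = 24) : ∀ c ∈ C.seen, ∃ g, code C.c0 g = c := by
  have h : ∃ g, code C.c0 g = wcode C.c0 [] := ⟨1, by rw [wcode_spec _ h0, pv_nil]⟩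
  intro c hc
  rcases List.mem_cons.mp hc with rfl | hc
  · exact h
  · exact visit_mem _ _ (by simpa using h) c hc

theorem rankOK_spec : ∀ (cs : List (List ℕ)) (rs : List ℕ), C.rankOK cs rs = true →
    ∀ r ∈ rs, ∃ c ∈ cs, C.entry r = pk c
  | [], [], _ => by simp
  | [], _ :: _, h => by simp [rankOK] at h
  | _ :: _, [], h => by simp [rankOK] at h
  | c :: cs, r :: rs, h => by
    simp only [rankOK, Bool.and_eq_true, Nat.beq_eq] at h
    intro r' hr'
    rcases List.mem_cons.mp hr' with rfl | hr'
    · exact ⟨c, List.mem_cons_self .., h.1⟩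
    · obtain ⟨d, hd, e⟩ := rankOK_spec cs rs h.2 r' hr'
      exact ⟨d, List.mem_cons_of_mem _ hd, e⟩

theorem mem_of_cover : ∀ {rs : List ℕ} {r : ℕ}, (cover rs).testBit r = true → r ∈ rs
  | [], r, h => by simp [cover] at h
  | a :: rs, r, h => by
    simp only [cover, Nat.testBit_or, Bool.or_eq_true, Nat.shiftLeft_eq, one_mul,
      Nat.testBit_two_pow, decide_eq_true_eq] at h
    rcases h with rfl | h
    · exact List.mem_cons_self ..
    · exact List.mem_cons_of_mem _ (mem_of_cover h)

theorem incr_pairwise : ∀ {l : List ℕ}, incr l = true → l.Pairwise (· < ·)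
  | [], _ => List.Pairwise.nil
  | [_], _ => List.pairwise_singleton _ _
  | a :: b :: l, h => by
    simp only [incr, Bool.and_eq_true, Nat.blt_eq] at h
    have ih := incr_pairwise h.2
    refine List.pairwise_cons.mpr ⟨fun c hc => ?_, ih⟩
    rcases List.mem_cons.mp hc with rfl | hc
    · exact h.1
    · exact h.1.trans ((List.pairwise_cons.mp ih).1 c hc)

theorem chainWord_mem (u : List ℕ) : pv (C.chainWord u) ∈ C.sub := by
  induction u with
  | nil => exact one_mem _
  | cons k u ih =>
    have e : C.chainWord (k :: u) = C.gens.getD k [] ++ C.chainWord u := by simp [chainWord]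
    rw [e, pv_append]
    refine mul_mem ?_ ih
    rw [List.getD_eq_getElem?_getD]
    rcases hk : C.gens[k]? with _ | w
    · exact one_mem _
    · exact Subgroup.subset_closure ⟨w, List.mem_of_getElem? hk, rfl⟩

/-- elements of the generated subgroup fixing given positions -/
abbrev Fixing (C : Cert) (pre : List ℕ) : Type :=
  {g : Pres // g ∈ C.sub ∧ ∀ i : Fin 24, i.val ∈ pre → (psi g)⁻¹ i = i}

theorem finite_pres : Finite Pres := Nat.finite_of_card_ne_zero (by rw [card_pres]; norm_num)

theorem chain_le : ∀ (ls : List (ℕ × List (List ℕ))) (pre : List ℕ),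
    C.chainOK pre ls = true → chainSize ls ≤ Nat.card (Fixing C pre) := by
  haveI := finite_pres
  intro ls
  induction ls with
  | nil =>
    intro pre _
    haveI : Nonempty (Fixing C pre) := ⟨⟨1, one_mem _, by simp⟩⟩
    exact Nat.card_pos
  | cons bu rest ih =>
    obtain ⟨b, us⟩ := bu
    intro pre h
    simp only [chainOK, levelOK, Bool.and_eq_true, Nat.blt_eq, List.all_eq_true, Nat.beq_eq] at h
    obtain ⟨⟨⟨hb, hfix⟩, hinc⟩, hrest⟩ := h
    refine le_trans (Nat.mul_le_mul_left _ (ih _ hrest)) ?_
    rw [← Nat.card_fin us.length, ← Nat.card_prod]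
    have hdis := List.pairwise_map.mp (incr_pairwise hinc)
    let f : Fin us.length × Fixing C (b :: pre) → Fixing C pre := fun p =>
      ⟨p.2.1 * pv (C.chainWord us[p.1]), mul_mem p.2.2.1 (chainWord_mem _), fun i hi => by
        rw [map_mul, mul_inv_rev, Equiv.Perm.mul_apply, p.2.2.2 i (List.mem_cons_of_mem _ hi)]
        apply Fin.ext
        rw [← wg_spec]
        exact hfix _ (List.getElem_mem _) _ hi⟩
    refine Nat.card_le_card_of_injective f ?_
    rintro ⟨j, g⟩ ⟨j', g'⟩ e
    have e' : g.1 * pv (C.chainWord us[j]) = g'.1 * pv (C.chainWord us[j']) := congrArg Subtype.val e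
    have key : wg (C.chainWord us[j]) b = wg (C.chainWord us[j']) b := by
      have h1 := congrArg (fun x => ((psi x)⁻¹ ⟨b, hb⟩).val) e'
      simp only [map_mul, mul_inv_rev, Equiv.Perm.mul_apply] at h1
      rw [g.2.2 ⟨b, hb⟩ (List.mem_cons_self ..), g'.2.2 ⟨b, hb⟩ (List.mem_cons_self ..)] at h1
      rwa [← wg_spec, ← wg_spec] at h1
    have hj : j = j' := by
      rcases lt_trichotomy j j' with hlt | heq | hgt
      · exact absurd key (ne_of_lt (List.pairwise_iff_getElem.mp hdis _ _ j.2 j'.2 hlt))
      · exact heq
      · exact absurd key.symm (ne_of_lt (List.pairwise_iff_getElem.mp hdis _ _ j'.2 j.2 hgt))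
    subst hj
    exact Prod.ext rfl (Subtype.ext (mul_right_cancel e'))

theorem length_of_ok (h : C.ok = true) : C.c0.length = 24 := by
  simp only [ok, Bool.and_eq_true, Nat.beq_eq] at h
  exact h.1.1.1.1.1.1

theorem sub_eq_stab (h : C.ok = true) : C.sub = C.stab := by
  haveI := finite_pres
  have h0 := length_of_ok h
  simp only [ok, Bool.and_eq_true, Nat.beq_eq, List.all_eq_true, beq_iff_eq] at h
  obtain ⟨⟨⟨⟨⟨⟨-, hgens⟩, hrank⟩, hcover⟩, htab⟩, hchain⟩, hsize⟩ := h
  have hle : C.sub ≤ C.stab := by
    rw [sub, Subgroup.closure_le]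
    rintro _ ⟨w, hw, rfl⟩
    show code _ _ = _
    have := hgens w hw
    rwa [wcode_spec _ h0, wcode_spec _ h0, pv_nil] at this
  have hex : ∀ r : Fin C.size, ∃ g, C.entry r = pk (code C.c0 g) := by
    intro r
    obtain ⟨c, hc, e⟩ := rankOK_spec _ _ hrank r (mem_of_cover (by
      rw [hcover, Nat.testBit_two_pow_sub_one]; simp))
    obtain ⟨g, rfl⟩ := seen_mem h0 c hc
    exact ⟨g, e⟩
  choose f hf using hex
  have hmono : ∀ a b : ℕ, a < b → b < C.size → C.entry a < C.entry b := by
    intro a b hab hb
    simp only [tableOK, List.all_eq_true, List.mem_range, Nat.blt_eq] at htab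
    induction b with
    | zero => omega
    | succ b ih =>
      rcases Nat.lt_succ_iff_lt_or_eq.mp hab with h | rfl
      · exact (ih h (by omega)).trans (htab b (by omega))
      · exact htab a (by omega)
  have h1 : C.size * Nat.card C.stab ≤ Nat.card Pres := by
    rw [← Nat.card_fin C.size, ← Nat.card_prod]
    refine Nat.card_le_card_of_injective (fun p => p.2.1 * f p.1) ?_
    rintro ⟨i, s⟩ ⟨j, s'⟩ e
    simp only at e
    have hc : code C.c0 (f i) = code C.c0 (f j) := by
      have a := code_congr C.c0 (s.2 : _ = _) (f i)
      have b := code_congr C.c0 (s'.2 : _ = _) (f j)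
      rw [one_mul] at a b
      rw [← a, ← b, e]
    have hij : i = j := by
      have := hf i
      rw [hc, ← hf j] at this
      rcases lt_trichotomy i.val j.val with h | h | h
      · exact absurd this (ne_of_lt (hmono _ _ h j.2))
      · exact Fin.ext h
      · exact absurd this.symm (ne_of_lt (hmono _ _ h i.2))
    subst hij
    exact Prod.ext rfl (Subtype.ext (mul_right_cancel e))
  have h2 : chainSize C.chain ≤ Nat.card C.sub :=
    (chain_le _ _ hchain).trans (Nat.card_le_card_of_injective
      (fun g => (⟨g.1, g.2.1⟩ : C.sub)) (fun a b e => Subtype.ext (congrArg Subtype.val e :)))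
  refine Subgroup.eq_of_le_of_card_ge hle ?_
  rw [card_pres] at h1
  have hpos : 0 < C.size := by
    rcases Nat.eq_zero_or_pos C.size with h | h
    · simp [h] at hsize
    · exact h
  refine Nat.le_of_mul_le_mul_left ?_ hpos
  refine h1.trans ?_
  rw [← hsize, mul_comm]
  exact Nat.mul_le_mul_left _ h2

end Cert

end H84.J4N
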