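import Mathlib
import Cfsg.Agent.H84.J4N.Span

/-!
The small presentation acts on `(ZMod 2)^11` by the two conjugation matrices, and the semidirect
product maps onto the group generated by x, y and `s`.
-/

set_option autoImplicit false
set_option maxRecDepth 100000

namespace H84.J4N

open H54.J4 (Pres gA gB)

/-- exponent vectors -/
abbrev Vec : Type := Fin 11 → ZMod 2

/-- square matrices over `ZMod 2` -/
abbrev VMat : Type := Matrix (Fin 11) (Fin 11) (ZMod 2)

/-- a matrix whose columns are given as bit sets -/
def colMat (cols : List ℕ) : VMat :=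
  fun i j => if (cols.getD j.val 0).testBit i.val then 1 else 0

/-- conjugation by x -/
def unitX : VMatˣ where
  val := colMat matX
  inv := colMat matX
  val_inv := by decide +kernel
  inv_val := by decide +kernel

/-- conjugation by the inverse of y -/
def unitY : VMatˣ where
  val := colMat matY
  inv := colMat matY * colMat matY
  val_inv := by decide +kernel
  inv_val := by decide +kernel

theorem unit_rels : ∀ w ∈ H54.J4.relsP, H54.J4.ev unitX unitY w = 1 := by decide +kernel

/-- the action by matrices -/
def matHom : Pres →* VMatˣ :=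
  PresentedGroup.toGroup (f := ![unitX, unitY]) (by
    rintro r ⟨w, hw, rfl⟩
    rw [H54.J4.map_ev]
    simpa using unit_rels w hw)

theorem matHom_gA : matHom gA = unitX := by simp [matHom, gA]
theorem matHom_gB : matHom gB = unitY := by simp [matHom, gB]

/-- an invertible matrix as an automorphism -/
def vecAut : VMatˣ →* MulAut (Multiplicative Vec) where
  toFun u :=
    { toFun := fun v => Multiplicative.ofAdd (u.val.mulVec v.toAdd)
      invFun := fun v => Multiplicative.ofAdd ((u⁻¹).val.mulVec v.toAdd)
      left_inv := fun v => by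
        simp only [toAdd_ofAdd, Matrix.mulVec_mulVec, Units.inv_mul, Matrix.one_mulVec, ofAdd_toAdd]
      right_inv := fun v => by
        simp only [toAdd_ofAdd, Matrix.mulVec_mulVec, Units.mul_inv, Matrix.one_mulVec, ofAdd_toAdd]
      map_mul' := fun v w => by simp [Matrix.mulVec_add, ← ofAdd_add] }
  map_one' := by ext v; simp
  map_mul' u w := by ext v; simp [Matrix.mulVec_mulVec]

/-- the action on exponent vectors -/
def vecAct : Pres →* MulAut (Multiplicative Vec) := vecAut.comp matHom

theorem vecAct_apply (g : Pres) (v : Multiplicative Vec) :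
    vecAct g v = Multiplicative.ofAdd ((matHom g).val.mulVec v.toAdd) := rfl

namespace Setup

variable {G : Type*} [Group G] (R : Setup G)

theorem eHom_col (cols : List ℕ) (j : Fin 11) :
    R.eHom (Multiplicative.ofAdd ((colMat cols).mulVec (Pi.single j 1))) =
      ((bits (cols.getD j.val 0)).map R.e).prod := by
  rw [Matrix.mulVec_single_one]
  show ((List.finRange 11).map fun k => R.pw k (colMat cols k j)).prod = _
  unfold bits
  generalize List.finRange 11 = l
  induction l with
  | nil => rfl
  | cons k l ih =>
    rw [List.map_cons, List.prod_cons, ih]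
    by_cases hb : (cols.getD j.val 0).testBit k.val
    · have hc : colMat cols k j = 1 := if_pos hb
      rw [List.filter_cons_of_pos (by simpa using hb), List.map_cons, List.prod_cons, hc]
      simp [pw, ZMod.val_one]
    · have hc : colMat cols k j = 0 := if_neg hb
      rw [List.filter_cons_of_neg (by simpa using hb), hc]
      simp [pw]

theorem eHom_ext {f g : Multiplicative Vec →* G}
    (h : ∀ j, f (Multiplicative.ofAdd (Pi.single j 1)) = g (Multiplicative.ofAdd (Pi.single j 1))) :
    f = g := by
  have hz : ∀ c : ZMod 2, c = 0 ∨ c = 1 := by decide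
  refine MonoidHom.ext fun v => ?_
  obtain ⟨v, rfl⟩ : ∃ u : Vec, Multiplicative.ofAdd u = v := ⟨v.toAdd, rfl⟩
  induction v using Pi.single_induction with
  | zero => simp
  | add a b ha hb => rw [ofAdd_add, map_mul, map_mul, ha, hb]
  | single i c =>
    rcases hz c with rfl | rfl
    · simp
    · exact h i

theorem conj_act (g : Pres) : R.eHom.comp (vecAct g).toMonoidHom =
    (MulAut.conj (R.φ g)).toMonoidHom.comp R.eHom := by
  have base : ∀ z ∈ ({gA, gB} : Set Pres), R.eHom.comp (vecAct z).toMonoidHom =
      (MulAut.conj (R.φ z)).toMonoidHom.comp R.eHom := by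
    rintro z (rfl | rfl) <;> refine eHom_ext fun j => ?_
    · show R.eHom (vecAct gA _) = R.φ gA * R.eHom _ * (R.φ gA)⁻¹
      rw [vecAct_apply, matHom_gA, toAdd_ofAdd, R.eHom_single]
      show R.eHom (Multiplicative.ofAdd ((colMat matX).mulVec (Pi.single j 1))) = _
      rw [R.eHom_col, ← R.e_conj_x, ← map_inv,
        inv_eq_of_mul_eq_one_right H54.J4.gA_sq]
    · show R.eHom (vecAct gB _) = R.φ gB * R.eHom _ * (R.φ gB)⁻¹
      rw [vecAct_apply, matHom_gB, toAdd_ofAdd, R.eHom_single]
      show R.eHom (Multiplicative.ofAdd ((colMat matY).mulVec (Pi.single j 1))) = _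
      rw [R.eHom_col, ← R.e_conj_y, map_inv, inv_inv]
  have hg : g ∈ Subgroup.closure ({gA, gB} : Set Pres) := H54.J4.closure_gens ▸ Subgroup.mem_top g
  induction hg using Subgroup.closure_induction with
  | mem z hz => exact base z hz
  | one => ext v; simp
  | mul a b _ _ ha hb =>
    refine MonoidHom.ext fun v => ?_
    have h1 := DFunLike.congr_fun ha (vecAct b v)
    have h2 := DFunLike.congr_fun hb v
    simp only [MonoidHom.comp_apply, MulEquiv.coe_toMonoidHom, MulAut.conj_apply] at h1 h2 ⊢
    rw [map_mul, MulAut.mul_apply, h1, h2, map_mul]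
    group
  | inv a _ ha =>
    refine MonoidHom.ext fun v => ?_
    have h1 := DFunLike.congr_fun ha ((vecAct a)⁻¹ v)
    simp only [MonoidHom.comp_apply, MulEquiv.coe_toMonoidHom, MulAut.conj_apply,
      MulAut.apply_inv_self] at h1 ⊢
    rw [map_inv, h1, map_inv]
    group

/-- the map from the semidirect product -/
def modelHom : (Multiplicative Vec) ⋊[vecAct] Pres →* G :=
  SemidirectProduct.lift R.eHom R.φ R.conj_act

theorem modelHom_inl (v : Multiplicative Vec) :
    R.modelHom (SemidirectProduct.inl v) = R.eHom v := SemidirectProduct.lift_inl ..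

theorem modelHom_inr (g : Pres) : R.modelHom (SemidirectProduct.inr g) = R.φ g :=
  SemidirectProduct.lift_inr ..

theorem range_modelHom : R.modelHom.range = R.nSub := by
  refine le_antisymm ?_ (sup_le ?_ ?_)
  · rintro _ ⟨x, rfl⟩
    rw [← SemidirectProduct.inl_left_mul_inr_right x, map_mul, modelHom_inl, modelHom_inr]
    exact mul_mem (le_sup_left (a := R.eSub) (R.range_eHom ▸ ⟨_, rfl⟩))
      (le_sup_right (a := R.eSub) ⟨_, rfl⟩)
  · rw [← R.range_eHom]
    rintro _ ⟨v, rfl⟩
    exact ⟨_, R.modelHom_inl v⟩
  · rintro _ ⟨g, rfl⟩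
    exact ⟨_, R.modelHom_inr g⟩

end Setup

end H84.J4N
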