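import Mathlib
import Cfsg.Agent.H84.J4N.Count

/-!
Conjugates of an element centralised by the stabiliser of a colouring, indexed by the images of
the colouring, and checked rewriting of their products by given relations.
-/

set_option autoImplicit false

namespace H84.J4N

open H54.J4 (Pres)

/-- an element with the stabiliser of a colouring in its centraliser -/
structure Conj (C : Cert) (G : Type*) [Group G] where
  φ : Pres →* G
  t : G
  ok : C.ok = true
  sq : t * t = 1
  comm : ∀ w ∈ C.gens, φ (pv w) * t = t * φ (pv w)

namespace Conj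

variable {C : Cert} {G : Type*} [Group G] (S : Conj C G)

theorem comm_stab {g : Pres} (hg : g ∈ C.stab) : S.φ g * S.t = S.t * S.φ g := by
  rw [← Cert.sub_eq_stab S.ok] at hg
  induction hg using Subgroup.closure_induction with
  | mem x hx => obtain ⟨w, hw, rfl⟩ := hx; exact S.comm w hw
  | one => simp
  | mul a b _ _ ha hb => rw [map_mul, mul_assoc, hb, ← mul_assoc, ha, mul_assoc]
  | inv a _ ha => rw [map_inv, inv_mul_eq_iff_eq_mul, ← mul_assoc, ha, mul_inv_cancel_right]

open Classical in
/-- the conjugate belonging to a colouring -/
noncomputable def T (c : List ℕ) : G :=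
  if h : ∃ g, code C.c0 g = c then (S.φ h.choose)⁻¹ * S.t * S.φ h.choose else 1

theorem T_code (g : Pres) : S.T (code C.c0 g) = (S.φ g)⁻¹ * S.t * S.φ g := by
  rw [T, dif_pos ⟨g, rfl⟩]
  set h := (⟨g, rfl⟩ : ∃ h, code C.c0 h = code C.c0 g).choose with hh
  have hc : code C.c0 h = code C.c0 g :=
    (⟨g, rfl⟩ : ∃ h, code C.c0 h = code C.c0 g).choose_spec
  have hs : h * g⁻¹ ∈ C.stab := by
    rw [Cert.mem_stab, code_congr C.c0 hc, mul_inv_cancel]
  have e := S.comm_stab hs
  rw [map_mul, map_inv] at e
  calc (S.φ h)⁻¹ * S.t * S.φ h
      = (S.φ h)⁻¹ * (S.t * (S.φ h * (S.φ g)⁻¹)) * S.φ g := by group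
    _ = (S.φ h)⁻¹ * (S.φ h * (S.φ g)⁻¹ * S.t) * S.φ g := by rw [e]
    _ = (S.φ g)⁻¹ * S.t * S.φ g := by group

theorem T_sq (c : List ℕ) : S.T c * S.T c = 1 := by
  unfold T
  split
  · rename_i h
    calc (S.φ h.choose)⁻¹ * S.t * S.φ h.choose * ((S.φ h.choose)⁻¹ * S.t * S.φ h.choose)
        = (S.φ h.choose)⁻¹ * (S.t * S.t) * S.φ h.choose := by group
      _ = 1 := by rw [S.sq]; group
  · simp

/-- colourings that are images of the base colouring -/
def Val (_S : Conj C G) (c : List ℕ) : Prop := ∃ g, code C.c0 g = c

theorem val_wcode (w : List ℕ) : S.Val (wcode C.c0 w) :=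
  ⟨pv w, (wcode_spec _ (Cert.length_of_ok S.ok) w).symm⟩

theorem val_act {c : List ℕ} (h : S.Val c) (w : List ℕ) : S.Val (act w c) := by
  obtain ⟨g, rfl⟩ := h
  exact ⟨g * pv w, (act_spec _ g w).symm⟩

theorem T_act {c : List ℕ} (h : S.Val c) (w : List ℕ) :
    S.T (act w c) = (S.φ (pv w))⁻¹ * S.T c * S.φ (pv w) := by
  obtain ⟨g, rfl⟩ := h
  rw [act_spec, T_code, T_code, map_mul]
  group

theorem T_wcode (w : List ℕ) : S.T (wcode C.c0 w) = (S.φ (pv w))⁻¹ * S.t * S.φ (pv w) := by
  rw [wcode_spec _ (Cert.length_of_ok S.ok), T_code]

/-- the value of a list of colourings followed by a word -/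
noncomputable def val (s : List (List ℕ) × List ℕ) : G := (s.1.map S.T).prod * S.φ (pv s.2)

theorem prod_act (w : List ℕ) : ∀ (L : List (List ℕ)), (∀ c ∈ L, S.Val c) →
    ((L.map (act w)).map S.T).prod = (S.φ (pv w))⁻¹ * (L.map S.T).prod * S.φ (pv w) := by
  intro L
  induction L with
  | nil => simp
  | cons c L ih =>
    intro h
    simp only [List.forall_mem_cons] at h
    simp only [List.map_cons, List.prod_cons, ih h.2, S.T_act h.1]
    group

end Conj

/-- a relation: colourings given by words, followed by a word -/
abbrev Rel := List (List ℕ) × List ℕ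

/-- a move: kind, place, relation number, word -/
abbrev Move := ℕ × ℕ × ℕ × List ℕ

/-- the initial state of a relation -/
noncomputable def Cert.start (C : Cert) (r : Rel) : List (List ℕ) × List ℕ := (r.1.map (wcode C.c0), r.2)

/-- equality of colourings -/
def ceq : List ℕ → List ℕ → Bool
  | [], [] => true
  | a :: l, b :: m => Nat.beq a b && ceq l m
  | _, _ => false

theorem actP_eq (w : List ℕ) : actP (pts.map (wg (wi w))) = act w := by
  funext c
  rw [act, forceL_eq]

theorem eq_of_ceq : ∀ {l m : List ℕ}, ceq l m = true → l = m
  | [], [], _ => rfl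
  | [], _ :: _, h => by simp [ceq] at h
  | _ :: _, [], h => by simp [ceq] at h
  | a :: l, b :: m, h => by
    simp only [ceq, Bool.and_eq_true, Nat.beq_eq] at h
    rw [h.1, eq_of_ceq h.2]

/-- equality of lists of colourings -/
def leq : List (List ℕ) → List (List ℕ) → Bool
  | [], [] => true
  | a :: l, b :: m => ceq a b && leq l m
  | _, _ => false

theorem eq_of_leq : ∀ {l m : List (List ℕ)}, leq l m = true → l = m
  | [], [], _ => rfl
  | [], _ :: _, h => by simp [leq] at h
  | _ :: _, [], h => by simp [leq] at h
  | a :: l, b :: m, h => by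
    simp only [leq, Bool.and_eq_true] at h
    rw [eq_of_ceq h.1, eq_of_leq h.2]

/-- carry out one move: `0` deletes an equal pair, `1` inserts a pair, others insert a conjugate
of a relation, whose word moves to the right end -/
noncomputable def Cert.step (C : Cert) (rels : List Rel) (s : List (List ℕ) × List ℕ) :
    Move → Option (List (List ℕ) × List ℕ)
  | (0, p, _, _) =>
    match s.1.drop p with
    | a :: b :: rest => if ceq a b then some (s.1.take p ++ rest, s.2) else none
    | _ => none
  | (1, p, _, w) => some (s.1.take p ++ wcode C.c0 w :: wcode C.c0 w :: s.1.drop p, s.2)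
  | (_, p, k, w) =>
    match rels[k]? with
    | none => none
    | some r =>
      forceL (pts.map (wg (wi w))) fun pw =>
        match r.2 with
        | [] => some (s.1.take p ++ (r.1.map fun u => actP pw (wcode C.c0 u)) ++ s.1.drop p, s.2)
        | _ :: _ =>
          forceL (pts.map (wg (wi (wi (wi w ++ r.2 ++ w))))) fun pz =>
            some (s.1.take p ++ (r.1.map fun u => actP pw (wcode C.c0 u)) ++
              (s.1.drop p).map (actP pz), (wi w ++ r.2 ++ w) ++ s.2)

/-- carry out all moves -/
noncomputable def Cert.steps (C : Cert) (rels : List Rel) :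
    List (List ℕ) × List ℕ → List Move → Option (List (List ℕ) × List ℕ)
  | s, [] => some s
  | s, m :: ms =>
    match C.step rels s m with
    | none => none
    | some s' => C.steps rels s' ms

/-- evaluate all entries before going on -/
noncomputable def forceLL {α : Type} : List (List ℕ) → (List (List ℕ) → α) → α
  | [], k => k []
  | a :: l, k => forceL a fun a => forceLL l fun l => k (a :: l)

theorem forceLL_eq {α : Type} : ∀ (l : List (List ℕ)) (k : List (List ℕ) → α), forceLL l k = k l
  | [], k => rfl
  | a :: l, k => by rw [forceLL, forceL_eq, forceLL_eq l]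

/-- carry out the moves, evaluating after each one -/
noncomputable def Cert.run (C : Cert) (rels : List Rel) (fin : List (List ℕ) × List ℕ → Bool) :
    List Move → List (List ℕ) → List ℕ → Bool
  | [], L, tl => fin (L, tl)
  | m :: ms, L, tl =>
    match C.step rels (L, tl) m with
    | none => false
    | some s => forceLL s.1 fun L => forceL s.2 fun tl => C.run rels fin ms L tl

theorem Cert.run_spec {C : Cert} {rels : List Rel} {fin : List (List ℕ) × List ℕ → Bool} :
    ∀ (ms : List Move) (L : List (List ℕ)) (tl : List ℕ), C.run rels fin ms L tl = true →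
      ∃ s, C.steps rels (L, tl) ms = some s ∧ fin s = true := by
  intro ms
  induction ms with
  | nil => intro L tl h; exact ⟨_, rfl, h⟩
  | cons m ms ih =>
    intro L tl h
    simp only [Cert.run] at h
    simp only [Cert.steps]
    split at h
    · simp at h
    · rename_i s hs
      rw [forceLL_eq, forceL_eq] at h
      exact ih _ _ h

/-- the moves lead from one side to the other -/
noncomputable def Cert.derives (C : Cert) (rels : List Rel) (a b : Rel) (ms : List Move) : Bool :=
  forceLL (C.start a).1 fun L => forceL (C.start a).2 fun tl =>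
    C.run rels (fun s => leq s.1 (C.start b).1 && sameW s.2 b.2) ms L tl

namespace Conj

variable {C : Cert} {G : Type*} [Group G] (S : Conj C G)

/-- the value of a relation -/
noncomputable def rval (r : Rel) : G := S.val (C.start r)

theorem rval_eq (r : Rel) : S.rval r =
    (r.1.map fun w => (S.φ (pv w))⁻¹ * S.t * S.φ (pv w)).prod * S.φ (pv r.2) := by
  simp [rval, val, Cert.start, List.map_map, Function.comp_def, T_wcode]

theorem step_spec {rels : List Rel} (hR : ∀ r ∈ rels, S.rval r = 1) :
    ∀ (m : Move) {s s' : List (List ℕ) × List ℕ}, (∀ c ∈ s.1, S.Val c) →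
      C.step rels s m = some s' → (∀ c ∈ s'.1, S.Val c) ∧ S.val s' = S.val s := by
  rintro ⟨kind, p, k, w⟩ ⟨L, tl⟩ s' hv h
  simp only at hv
  have hsplit : L = L.take p ++ L.drop p := (List.take_append_drop p L).symm
  match kind with
  | 0 =>
    simp only [Cert.step] at h
    split at h
    · rename_i a b rest hd
      split at h
      · rename_i hab
        simp only [Option.some.injEq] at h
        subst h
        have hab := eq_of_ceq hab
        subst hab
        rw [hd] at hsplit
        refine ⟨fun c hc => hv c ?_, ?_⟩
        · rw [hsplit]; simp only [List.mem_append, List.mem_cons] at hc ⊢; tauto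
        · simp only [val]
          conv_rhs => rw [hsplit]
          simp only [List.map_append, List.map_cons, List.prod_append, List.prod_cons,
            ← mul_assoc (S.T a) (S.T a), S.T_sq, one_mul]
      · simp at h
    · simp at h
  | 1 =>
    simp only [Cert.step, Option.some.injEq] at h
    subst h
    refine ⟨fun c hc => ?_, ?_⟩
    · simp only [List.mem_append, List.mem_cons] at hc
      rcases hc with hc | rfl | rfl | hc
      · exact hv c (List.mem_of_mem_take hc)
      · exact S.val_wcode w
      · exact S.val_wcode w
      · exact hv c (List.mem_of_mem_drop hc)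
    · simp only [val]
      conv_rhs => rw [hsplit]
      simp only [List.map_append, List.map_cons, List.prod_append, List.prod_cons,
        ← mul_assoc (S.T (wcode C.c0 w)) (S.T (wcode C.c0 w)), S.T_sq, one_mul]
  | n + 2 =>
    simp only [Cert.step] at h
    split at h
    · simp at h
    · rename_i r hr
      simp only [forceL_eq, actP_eq] at h
      set z := wi w ++ r.2 ++ w with hz
      have h' : s' = (L.take p ++ (r.1.map fun u => act w (wcode C.c0 u)) ++
          (L.drop p).map (act (wi z)), z ++ tl) ∨
          (r.2 = [] ∧ s' = (L.take p ++ (r.1.map fun u => act w (wcode C.c0 u)) ++ L.drop p, tl)) := by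
        split at h
        · rename_i hr2
          exact Or.inr ⟨hr2, (Option.some.inj h).symm⟩
        · exact Or.inl (Option.some.inj h).symm
      clear h
      have hmain : (∀ c ∈ s'.1, S.Val c) ∧ S.val s' = S.val (L, tl) → (∀ c ∈ s'.1, S.Val c) ∧
          S.val s' = S.val (L, tl) := id
      refine hmain ?_
      have hrr0 : ∀ c ∈ r.1.map (wcode C.c0), S.Val c := by
        intro c hc; obtain ⟨u, -, rfl⟩ := List.mem_map.mp hc; exact S.val_wcode u
      rcases h' with rfl | ⟨hr2, rfl⟩
      rotate_left
      · have h1 : ((r.1.map (wcode C.c0)).map S.T).prod * S.φ (pv r.2) = 1 :=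
          hR r (List.mem_of_getElem? hr)
        rw [hr2, pv_nil, map_one, mul_one] at h1
        refine ⟨fun c hc => ?_, ?_⟩
        · simp only [List.mem_append, List.mem_map] at hc
          rcases hc with (hc | ⟨u, -, rfl⟩) | hc
          · exact hv c (List.mem_of_mem_take hc)
          · exact S.val_act (S.val_wcode u) w
          · exact hv c (List.mem_of_mem_drop hc)
        · have hmid : ((r.1.map fun u => act w (wcode C.c0 u)).map S.T).prod = 1 := by
            have := S.prod_act w (r.1.map (wcode C.c0)) hrr0
            rw [List.map_map (f := wcode C.c0) (g := act w), h1] at this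
            change ((r.1.map (act w ∘ wcode C.c0)).map S.T).prod = 1
            rw [this]; group
          simp only [val]
          conv_rhs => rw [hsplit]
          simp only [List.map_append, List.prod_append, hmid, mul_one]
      refine ⟨fun c hc => ?_, ?_⟩
      · simp only [List.mem_append, List.mem_map] at hc
        rcases hc with (hc | ⟨u, -, rfl⟩) | ⟨d, hd, rfl⟩
        · exact hv c (List.mem_of_mem_take hc)
        · exact S.val_act (S.val_wcode u) w
        · exact S.val_act (hv d (List.mem_of_mem_drop hd)) _
      · have hdrop : ∀ c ∈ L.drop p, S.Val c := fun c hc => hv c (List.mem_of_mem_drop hc)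
        have hrr : ((r.1.map fun u => act w (wcode C.c0 u)).map S.T).prod * S.φ (pv z) = 1 := by
          have h1 : ((r.1.map (wcode C.c0)).map S.T).prod * S.φ (pv r.2) = 1 :=
            hR r (List.mem_of_getElem? hr)
          have := S.prod_act w (r.1.map (wcode C.c0)) (by
            intro c hc; obtain ⟨u, -, rfl⟩ := List.mem_map.mp hc; exact S.val_wcode u)
          rw [List.map_map (f := wcode C.c0) (g := act w)] at this
          change ((r.1.map (act w ∘ wcode C.c0)).map S.T).prod * _ = 1
          rw [this, hz, pv_append, pv_append, pv_wi, map_mul, map_mul, map_inv,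
            eq_inv_of_mul_eq_one_left h1]
          group
        simp only [val]
        conv_rhs => rw [hsplit]
        simp only [List.map_append, List.prod_append, S.prod_act _ _ hdrop, pv_append, pv_wi,
          map_mul, map_inv, inv_inv]
        rw [eq_inv_of_mul_eq_one_left hrr]
        group

theorem steps_spec {rels : List Rel} (hR : ∀ r ∈ rels, S.rval r = 1) :
    ∀ (ms : List Move) {s s' : List (List ℕ) × List ℕ}, (∀ c ∈ s.1, S.Val c) →
      C.steps rels s ms = some s' → S.val s' = S.val s := by
  intro ms
  induction ms with
  | nil => intro s s' _ h; simp only [Cert.steps, Option.some.injEq] at h; rw [h]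
  | cons m ms ih =>
    intro s s' hv h
    simp only [Cert.steps] at h
    split at h
    · simp at h
    · rename_i t ht
      obtain ⟨hv', e⟩ := S.step_spec hR m hv ht
      rw [ih hv' h, e]

theorem derives_spec {rels : List Rel} (hR : ∀ r ∈ rels, S.rval r = 1) {a b : Rel}
    {ms : List Move} (h : C.derives rels a b ms = true) : S.rval a = S.rval b := by
  simp only [Cert.derives, forceLL_eq, forceL_eq] at h
  obtain ⟨s, hs, h⟩ := Cert.run_spec ms _ _ h
  simp only [Bool.and_eq_true] at h
  have e := S.steps_spec hR ms (by
    intro c hc; obtain ⟨u, -, rfl⟩ := List.mem_map.mp hc; exact S.val_wcode u) hs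
  rw [rval, ← e, rval, val, val, ← eq_of_leq h.1, pv_eq h.2]
  rfl

/-- add a derived relation -/
theorem rels_snoc {rels : List Rel} (hR : ∀ r ∈ rels, S.rval r = 1) {a : Rel} {ms : List Move}
    (h : C.derives rels a ([], []) ms = true) : ∀ r ∈ rels ++ [a], S.rval r = 1 := by
  intro r hr
  rcases List.mem_append.mp hr with hr | hr
  · exact hR r hr
  · rw [List.mem_singleton.mp hr, S.derives_spec hR h]
    simp [rval_eq]

end Conj

end H84.J4N
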